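import Mathlib

/-!
Mitchell package: the classes of the alternating group of degree seven needed for the traces.
-/

set_option autoImplicit false
set_option linter.unusedSectionVars false
set_option linter.style.haveILetI false

namespace Cfsg.Agent.Lib.Mitchell3

open Equiv Equiv.Perm

theorem alt7_types {t : Multiset ℕ} (h2 : ∀ a ∈ t, 2 ≤ a) (hs : t.sum ≤ 7)
    (he : Even (t.sum + Multiset.card t)) :
    t = 0 ∨ t = {3} ∨ t = {5} ∨ t = {7} ∨ t = {2, 2} ∨ t = {3, 3} ∨ t = {4, 2} ∨ t = {3, 2, 2} := by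
  have hc : Multiset.card t * 2 ≤ t.sum := by
    simpa using Multiset.card_nsmul_le_sum (s := t) (a := 2) h2
  rcases (by omega : Multiset.card t = 0 ∨ Multiset.card t = 1 ∨ Multiset.card t = 2 ∨ Multiset.card t = 3) with
    h | h | h | h
  · exact Or.inl (Multiset.card_eq_zero.mp h)
  · obtain ⟨a, rfl⟩ := Multiset.card_eq_one.mp h
    have := h2 a (by simp)
    simp only [Multiset.sum_singleton, Multiset.card_singleton, Nat.even_iff] at hs he
    rcases (by omega : a = 3 ∨ a = 5 ∨ a = 7) with rfl | rfl | rfl <;> decide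
  · obtain ⟨a, b, rfl⟩ := Multiset.card_eq_two.mp h
    have := h2 a (by simp)
    have := h2 b (by simp)
    simp only [Multiset.insert_eq_cons, Multiset.sum_cons, Multiset.sum_singleton, Multiset.card_cons,
      Multiset.card_singleton, Nat.even_iff] at hs he
    rcases (by omega : a = 2 ∨ a = 3 ∨ a = 4 ∨ a = 5) with rfl | rfl | rfl | rfl <;>
      rcases (by omega : b = 2 ∨ b = 3 ∨ b = 4 ∨ b = 5) with rfl | rfl | rfl | rfl <;>
      first | omega | decide
  · obtain ⟨a, b, c, rfl⟩ := Multiset.card_eq_three.mp h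
    have := h2 a (by simp)
    have := h2 b (by simp)
    have := h2 c (by simp)
    simp only [Multiset.insert_eq_cons, Multiset.sum_cons, Multiset.sum_singleton, Multiset.card_cons,
      Multiset.card_singleton, Nat.even_iff] at hs he
    rcases (by omega : a = 2 ∨ a = 3) with rfl | rfl <;>
      rcases (by omega : b = 2 ∨ b = 3) with rfl | rfl <;>
      rcases (by omega : c = 2 ∨ c = 3) with rfl | rfl <;> first | omega | decide

/-- A property of conjugates of a representative. -/
theorem transfer_conj {c w : Perm (Fin 7)} (hw : sign w = 1) {j : ℕ} (hj : w * c * w⁻¹ = c ^ j)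
    (x : alternatingGroup (Fin 7)) (hx : (x : Perm (Fin 7)).cycleType = c.cycleType) :
    ∃ v : alternatingGroup (Fin 7), v * x * v⁻¹ = x ^ j := by
  obtain ⟨σ, hσ⟩ := isConj_iff.mp ((Equiv.Perm.isConj_iff_cycleType_eq).mpr hx.symm)
  refine ⟨⟨σ * w * σ⁻¹, by rw [Equiv.Perm.mem_alternatingGroup, map_mul, map_mul, map_inv, hw, mul_one,
    mul_inv_cancel]⟩, Subtype.ext ?_⟩
  simp only [Subgroup.coe_mul, Subgroup.coe_inv, Subgroup.coe_pow]
  rw [← hσ, conj_pow, ← hj]
  group

/-- The orders and the needed fusion in `A₇`. -/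
theorem alt7_cases (x : alternatingGroup (Fin 7)) :
    x ^ 2 = 1 ∨ x ^ 3 = 1 ∨ x ^ 5 = 1 ∨ x ^ 6 = 1 ∨
      (x ^ 4 = 1 ∧ ∃ v, v * x * v⁻¹ = x ^ 3) ∨ (x ^ 7 = 1 ∧ ∃ v, v * x * v⁻¹ = x ^ 2) := by
  have key : ∀ n : ℕ, (x : Perm (Fin 7)).cycleType.lcm ∣ n → x ^ n = 1 := fun n hn => by
    rw [Equiv.Perm.lcm_cycleType, Subgroup.orderOf_coe] at hn
    exact orderOf_dvd_iff_pow_eq_one.mp hn
  have he : Even ((x : Perm (Fin 7)).cycleType.sum + Multiset.card (x : Perm (Fin 7)).cycleType) := by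
    have h := Equiv.Perm.mem_alternatingGroup.1 x.2
    rw [sign_of_cycleType, neg_one_pow_eq_one_iff_even (by decide)] at h
    exact h
  have hs : (x : Perm (Fin 7)).cycleType.sum ≤ 7 := by
    have := sum_cycleType_le (x : Perm (Fin 7))
    simpa using this
  rcases alt7_types (fun a ha => two_le_of_mem_cycleType ha) hs he with h | h | h | h | h | h | h | h
  · exact Or.inl (key 2 (by rw [h]; decide))
  · exact Or.inr (Or.inl (key 3 (by rw [h]; decide)))
  · exact Or.inr (Or.inr (Or.inl (key 5 (by rw [h]; decide))))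
  · refine Or.inr (Or.inr (Or.inr (Or.inr (Or.inr ⟨key 7 (by rw [h]; decide), ?_⟩))))
    refine transfer_conj (c := c[0, 1, 2, 3, 4, 5, 6]) (w := c[1, 2, 4] * c[3, 6, 5]) (by decide)
      (Equiv.ext (by decide +kernel)) x (h.trans ?_)
    decide +kernel
  · exact Or.inl (key 2 (by rw [h]; decide))
  · exact Or.inr (Or.inl (key 3 (by rw [h]; decide)))
  · refine Or.inr (Or.inr (Or.inr (Or.inr (Or.inl ⟨key 4 (by rw [h]; decide), ?_⟩))))
    refine transfer_conj (c := c[0, 1, 2, 3] * c[4, 5]) (w := c[1, 3] * c[4, 5]) (by decide)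
      (Equiv.ext (by decide +kernel)) x (h.trans ?_)
    decide +kernel
  · exact Or.inr (Or.inr (Or.inr (Or.inl (key 6 (by rw [h]; decide)))))

end Cfsg.Agent.Lib.Mitchell3
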