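import Mathlib

/-!
Mitchell package: the class equation of the semidihedral/wreathed case has the only solution `2976`.
-/

set_option autoImplicit false

namespace Cfsg.Agent.Lib.Mitchell3

theorem unip_reduce {γ q k A B : ℕ} (hq : 1 < q) (hk : k ∣ q - 1) (hlt : q * k < γ)
    (hdvd : q * k ∣ γ) (hA : 0 < A) (hB : 0 < B)
    (heq : γ * (A * q * k + B) = B * q * γ + B * q * k) :
    k = B / A ∧ q * (B % A) < B ∧ (B - q * (B % A)) * γ = B * q * k ∧ ∃ j, j < 2 * A ∧ q = 1 + j * k := by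
  have hk0 : 0 < k := Nat.pos_of_ne_zero fun e => by
    rw [e, zero_dvd_iff] at hk; omega
  have hqk : 0 < q * k := by positivity
  have h2 : 2 * (q * k) ≤ γ := by
    obtain ⟨c, rfl⟩ := hdvd
    have : 1 < c := Nat.lt_of_mul_lt_mul_left (a := q * k) (by simpa using hlt)
    calc 2 * (q * k) = q * k * 2 := Nat.mul_comm _ _
      _ ≤ q * k * c := Nat.mul_le_mul_left _ this
  zify at heq h2 hq hk0 hqk
  have hkq : (k : ℤ) + 1 ≤ q := by
    have := Nat.le_of_dvd (by omega) hk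
    omega
  obtain ⟨s, hs⟩ : ∃ s : ℤ, s = A * q * k + B - B * q := ⟨_, rfl⟩
  have hγs : (γ : ℤ) * s = B * (q * k) := by rw [hs]; linear_combination heq
  have hs0 : 0 < s := by
    by_contra h
    push Not at h
    have : (γ : ℤ) * s ≤ 0 := mul_nonpos_of_nonneg_of_nonpos (by positivity) h
    have : (0 : ℤ) < B * (q * k) := by positivity
    omega
  have hsB : 2 * s ≤ B := by
    have h1 := mul_le_mul_of_nonneg_right h2 hs0.le
    rw [hγs] at h1
    exact le_of_mul_le_mul_right (a := (q : ℤ) * k) (by linarith) hqk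
  have hqe : (q : ℤ) * (B - A * k) = B - s := by rw [hs]; ring
  have he0 : (0 : ℤ) < B - A * k := by
    by_contra h
    push Not at h
    have : (q : ℤ) * (B - A * k) ≤ 0 := mul_nonpos_of_nonneg_of_nonpos (by positivity) h
    omega
  have heA : (B : ℤ) - A * k < A := by
    by_contra h
    push Not at h
    have h1 : ((k : ℤ) + 1) * (B - A * k) ≤ q * (B - A * k) :=
      mul_le_mul_of_nonneg_right hkq he0.le
    have h3 : (k : ℤ) * A ≤ k * (B - A * k) := mul_le_mul_of_nonneg_left h (by positivity)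
    nlinarith
  obtain ⟨e, he⟩ : ∃ e : ℕ, (e : ℤ) = B - A * k := ⟨B - A * k, by
    have : (A * k : ℕ) ≤ B := by zify; omega
    push_cast [this]; ring⟩
  have heA' : e < A := by omega
  have hBe : B = e + A * k := by zify; rw [he]; ring
  have hdiv : k = B / A := by
    rw [hBe, Nat.add_mul_div_left _ _ hA, Nat.div_eq_of_lt heA', zero_add]
  have hmod : B % A = e := by
    rw [hBe, Nat.add_mul_mod_self_left, Nat.mod_eq_of_lt heA']
  have hlt' : q * e < B := by zify; rw [he, hqe]; omega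
  obtain ⟨j, hj⟩ := hk
  refine ⟨hdiv, by rw [hmod]; exact hlt', ?_, j, ?_, ?_⟩
  · rw [hmod]
    zify [hlt'.le]
    rw [he, hqe]
    linear_combination hγs
  · have h1 : q ≤ q * e := Nat.le_mul_of_pos_right _ (by omega)
    have h3 : q = 1 + k * j := by omega
    by_contra h
    push Not at h
    have : k * (2 * A) ≤ k * j := Nat.mul_le_mul_left _ h
    have : A ≤ k * A := Nat.le_mul_of_pos_left _ (by omega)
    nlinarith
  · rw [mul_comm j k, ← hj]; omega

/-- The finite check for one shape of the class equation with a unipotent class. -/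
def Chk (A B L D M : ℕ) : Prop :=
  ∀ j < 2 * A, (1 + j * (B / A)) % 2 = 1 ∧ (1 + j * (B / A)) * (B % A) < B ∧
    B - (1 + j * (B / A)) * (B % A) ∣ B * (1 + j * (B / A)) * (B / A) ∧
    L ∣ B * (1 + j * (B / A)) * (B / A) / (B - (1 + j * (B / A)) * (B % A)) ∧
    D ∣ B * (1 + j * (B / A)) * (B / A) / (B - (1 + j * (B / A)) * (B % A)) ∧
    (1 + j * (B / A)) * (B / A) ∣
      B * (1 + j * (B / A)) * (B / A) / (B - (1 + j * (B / A)) * (B % A)) ∧
    (1 + j * (B / A)) * (B / A) <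
      B * (1 + j * (B / A)) * (B / A) / (B - (1 + j * (B / A)) * (B % A)) →
    B * (1 + j * (B / A)) * (B / A) / (B - (1 + j * (B / A)) * (B % A)) = M

instance (A B L D M : ℕ) : Decidable (Chk A B L D M) := by unfold Chk; infer_instance

theorem chk_use {γ A B L D U M : ℕ} (hA : 0 < A) (hB : 0 < B) (heq : B * (U + 1) = A * γ) (hL : L ∣ γ)
    (hD : D ∣ γ) (hc : Chk A B L D M) (h0 : U = 0 → γ = M)
    (hU : U = 0 ∨ ∃ q k, Odd q ∧ 1 < q ∧ k ∣ q - 1 ∧ q * k ∣ γ ∧ q * k < γ ∧ q * k * U = γ * (q - 1)) :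
    γ = M := by
  rcases hU with h | ⟨q, k, hodd, hq, hk, hdvd, hlt, hU⟩
  · exact h0 h
  have heq' : γ * (A * q * k + B) = B * q * γ + B * q * k := by
    obtain ⟨q', rfl⟩ : ∃ q', q = q' + 1 := ⟨q - 1, by omega⟩
    rw [Nat.add_sub_cancel] at hU
    calc γ * (A * (q' + 1) * k + B) = (q' + 1) * k * (A * γ) + B * γ := by ring
      _ = B * ((q' + 1) * k * U) + B * ((q' + 1) * k) + B * γ := by rw [← heq]; ring
      _ = _ := by rw [hU]; ring
  obtain ⟨hk', hlt', hγ, j, hj, hjq⟩ := unip_reduce hq hk hlt hdvd hA hB heq'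
  have hd0 : 0 < B - q * (B % A) := by omega
  have hγ' : γ = B * q * k / (B - q * (B % A)) := by
    rw [← hγ, Nat.mul_div_cancel_left _ hd0]
  have := hc j hj
  simp only [← hk', ← hjq] at this
  rw [hγ']
  exact this ⟨Nat.odd_iff.mp hodd, hlt', Dvd.intro _ hγ, hγ' ▸ hL, hγ' ▸ hD, hγ' ▸ hdvd, hγ' ▸ hlt⟩

theorem chk_two_family : ∀ a < 6, (3 ≤ a ∧ a % 2 = 1 ∧ a ≠ 5) → Chk (16 - 3 * a) (48 * a) 48 (3 * a) 0 := by
  decide +kernel

theorem chk_four_family : ∀ a < 32, (3 ≤ a ∧ a % 2 = 1 ∧ a ≠ 5) →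
    Chk (32 - a) (96 * a) 96 (3 * a) 2976 := by
  decide +kernel

theorem pure_two_family : ∀ a < 6, (3 ≤ a ∧ a % 2 = 1 ∧ a ≠ 5) → ¬ (16 - 3 * a) ∣ 48 * a := by
  decide +kernel

theorem pure_four_family : ∀ a < 32, (3 ≤ a ∧ a % 2 = 1 ∧ a ≠ 5) → (32 - a) ∣ 96 * a ∧
    96 ∣ 96 * a / (32 - a) ∧ 3 * a ∣ 96 * a / (32 - a) → 96 * a / (32 - a) = 2976 := by
  decide +kernel

theorem class_equation {γ m T U : ℕ} (hγ0 : 0 < γ)
    (hm : m = 2 ∧ 48 * (T + U + 1) = 13 * γ ∨ m = 4 ∧ 96 * (T + U + 1) = 31 * γ)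
    (hmγ : 24 * m ∣ γ)
    (hT : T = 0 ∨ 9 * T = γ ∨ ∃ a, Odd a ∧ 3 ≤ a ∧ a ≠ 5 ∧ 3 * a ∣ γ ∧ 3 * a * T = γ * (a - 1))
    (hU : U = 0 ∨ ∃ q k, Odd q ∧ 1 < q ∧ k ∣ q - 1 ∧ q * k ∣ γ ∧ q * k < γ ∧ q * k * U = γ * (q - 1)) :
    m = 4 ∧ γ = 2976 := by
  rcases hm with ⟨rfl, hm⟩ | ⟨rfl, hm⟩ <;> rcases hT with hT | hT | ⟨a, hao, ha3, ha2, had, hT⟩
  · exact absurd (chk_use (M := 0) (A := 13) (B := 48) (L := 48) (D := 1) (by norm_num) (by norm_num) (by omega) hmγ
      (one_dvd _) (by decide +kernel) (fun h => by omega) hU) hγ0.ne'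
  · exact absurd (chk_use (M := 0) (A := 23) (B := 144) (L := 48) (D := 1) (by norm_num) (by norm_num) (by omega) hmγ
      (one_dvd _) (by decide +kernel) (fun h => by omega) hU) hγ0.ne'
  · obtain ⟨a', rfl⟩ : ∃ a', a = a' + 1 := ⟨a - 1, by omega⟩
    rw [Nat.add_sub_cancel] at hT
    have h1 : 48 * (a' + 1) * (U + 1) + 16 * (γ * a') = 13 * (γ * (a' + 1)) := by
      rw [← hT]
      calc _ = (a' + 1) * (48 * (T + U + 1)) := by ring
        _ = _ := by rw [hm]; ring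
    have hlt : 3 * (a' + 1) < 16 := by
      by_contra h
      push Not at h
      have := Nat.mul_le_mul_left γ h
      nlinarith
    have heq : 48 * (a' + 1) * (U + 1) = (16 - 3 * (a' + 1)) * γ := by
      rw [Nat.sub_mul]
      have : 3 * (a' + 1) * γ ≤ 16 * γ := Nat.mul_le_mul_right _ hlt.le
      zify [this] at h1 ⊢
      linear_combination h1
    exact absurd (chk_use (M := 0) (by omega) (by omega) heq hmγ had (chk_two_family _ (by omega) ⟨ha3, Nat.odd_iff.mp hao, ha2⟩)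
      (fun h => absurd ⟨γ, by rw [← heq, h]; ring⟩ (pure_two_family _ (by omega) ⟨ha3, Nat.odd_iff.mp hao, ha2⟩)) hU) hγ0.ne'
  · refine ⟨rfl, ?_⟩
    exact chk_use (M := 2976) (A := 31) (B := 96) (L := 96) (D := 1) (by norm_num) (by norm_num) (by omega) hmγ
      (one_dvd _) (by decide +kernel) (fun h => by omega) hU
  · refine ⟨rfl, ?_⟩
    exact chk_use (M := 2976) (A := 61) (B := 288) (L := 96) (D := 1) (by norm_num) (by norm_num) (by omega) hmγ
      (one_dvd _) (by decide +kernel) (fun h => by omega) hU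
  · obtain ⟨a', rfl⟩ : ∃ a', a = a' + 1 := ⟨a - 1, by omega⟩
    rw [Nat.add_sub_cancel] at hT
    have h1 : 96 * (a' + 1) * (U + 1) + 32 * (γ * a') = 31 * (γ * (a' + 1)) := by
      rw [← hT]
      calc _ = (a' + 1) * (96 * (T + U + 1)) := by ring
        _ = _ := by rw [hm]; ring
    have hlt : a' + 1 < 32 := by
      by_contra h
      push Not at h
      have := Nat.mul_le_mul_left γ h
      nlinarith
    have heq : 96 * (a' + 1) * (U + 1) = (32 - (a' + 1)) * γ := by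
      rw [Nat.sub_mul]
      have : (a' + 1) * γ ≤ 32 * γ := Nat.mul_le_mul_right _ hlt.le
      zify [this] at h1 ⊢
      linear_combination h1
    refine ⟨rfl, ?_⟩
    refine chk_use (M := 2976) (by omega) (by omega) heq hmγ had
      (chk_four_family _ hlt ⟨ha3, Nat.odd_iff.mp hao, ha2⟩) (fun h => ?_) hU
    rw [h, zero_add, mul_one] at heq
    have hγ : γ = 96 * (a' + 1) / (32 - (a' + 1)) := by
      rw [heq, Nat.mul_div_cancel_left _ (by omega)]
    rw [hγ]
    exact pure_four_family _ hlt ⟨ha3, Nat.odd_iff.mp hao, ha2⟩ ⟨Dvd.intro _ heq.symm, hγ ▸ hmγ, hγ ▸ had⟩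

end Cfsg.Agent.Lib.Mitchell3
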