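import Cfsg.Agent.Lib.Subspaces.Transvection

/-!
Mitchell package, basics: homologies of the projective plane as matrices of determinant one, and the
dichotomy "homology or commutative centraliser" for the elements of a transvection-free group.
-/

set_option autoImplicit false

namespace Cfsg.Agent.Lib.Mitchell3

open Matrix Module
open Cfsg.Agent.Lib.Subspaces.Transvection

variable {K : Type*} [Field K]

/-- All elements have determinant one. -/
def InSL (G : Subgroup (GL (Fin 3) K)) : Prop := ∀ g ∈ G, (g : Matrix (Fin 3) (Fin 3) K).det = 1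

/-- There is no transvection in `G`. -/
def IsTF (G : Subgroup (GL (Fin 3) K)) : Prop :=
  ∀ v φ : Fin 3 → K, φ ⬝ᵥ v = 0 → tv v φ ∈ G → tv v φ = 1

/-- The matrix equal to `l` on the kernel of `φ` and to `l ^ (-2)` on `a`. -/
def homMat (a φ : Fin 3 → K) (l : K) : Matrix (Fin 3) (Fin 3) K :=
  l • 1 + ((l ^ 2)⁻¹ - l) • vecMulVec a φ

/-- `g` is a homology with centre `a`, axis `φ = 0` and multiplier `l`. -/
def HomData (g : GL (Fin 3) K) (a φ : Fin 3 → K) (l : K) : Prop :=
  φ ⬝ᵥ a = 1 ∧ l ≠ 0 ∧ l ^ 3 ≠ 1 ∧ (g : Matrix (Fin 3) (Fin 3) K) = homMat a φ l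

/-- `g` is a non-scalar homology. -/
def IsHom (g : GL (Fin 3) K) : Prop := ∃ a φ l, HomData g a φ l

/-- `g` is a scalar. -/
def IsSc (g : GL (Fin 3) K) : Prop := ∃ c : K, (g : Matrix (Fin 3) (Fin 3) K) = c • 1

theorem homMat_mulVec (a φ : Fin 3 → K) (l : K) (x : Fin 3 → K) :
    homMat a φ l *ᵥ x = l • x + (((l ^ 2)⁻¹ - l) * (φ ⬝ᵥ x)) • a := by
  rw [homMat, add_mulVec, smul_mulVec, one_mulVec, smul_mulVec, vecMulVec_mulVec,
    op_smul_eq_smul, smul_smul]

theorem homMat_mulVec_centre {a φ : Fin 3 → K} (h : φ ⬝ᵥ a = 1) (l : K) :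
    homMat a φ l *ᵥ a = (l ^ 2)⁻¹ • a := by
  rw [homMat_mulVec, h, mul_one, ← add_smul]; ring_nf

theorem homMat_mulVec_axis {a φ x : Fin 3 → K} (h : φ ⬝ᵥ x = 0) (l : K) :
    homMat a φ l *ᵥ x = l • x := by
  rw [homMat_mulVec, h, mul_zero, zero_smul, add_zero]

theorem homMat_mul {a φ : Fin 3 → K} (h : φ ⬝ᵥ a = 1) (l m : K) :
    homMat a φ l * homMat a φ m = homMat a φ (l * m) := by
  refine Matrix.mulVec_injective (funext fun x => ?_)
  rw [← mulVec_mulVec, homMat_mulVec a φ m x, mulVec_add, mulVec_smul, mulVec_smul,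
    homMat_mulVec_centre h, homMat_mulVec, homMat_mulVec, mul_pow, mul_inv, smul_add, smul_smul,
    smul_smul, smul_smul, add_assoc, ← add_smul]
  ring_nf

theorem homMat_one (a φ : Fin 3 → K) : homMat a φ (1 : K) = 1 := by
  simp [homMat]

theorem homMat_smul {a φ : Fin 3 → K} (l : K) (x : Fin 3 → K) (c : K) :
    homMat a φ l *ᵥ (c • x) = c • (homMat a φ l *ᵥ x) := mulVec_smul _ _ _

theorem homMat_inj {a φ : Fin 3 → K} (h : φ ⬝ᵥ a = 1) {l m : K}
    (e : homMat a φ l = homMat a φ m) : l = m := by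
  have hφ : φ ≠ 0 := fun hh => by simp [hh] at h
  obtain ⟨i, hi⟩ : ∃ i, φ i ≠ 0 := by
    by_contra hc; push Not at hc; exact hφ (funext hc)
  obtain ⟨x, hx0, hx⟩ : ∃ x : Fin 3 → K, x ≠ 0 ∧ φ ⬝ᵥ x = 0 := by
    let j : Fin 3 := i + 1
    have hji : j ≠ i := by fin_cases i <;> decide
    refine ⟨φ j • Pi.single i 1 - φ i • Pi.single j 1, fun h0 => hi ?_, by simp [mul_comm]⟩
    simpa [hji] using congrFun h0 j
  have := congrArg (· *ᵥ x) e
  simp only [homMat_mulVec_axis hx] at this
  exact smul_left_injective K hx0 this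

theorem homMat_det {a φ : Fin 3 → K} (h : φ ⬝ᵥ a = 1) {l : K} (hl : l ≠ 0) :
    (homMat a φ l).det = 1 := by
  have : homMat a φ l = l • (1 + vecMulVec ((((l ^ 2)⁻¹ - l) / l) • a) φ) := by
    rw [homMat, smul_add, smul_vecMulVec, smul_smul, mul_div_cancel₀ _ hl]
  rw [this, det_smul, vecMulVec_eq Unit, det_one_add_replicateCol_mul_replicateRow, dotProduct_smul,
    h, smul_eq_mul, Fintype.card_fin]
  field_simp
  ring

section Dichotomy

theorem finrank_ker_le (M : Matrix (Fin 3) (Fin 3) K) (c : K) (h : ¬ M = c • 1) :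
    finrank K (LinearMap.ker (Matrix.toLin' (M - c • 1))) ≤ 2 := by
  have hlt : finrank K (LinearMap.ker (Matrix.toLin' (M - c • 1))) < finrank K (Fin 3 → K) := by
    refine Submodule.finrank_lt fun htop => h ?_
    rw [LinearMap.ker_eq_top, map_eq_zero_iff _ Matrix.toLin'.injective, sub_eq_zero] at htop
    exact htop
  rw [finrank_fin_fun] at hlt
  omega

/-- In a transvection-free group a non-scalar element with a two-dimensional eigenspace is a
homology. -/
theorem isHom_of_eigenspace {G : Subgroup (GL (Fin 3) K)} (hSL : InSL G) (hTF : IsTF G)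
    {g : GL (Fin 3) K} (hg : g ∈ G) (hns : ¬ IsSc g) (c : K)
    (h2 : 2 ≤ finrank K (LinearMap.ker (Matrix.toLin' ((g : Matrix (Fin 3) (Fin 3) K) - c • 1)))) :
    IsHom g := by
  set M : Matrix (Fin 3) (Fin 3) K := (g : Matrix (Fin 3) (Fin 3) K) with hM
  set W := LinearMap.ker (Matrix.toLin' (M - c • 1)) with hW
  have hW2 : finrank K W = 2 := le_antisymm (finrank_ker_le M c fun e => hns ⟨c, e⟩) h2
  obtain ⟨v, -, hv⟩ := SetLike.exists_of_lt ((lt_top_iff_ne_top (a := W)).mpr fun e => by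
    rw [e, finrank_top, finrank_fin_fun] at hW2; omega)
  obtain ⟨φ, hφW, hφv⟩ := exists_functional hv
  set u : Fin 3 → K := (M - c • 1) *ᵥ v with hu
  have hu0 : u ≠ 0 := fun e => hv (by rw [hW, LinearMap.mem_ker, Matrix.toLin'_apply]; exact e)
  have hsup : W ⊔ Submodule.span K {v} = ⊤ := by
    refine Submodule.eq_top_of_finrank_eq (le_antisymm (Submodule.finrank_le _) ?_)
    rw [finrank_fin_fun]
    have : W < W ⊔ Submodule.span K {v} := lt_of_le_of_ne le_sup_left fun e => hv
      (e ▸ Submodule.mem_sup_right (Submodule.mem_span_singleton_self v))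
    have := Submodule.finrank_lt_finrank_of_lt this
    omega
  have hMx : ∀ x, M *ᵥ x = c • x + (φ ⬝ᵥ x) • u := fun x => by
    obtain ⟨w, hw, y, hy, rfl⟩ := Submodule.mem_sup.mp (hsup ▸ Submodule.mem_top (x := x))
    obtain ⟨d, rfl⟩ := Submodule.mem_span_singleton.mp hy
    have hw' : M *ᵥ w = c • w := by
      have := hw
      rw [hW, LinearMap.mem_ker, Matrix.toLin'_apply, sub_mulVec, sub_eq_zero, smul_mulVec,
        one_mulVec] at this
      exact this
    rw [dotProduct_add, dotProduct_smul, hφW w hw, hφv, zero_add, smul_eq_mul, mul_one, mulVec_add,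
      hw', mulVec_smul, hu, sub_mulVec, smul_mulVec, one_mulVec]
    module
  have hMeq : M = c • 1 + vecMulVec u φ := by
    refine Matrix.mulVec_injective (funext fun x => ?_)
    rw [hMx, add_mulVec, smul_mulVec, one_mulVec, vecMulVec_mulVec, op_smul_eq_smul]
  have hc : c ≠ 0 := fun e => by
    have hd := hSL g hg
    rw [← hM, hMeq, e, zero_smul, zero_add] at hd
    rw [Matrix.det_fin_three] at hd
    simp [vecMulVec_apply] at hd
    apply zero_ne_one (α := K)
    linear_combination hd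
  have hdet : c ^ 3 * (1 + (φ ⬝ᵥ u) / c) = 1 := by
    have hd := hSL g hg
    rw [← hM, hMeq, show c • (1 : Matrix (Fin 3) (Fin 3) K) + vecMulVec u φ =
        c • (1 + vecMulVec (c⁻¹ • u) φ) by
      rw [smul_add, smul_vecMulVec, smul_smul, mul_inv_cancel₀ hc, one_smul], det_smul,
      vecMulVec_eq Unit, det_one_add_replicateCol_mul_replicateRow, dotProduct_smul,
      Fintype.card_fin, smul_eq_mul] at hd
    rw [div_eq_inv_mul]; exact hd
  by_cases hd0 : φ ⬝ᵥ u = 0
  · exfalso
    rw [hd0, zero_div, add_zero, mul_one] at hdet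
    have hu' : φ ⬝ᵥ (c⁻¹ • u) = 0 := by rw [dotProduct_smul, hd0, smul_zero]
    by_cases h3 : (3 : K) = 0
    · have hc1 : c = 1 := by
        have : (c - 1) ^ 3 = 0 := by linear_combination hdet + (c - c ^ 2) * h3
        exact sub_eq_zero.mp (pow_eq_zero_iff three_ne_zero |>.mp this)
      have hgt : g = tv u φ := Units.ext (by rw [← hM, hMeq, hc1, one_smul, coe_tv hd0])
      refine hns ⟨1, ?_⟩
      rw [← hM, hM, hgt, hTF u φ hd0 (hgt ▸ hg), Units.val_one, one_smul]
    · have hg3 : g ^ 3 = tv u ((3 * c ^ 2) • φ) := by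
        refine gl_ext fun x => ?_
        rw [tv_mulVec (by rw [smul_dotProduct, hd0, smul_zero]), Units.val_pow_eq_pow_val, ← hM,
          pow_succ, pow_two, ← mulVec_mulVec, ← mulVec_mulVec, hMx, hMx, hMx]
        simp only [dotProduct_add, dotProduct_smul, hd0, smul_eq_mul, mul_zero, add_zero,
          smul_dotProduct, smul_add, smul_smul, add_smul, zero_mul]
        match_scalars
        · linear_combination hdet
        · ring
      have h1 := hTF u _ (by rw [smul_dotProduct, hd0, smul_zero]) (hg3 ▸ pow_mem hg 3)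
      have h2 := congrArg (fun t : GL (Fin 3) K => (t : Matrix (Fin 3) (Fin 3) K) *ᵥ v) h1
      simp only [tv_mulVec (show ((3 * c ^ 2) • φ) ⬝ᵥ u = 0 by rw [smul_dotProduct, hd0, smul_zero]),
        smul_dotProduct, hφv, smul_eq_mul, mul_one, Units.val_one, one_mulVec, add_eq_left,
        smul_eq_zero, mul_eq_zero, pow_eq_zero_iff two_ne_zero] at h2
      exact h2.elim (fun e => e.elim h3 hc) hu0
  · set d := φ ⬝ᵥ u with hd
    have hl : (c ^ 2)⁻¹ - c = d := by
      field_simp at hdet ⊢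
      linear_combination -hdet
    refine ⟨u, d⁻¹ • φ, c, ?_, hc, fun e => hd0 ?_, ?_⟩
    · rw [smul_dotProduct, ← hd, smul_eq_mul, inv_mul_cancel₀ hd0]
    · rw [← hl]; field_simp; linear_combination -e
    · rw [← hM, hMeq, homMat, hl, vecMulVec_smul, smul_smul, mul_inv_cancel₀ hd0, one_smul]

/-- If all eigenspaces of `M` are lines, the commutant of `M` is commutative. -/
theorem commute_of_cyclic [IsAlgClosed K] (M : Matrix (Fin 3) (Fin 3) K)
    (h1 : ∀ c : K, finrank K (LinearMap.ker (Matrix.toLin' (M - c • 1))) ≤ 1)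
    {X Y : Matrix (Fin 3) (Fin 3) K} (hX : Commute X M) (hY : Commute Y M) : Commute X Y := by
  set T : Module.End K (Fin 3 → K) := Matrix.toLin' M with hT
  have hk : ∀ c : K, finrank K (LinearMap.ker (T - c • 1)) ≤ 1 := fun c => by
    have e : T - c • (1 : Module.End K (Fin 3 → K)) = Matrix.toLin' (M - c • 1) := by
      rw [map_sub, map_smul, Matrix.toLin'_one]; rfl
    rw [e]; exact h1 c
  haveI : Finite {c : K // T.HasEigenvalue c} := inferInstanceAs (Finite T.Eigenvalues)
  let p : {c : K // T.HasEigenvalue c} × {c : K // T.HasEigenvalue c} → Submodule K (Fin 3 → K) :=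
    fun i =>
    LinearMap.ker ((T - (i.1 : K) • 1) ∘ₗ (T - (i.2 : K) • 1))
  have hp : ∀ i, p i ≠ ⊤ := fun i htop => by
    have hle : LinearMap.range (T - (i.2 : K) • 1) ≤ LinearMap.ker (T - (i.1 : K) • 1) :=
      LinearMap.range_le_ker_iff.mpr (LinearMap.ker_eq_top.mp htop)
    have h3 := LinearMap.finrank_range_add_finrank_ker (T - (i.2 : K) • 1)
    rw [finrank_fin_fun] at h3
    have := Submodule.finrank_mono hle
    have := hk (i.1 : K)
    have := hk (i.2 : K)
    omega
  obtain ⟨v, hv⟩ := Submodule.exists_forall_notMem_of_forall_ne_top p hp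
  obtain ⟨e₀, he₀⟩ := Module.End.exists_eigenvalue T
  have hv0 : v ≠ 0 := fun e => hv (⟨e₀, he₀⟩, ⟨e₀, he₀⟩) (e ▸ zero_mem _)
  have heig : ∀ (c : K) (w : Fin 3 → K), w ≠ 0 → (T - c • 1) w = 0 → T.HasEigenvalue c :=
    fun c w hw hw0 => Module.End.hasEigenvalue_of_hasEigenvector (x := w)
      ⟨Module.End.mem_eigenspace_iff.mpr (by simpa [sub_eq_zero] using hw0), hw⟩
  have heig1 : ∀ c : K, (T - c • 1) v ≠ 0 := fun c h0 =>
    hv (⟨c, heig c v hv0 h0⟩, ⟨c, heig c v hv0 h0⟩) (by
      simp only [p, LinearMap.mem_ker, LinearMap.comp_apply, h0, map_zero])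
  have heig2 : ∀ r s : K, (T - r • 1) ((T - s • 1) v) ≠ 0 := fun r s h0 => by
    have hsw : (T - s • 1) ((T - r • 1) v) = 0 := by
      simp only [LinearMap.sub_apply, LinearMap.smul_apply, Module.End.one_apply, map_sub,
        map_smul] at h0 ⊢
      rw [← h0]; module
    exact hv (⟨r, heig r _ (heig1 s) h0⟩, ⟨s, heig s _ (heig1 r) hsw⟩) (by
      simpa only [p, LinearMap.mem_ker, LinearMap.comp_apply] using h0)
  have hli : LinearIndependent K ![v, M *ᵥ v, M *ᵥ M *ᵥ v] := by
    rw [Fintype.linearIndependent_iff]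
    intro g hg i
    simp [Fin.sum_univ_three] at hg
    have h2 : g 2 = 0 := by
      by_contra hne
      obtain ⟨r, hr⟩ := IsAlgClosed.exists_root
        (Polynomial.C (g 2) * Polynomial.X ^ 2 + Polynomial.C (g 1) * Polynomial.X + Polynomial.C (g 0))
        (by rw [Polynomial.degree_quadratic hne]; exact two_ne_zero)
      simp [Polynomial.IsRoot] at hr
      refine heig2 r (-(g 1 / g 2) - r) ?_
      have hgg : g 0 = g 2 * (r * (-(g 1 / g 2) - r)) := by field_simp; linear_combination hr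
      simp only [hT, LinearMap.sub_apply, LinearMap.smul_apply, Module.End.one_apply, map_sub,
        map_smul, Matrix.toLin'_apply]
      have : g 2 • (M *ᵥ M *ᵥ v - r • M *ᵥ v -
          (-(g 1 / g 2) - r) • (M *ᵥ v - r • v)) = 0 := by
        rw [hgg, ← mulVec_mulVec] at hg
        rw [← hg]
        match_scalars <;> field_simp <;> ring
      exact (smul_eq_zero.mp this).resolve_left hne
    rw [h2, zero_smul, add_zero] at hg
    have h3 : g 1 = 0 := by
      by_contra hne
      refine heig1 (-(g 0 / g 1)) ?_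
      simp only [hT, LinearMap.sub_apply, LinearMap.smul_apply, Module.End.one_apply,
        Matrix.toLin'_apply]
      have : g 1 • (M *ᵥ v - (-(g 0 / g 1)) • v) = 0 := by
        rw [← hg]
        match_scalars <;> field_simp
      exact (smul_eq_zero.mp this).resolve_left hne
    rw [h3, zero_smul, add_zero] at hg
    have h0 : g 0 = 0 := (smul_eq_zero.mp hg).resolve_right hv0
    fin_cases i <;> assumption
  let b := basisOfLinearIndependentOfCardEqFinrank hli (by simp)
  have hb : ∀ i, b i = ![v, M *ᵥ v, M *ᵥ M *ᵥ v] i := fun i => by simp [b]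
  have key : ∀ Z : Matrix (Fin 3) (Fin 3) K, Commute Z M → ∃ s : Fin 3 → K,
      Z = s 0 • 1 + s 1 • M + s 2 • (M * M) := by
    intro Z hZ
    refine ⟨fun i => b.repr (Z *ᵥ v) i, ?_⟩
    set P : Matrix (Fin 3) (Fin 3) K := b.repr (Z *ᵥ v) 0 • 1 + b.repr (Z *ᵥ v) 1 • M +
      b.repr (Z *ᵥ v) 2 • (M * M) with hP
    have hPM : Commute P M := by
      exact (((Commute.one_left M).smul_left _).add_left ((Commute.refl M).smul_left _)).add_left
        (((Commute.refl M).mul_left (Commute.refl M)).smul_left _)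
    have hv' : Z *ᵥ v = P *ᵥ v := by
      have hs := b.sum_repr (Z *ᵥ v)
      simp only [Fin.sum_univ_three, hb] at hs
      conv_lhs => rw [← hs]
      simp only [hP, add_mulVec, smul_mulVec, one_mulVec, ← mulVec_mulVec]
      rfl
    have hcomm : ∀ (A : Matrix (Fin 3) (Fin 3) K), Commute A M → ∀ w, A *ᵥ (M *ᵥ w) = M *ᵥ (A *ᵥ w) :=
      fun A hA w => by rw [mulVec_mulVec, mulVec_mulVec, hA.eq]
    refine Matrix.toLin'.injective (b.ext fun i => ?_)
    rw [hb, Matrix.toLin'_apply, Matrix.toLin'_apply]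
    fin_cases i
    · exact hv'
    · show Z *ᵥ (M *ᵥ v) = P *ᵥ (M *ᵥ v)
      rw [hcomm Z hZ, hcomm P hPM, hv']
    · show Z *ᵥ (M *ᵥ M *ᵥ v) = P *ᵥ (M *ᵥ M *ᵥ v)
      rw [hcomm Z hZ, hcomm Z hZ, hcomm P hPM, hcomm P hPM, hv']
  obtain ⟨s, rfl⟩ := key X hX
  have h1' : Commute M Y := hY.symm
  exact ((Commute.one_left Y).smul_left _).add_left (h1'.smul_left _) |>.add_left
    ((h1'.mul_left h1').smul_left _)

/-- The dichotomy: a non-scalar element of a transvection-free group is a homology or has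
commutative centraliser. -/
theorem isHom_or_commute [IsAlgClosed K] {G : Subgroup (GL (Fin 3) K)} (hSL : InSL G)
    (hTF : IsTF G) {g : GL (Fin 3) K} (hg : g ∈ G) (hns : ¬ IsSc g) :
    IsHom g ∨ ∀ x y : GL (Fin 3) K, Commute x g → Commute y g → Commute x y := by
  by_cases h : ∀ c : K, finrank K (LinearMap.ker (Matrix.toLin'
      ((g : Matrix (Fin 3) (Fin 3) K) - c • 1))) ≤ 1
  · refine Or.inr fun x y hx hy => Units.ext ?_
    exact commute_of_cyclic _ h (Units.ext_iff.mp hx) (Units.ext_iff.mp hy)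
  · push Not at h
    obtain ⟨c, hc⟩ := h
    exact Or.inl (isHom_of_eigenspace hSL hTF hg hns c hc)

end Dichotomy

end Cfsg.Agent.Lib.Mitchell3
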