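import Cfsg.Agent.Lib.TransvThree.Main
import Cfsg.Agent.Lib.Mitchell96.TraceForms
import Cfsg.Agent.Lib.Mitchell3.Basic
import Cfsg.Agent.Lib.Subspaces.UnitaryGen

/-!
Mitchell package: cores containing transvections, and why they are not in the residual classes.
-/

set_option autoImplicit false
set_option linter.unusedSectionVars false
set_option linter.style.haveILetI false

namespace Cfsg.Agent.Lib.Mitchell3

open Matrix
open scoped commutatorElement
open Cfsg.Agent.Lib.Subspaces.Transvection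
open Cfsg.Agent.Lib.TransvThree (subSL subSU tvGroup HasTv Tv)

variable {F : Type*} [Field F] [Fintype F] {H P : Subgroup (GL (Fin 3) F)}

theorem hasTv_of_not_tf (hTF : ¬ IsTF P) : HasTv P := by
  simp only [IsTF, not_forall] at hTF
  obtain ⟨v, φ, h0, hmem, hne⟩ := hTF
  exact ⟨v, φ, fun e => hne (by rw [e, tv_zero_left]), fun e => hne (by rw [e, tv_zero_right]), h0, hmem⟩

theorem tv_not_scalar {v φ : Fin 3 → F} (hv : v ≠ 0) (hφ : φ ≠ 0) (h0 : φ ⬝ᵥ v = 0) :
    tv v φ ∉ Cfsg.Geo.scalars (Fin 3) F := by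
  intro h1
  obtain ⟨c, hc⟩ := (Cfsg.Geo.mem_scalars_iff _).mp h1
  obtain ⟨i, hi⟩ := Function.ne_iff.mp hv
  obtain ⟨j, hj⟩ := Function.ne_iff.mp hφ
  simp only [Pi.zero_apply] at hi hj
  rw [coe_tv h0] at hc
  by_cases hij : i = j
  · subst hij
    obtain ⟨k, hk⟩ : ∃ k, k ≠ i := exists_ne i
    have e1 := congrFun (congrFun hc i) k
    have e2 := congrFun (congrFun hc i) i
    have e3 := congrFun (congrFun hc k) k
    simp [Matrix.one_apply, vecMulVec_apply, hk.symm, hi] at e1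
    simp [Matrix.one_apply, vecMulVec_apply] at e2 e3
    rw [e1, mul_zero, add_zero] at e3
    rw [← e3, add_eq_left] at e2
    exact mul_ne_zero hi hj e2
  · have e1 := congrFun (congrFun hc i) j
    simp [Matrix.one_apply, vecMulVec_apply, hij, hi, hj] at e1

/-- A core containing a transvection is generated by its transvections. -/
theorem core_eq_tvGroup (hR : Cfsg.Geo.IsResidualCore H P) (hT : HasTv P) : tvGroup P = P := by
  set Z := (Cfsg.Geo.scalars (Fin 3) F).subgroupOf P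
  set T := (tvGroup P).subgroupOf P with hTdef
  haveI hn : T.Normal := ⟨fun x hx g =>
    Cfsg.Agent.Lib.TransvThree.tvGroup_normalized P g g.2 x hx⟩
  haveI := hR.simple
  have hsur := QuotientGroup.mk'_surjective Z
  haveI hn' : (T.map (QuotientGroup.mk' Z)).Normal := hn.map _ hsur
  rcases hn'.eq_bot_or_eq_top with e | e
  · exfalso
    obtain ⟨v, φ, hv, hφ, h0, hmem⟩ := hT
    have hm : (⟨tv v φ, hmem⟩ : P) ∈ T := Subgroup.subset_closure ⟨v, φ, ⟨h0, hmem⟩, rfl⟩
    have h1 : QuotientGroup.mk' Z ⟨tv v φ, hmem⟩ ∈ T.map (QuotientGroup.mk' Z) := ⟨_, hm, rfl⟩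
    rw [e, Subgroup.mem_bot, QuotientGroup.mk'_apply, QuotientGroup.eq_one_iff, Subgroup.mem_subgroupOf,
      Cfsg.Geo.mem_scalars_iff] at h1
    exact tv_not_scalar hv hφ h0 ((Cfsg.Geo.mem_scalars_iff _).mpr h1)
  · refine le_antisymm (Cfsg.Agent.Lib.TransvThree.tvGroup_le P) ?_
    have hsup : ∀ x ∈ P, ∃ t ∈ tvGroup P, ∃ z ∈ Cfsg.Geo.scalars (Fin 3) F, x = t * z := fun x hx => by
      have : QuotientGroup.mk' Z ⟨x, hx⟩ ∈ T.map (QuotientGroup.mk' Z) := e ▸ Subgroup.mem_top _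
      obtain ⟨t, ht, het⟩ := this
      refine ⟨t, ht, (t : GL (Fin 3) F)⁻¹ * x, ?_, by group⟩
      have h2 := QuotientGroup.eq.mp het
      rw [Subgroup.mem_subgroupOf] at h2
      simpa using h2
    calc P = ⁅P, P⁆ := hR.perfect.symm
      _ ≤ tvGroup P := by
        rw [Subgroup.commutator_le]
        intro a ha b hb
        obtain ⟨s, hs, y, hy, rfl⟩ := hsup a ha
        obtain ⟨t, ht, z, hz, rfl⟩ := hsup b hb
        have hcy : ∀ x : GL (Fin 3) F, y * x = x * y := fun x => by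
          obtain ⟨c, hc⟩ := (Cfsg.Geo.mem_scalars_iff _).mp hy
          exact Units.ext (by simp [hc])
        have hcz : ∀ x : GL (Fin 3) F, z * x = x * z := fun x => by
          obtain ⟨c, hc⟩ := (Cfsg.Geo.mem_scalars_iff _).mp hz
          exact Units.ext (by simp [hc])
        have : ⁅s * y, t * z⁆ = ⁅s, t⁆ := by
          simp only [commutatorElement_def, _root_.mul_inv_rev]
          calc s * y * (t * z) * (y⁻¹ * s⁻¹) * (z⁻¹ * t⁻¹)
              = s * (y * (t * z) * y⁻¹) * s⁻¹ * (z⁻¹ * t⁻¹) := by group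
            _ = s * t * (z * s⁻¹ * z⁻¹) * t⁻¹ := by rw [hcy, mul_inv_cancel_right]; group
            _ = s * t * s⁻¹ * t⁻¹ := by rw [hcz, mul_inv_cancel_right]
        rw [this, commutatorElement_def]
        exact mul_mem (mul_mem (mul_mem hs ht) (inv_mem hs)) (inv_mem ht)

/-- The shapes of the cores containing transvections. -/
def BigCore (P : Subgroup (GL (Fin 3) F)) : Prop :=
  ∃ g : GL (Fin 3) F, (∃ K : Subfield F, P.map (MulAut.conj g⁻¹).toMonoidHom = subSL K) ∨
    ∃ (K : Subfield F) (q : ℕ), Nat.card K = q ^ 2 ∧ P.map (MulAut.conj g⁻¹).toMonoidHom = subSU K q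

/-- A core with a transvection is big in odd characteristic. -/
theorem bigCore_of_hasTv (hR : Cfsg.Geo.IsResidualCore H P) (h2 : (2 : F) ≠ 0) (hT : HasTv P) : BigCore P := by
  obtain ⟨g, hg⟩ := Cfsg.Agent.Lib.TransvThree.transvection_group
    (Cfsg.Agent.Lib.PrimeDim.Basic.irred_iff.mp hR.absIrred.1) h2 hT
  rw [core_eq_tvGroup hR hT] at hg
  rcases hg with hg | ⟨K, q, hK, -, -, hg⟩
  · exact ⟨g, Or.inl ⟨_, hg⟩⟩
  · exact ⟨g, Or.inr ⟨K, q, hK, hg⟩⟩

theorem eq_top_of_map (hR : Cfsg.Geo.IsResidualCore H P) (g : GL (Fin 3) F) (K : Subfield F)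
    (h : P.map (MulAut.conj g⁻¹).toMonoidHom ≤ (Matrix.GeneralLinearGroup.map K.subtype).range) : K = ⊤ := by
  by_contra hne
  refine hR.no_subfield K hne ⟨g⁻¹, fun s hs i j => ?_⟩
  obtain ⟨x, hx, rfl⟩ := Cfsg.Agent.Lib.PrimeDim.Basic.mem_matrixSet.mp hs
  obtain ⟨y, hy⟩ := h ⟨x, hx, rfl⟩
  simp only [MulEquiv.coe_toMonoidHom, MulAut.conj_apply] at hy
  rw [← Units.val_mul, ← Units.val_mul, ← hy]
  exact SetLike.coe_mem _

theorem map_topSubfield_mem_GU {q : ℕ} {y : GL (Fin 3) (⊤ : Subfield F)}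
    (hy : y ∈ Cfsg.GU 3 (⊤ : Subfield F) q) :
    Matrix.GeneralLinearGroup.map (⊤ : Subfield F).subtype y ∈ Cfsg.GU 3 F q := by
  intro u v
  have key := hy (fun i => ⟨u i, trivial⟩) (fun i => ⟨v i, trivial⟩)
  have := congrArg (⊤ : Subfield F).subtype key
  simp only [Cfsg.hermForm, Matrix.mulVec, dotProduct, map_sum, map_mul, map_pow] at this
  simpa [Cfsg.hermForm, Matrix.mulVec, dotProduct] using this

theorem mem_map_topSubfield {q : ℕ} {g : GL (Fin 3) F} (hg : g ∈ Cfsg.GU 3 F q ⊓ Cfsg.Geo.specialLinear (Fin 3) F) :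
    g ∈ subSU (⊤ : Subfield F) q := by
  let y : GL (Fin 3) (⊤ : Subfield F) :=
    Matrix.GeneralLinearGroup.map (Subfield.topEquiv (K := F)).symm.toRingHom g
  have hy : Matrix.GeneralLinearGroup.map (⊤ : Subfield F).subtype y = g := by ext i j; rfl
  refine ⟨y, ⟨?_, ?_⟩, hy⟩
  · intro u v
    apply Subtype.ext
    have key := (Cfsg.Agent.Lib.Subspaces.UnitaryGen.mem_GU_iff'.mp hg.1) (fun i => (u i : F)) (fun i => (v i : F))
    simp only [Cfsg.hermForm, Units.coeHom_apply, Matrix.mulVec, dotProduct]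
    push_cast
    have hc : ∀ a : F, (((Subfield.topEquiv (K := F)).symm a : (⊤ : Subfield F)) : F) = a := fun a => rfl
    simpa [Cfsg.hermForm, Matrix.mulVec, dotProduct, y, hc] using key
  · have h1 := mem_specialLinear_iff g |>.mp hg.2
    refine (mem_specialLinear_iff y).mpr ((⊤ : Subfield F).subtype.injective ?_)
    rw [RingHom.map_det, map_one, RingHom.mapMatrix_apply]
    exact h1

/-- The two shapes over the whole field. -/
theorem bigCore_top (hR : Cfsg.Geo.IsResidualCore H P) {N : Subgroup (GL (Fin 3) F)} (hPN : P ≤ N)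
    (hb : BigCore N) :
    N = Cfsg.Geo.specialLinear (Fin 3) F ∨ ∃ (g : GL (Fin 3) F) (q : ℕ), Fintype.card F = q ^ 2 ∧
      N.map (MulAut.conj g⁻¹).toMonoidHom = Cfsg.GU 3 F q ⊓ Cfsg.Geo.specialLinear (Fin 3) F := by
  obtain ⟨g, ⟨K, hg⟩ | ⟨K, q, hK, hg⟩⟩ := hb
  · have hK : K = ⊤ := eq_top_of_map hR g K
      ((Subgroup.map_mono hPN).trans (by rw [hg]; exact Subgroup.map_le_range _ _))
    subst hK
    left
    have htop : subSL (⊤ : Subfield F) = Cfsg.Geo.specialLinear (Fin 3) F := by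
      ext x
      constructor
      · rintro ⟨y, hy, rfl⟩
        rw [mem_specialLinear_iff]
        have h1 := (mem_specialLinear_iff y).mp hy
        have h2 := congrArg (⊤ : Subfield F).subtype h1
        rw [RingHom.map_det, map_one] at h2
        exact h2
      · intro hx
        refine ⟨Matrix.GeneralLinearGroup.map (Subfield.topEquiv (K := F)).symm.toRingHom x, ?_,
          by ext i j; rfl⟩
        refine (mem_specialLinear_iff _).mpr ((⊤ : Subfield F).subtype.injective ?_)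
        rw [RingHom.map_det, map_one, RingHom.mapMatrix_apply]
        exact (mem_specialLinear_iff x).mp hx
    rw [htop] at hg
    ext x
    constructor
    · intro hx
      have h1 : g⁻¹ * x * g ∈ Cfsg.Geo.specialLinear (Fin 3) F := hg.le ⟨x, hx, by simp⟩
      have h2 : g * (g⁻¹ * x * g) * g⁻¹ ∈ Cfsg.Geo.specialLinear (Fin 3) F := (MonoidHom.normal_ker _).conj_mem _ h1 g
      rwa [show g * (g⁻¹ * x * g) * g⁻¹ = x by group] at h2
    · intro hx
      have h2 : g⁻¹ * x * g ∈ Cfsg.Geo.specialLinear (Fin 3) F := by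
        have := (MonoidHom.normal_ker _).conj_mem x hx g⁻¹
        rwa [inv_inv] at this
      rw [← hg] at h2
      obtain ⟨y, hy, he⟩ := h2
      simp only [MulEquiv.coe_toMonoidHom, MulAut.conj_apply, inv_inv, mul_left_inj, mul_right_inj] at he
      exact he ▸ hy
  · have hK' : K = ⊤ := eq_top_of_map hR g K
      ((Subgroup.map_mono hPN).trans (by rw [hg]; exact Subgroup.map_le_range _ _))
    subst hK'
    refine Or.inr ⟨g, q, ?_, ?_⟩
    · rw [← hK, ← Nat.card_eq_fintype_card]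
      exact (Nat.card_congr (Subfield.topEquiv (K := F)).toEquiv).symm
    · rw [hg]
      refine le_antisymm ?_ fun x hx => mem_map_topSubfield hx
      rintro _ ⟨y, hy, rfl⟩
      refine ⟨map_topSubfield_mem_GU hy.1, (mem_specialLinear_iff _).mpr ?_⟩
      have h2 := congrArg (⊤ : Subfield F).subtype ((mem_specialLinear_iff y).mp hy.2)
      rw [RingHom.map_det, map_one] at h2
      exact h2

theorem trace_of_conj_GU {q : ℕ} (hF : Fintype.card F = q ^ 2) {g : GL (Fin 3) F}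
    (hg : P.map (MulAut.conj g⁻¹).toMonoidHom ≤ Cfsg.GU 3 F q) :
    ∀ x ∈ P, (x : Matrix (Fin 3) (Fin 3) F).trace ^ q = ((x⁻¹ : GL (Fin 3) F) : Matrix (Fin 3) (Fin 3) F).trace := by
  intro x hx
  have h := Cfsg.Agent.Lib.Mitchell96.trace_of_le_GU hF hg _ ⟨x, hx, rfl⟩
  simp only [MulEquiv.coe_toMonoidHom, MulAut.conj_apply, inv_inv, _root_.mul_inv_rev, ← mul_assoc] at h
  rwa [Units.val_mul, Units.val_mul, Matrix.trace_units_conj', Units.val_mul, Units.val_mul,
    Matrix.trace_units_conj'] at h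

/-- Big cores are not in the linear residual class. -/
theorem big_linear (hH : Cfsg.Geo.IsMaximalIn (Cfsg.Geo.specialLinear (Fin 3) F) H)
    (hR : Cfsg.Geo.IsResidualCore H P)
    (hnu : ¬ ∃ (σ : F ≃+* F) (f : (Fin 3 → F) → (Fin 3 → F) → F), Cfsg.Geo.IsUnitaryForm σ f ∧
      Cfsg.Geo.FixesForm (Cfsg.Geo.matrixSet P) f)
    (hb : BigCore P) : False := by
  rcases bigCore_top hR le_rfl hb with e | ⟨g, q, hF, hg⟩
  · exact hH.1.not_ge (e ▸ hR.le)
  · obtain ⟨f, hf⟩ := Cfsg.Agent.Lib.Mitchell96.unitary_of_trace hR.absIrred _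
      (Cfsg.Agent.Lib.Mitchell96.powQ_ne_refl hF) (Cfsg.Agent.Lib.Mitchell96.powQ_powQ hF) fun x hx => by
        rw [Cfsg.Agent.Lib.Mitchell96.powQ_apply]
        exact trace_of_conj_GU hF (hg.le.trans inf_le_left) x hx
    exact hnu ⟨_, f, hf⟩

/-- Big normal subgroups are not in a maximal subgroup in the unitary group. -/
theorem big_unitary' {q : ℕ} (hF : Fintype.card F = q ^ 2)
    (hH : Cfsg.Geo.IsMaximalIn (Cfsg.GU 3 F q ⊓ Cfsg.Geo.specialLinear (Fin 3) F) H)
    (hR : Cfsg.Geo.IsResidualCore H P) {N : Subgroup (GL (Fin 3) F)} (hPN : P ≤ N) (hNH : N ≤ H)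
    (hb : BigCore N) : False := by
  rcases bigCore_top hR hPN hb with e | ⟨g, q', hF', hg⟩
  · have hmem : tv (Pi.single 0 1) (Pi.single 1 (1 : F)) ∈ Cfsg.GU 3 F q :=
      (hH.1.le (hNH (e ▸ tv_mem_specialLinear _ _))).1
    have h := Cfsg.Agent.Lib.Subspaces.UnitaryGen.mem_GU_iff'.mp hmem (Pi.single 0 1) (Pi.single 1 1)
    have h0 : (Pi.single 1 (1 : F) : Fin 3 → F) ⬝ᵥ Pi.single 0 1 = 0 := by simp
    have hq : q ≠ 0 := by
      rintro rfl
      simp at hF
    rw [tv_mulVec h0, tv_mulVec h0] at h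
    simp [Cfsg.hermForm, Fin.sum_univ_three, Pi.single_apply, zero_pow hq] at h
  · obtain rfl : q' = q := Nat.pow_left_injective two_ne_zero (hF'.symm.trans hF)
    have hcard : Nat.card N = Nat.card ↥(Cfsg.GU 3 F q' ⊓ Cfsg.Geo.specialLinear (Fin 3) F) := by
      rw [← hg]
      exact Nat.card_congr (Subgroup.equivMapOfInjective _ _ (MulEquiv.injective _)).toEquiv
    exact hH.1.ne (Subgroup.eq_of_le_of_card_ge hH.1.le (hcard ▸ Subgroup.card_le_of_le hNH))

/-- Big cores are not maximal in the unitary group. -/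
theorem big_unitary {q : ℕ} (hF : Fintype.card F = q ^ 2)
    (hH : Cfsg.Geo.IsMaximalIn (Cfsg.GU 3 F q ⊓ Cfsg.Geo.specialLinear (Fin 3) F) H)
    (hR : Cfsg.Geo.IsResidualCore H P) (hb : BigCore P) : False :=
  big_unitary' hF hH hR le_rfl hR.le hb

/-- In odd characteristic the maximal subgroups with a residual core have no transvections. -/
theorem tf_unitary {q : ℕ} (hF : Fintype.card F = q ^ 2) (h2 : (2 : F) ≠ 0)
    (hH : Cfsg.Geo.IsMaximalIn (Cfsg.GU 3 F q ⊓ Cfsg.Geo.specialLinear (Fin 3) F) H)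
    (hR : Cfsg.Geo.IsResidualCore H P) : IsTF H := by
  by_contra hTF
  have hT := hasTv_of_not_tf hTF
  set N := tvGroup H with hNdef
  have hN := Cfsg.Agent.Lib.TransvThree.tvGroup_normalized H
  have hNH := Cfsg.Agent.Lib.TransvThree.tvGroup_le H
  have hirr : Cfsg.Agent.Lib.PrimeDim.Basic.Irred H := fun W hW =>
    Cfsg.Agent.Lib.PrimeDim.Basic.irred_iff.mp hR.absIrred.1 W fun h hh => hW h (hR.le hh)
  have hb : BigCore N := by
    obtain ⟨g, hg⟩ := Cfsg.Agent.Lib.TransvThree.transvection_group hirr h2 hT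
    rcases hg with hg | ⟨K, q, hK, -, -, hg⟩
    · exact ⟨g, Or.inl ⟨_, hg⟩⟩
    · exact ⟨g, Or.inr ⟨K, q, hK, hg⟩⟩
  set Z := (Cfsg.Geo.scalars (Fin 3) F).subgroupOf P
  set T := N.subgroupOf P
  haveI hn : T.Normal := ⟨fun x hx g => hN g (hR.le g.2) x hx⟩
  haveI := hR.simple
  haveI hn' : (T.map (QuotientGroup.mk' Z)).Normal := hn.map _ (QuotientGroup.mk'_surjective Z)
  rcases hn'.eq_bot_or_eq_top with e | e
  · obtain ⟨v, φ, hv, hφ, h0, hmem⟩ := hT
    refine tv_not_scalar hv hφ h0 (hR.centralizer_scalar _ hmem fun x hx => ?_)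
    have hmN : tv v φ ∈ N := Subgroup.subset_closure ⟨v, φ, ⟨h0, hmem⟩, rfl⟩
    have h1 : tv v φ * x * (tv v φ)⁻¹ * x⁻¹ ∈ P := mul_mem (hR.normal _ hmem x hx) (inv_mem hx)
    have h2 : (⟨_, h1⟩ : P) ∈ T := by
      show tv v φ * x * (tv v φ)⁻¹ * x⁻¹ ∈ N
      have := mul_mem hmN (hN x (hR.le hx) _ (inv_mem hmN))
      simpa [mul_assoc] using this
    have h3 : QuotientGroup.mk' Z ⟨_, h1⟩ ∈ T.map (QuotientGroup.mk' Z) := ⟨_, h2, rfl⟩
    rw [e, Subgroup.mem_bot, QuotientGroup.mk'_apply, QuotientGroup.eq_one_iff] at h3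
    exact h3
  · refine big_unitary' hF hH hR ?_ hNH hb
    calc P = ⁅P, P⁆ := hR.perfect.symm
      _ ≤ N := by
        rw [Subgroup.commutator_le]
        intro a ha b hb
        have hsup : ∀ x, ∀ hx : x ∈ P, ∃ t ∈ N, ∃ z ∈ Cfsg.Geo.scalars (Fin 3) F, x = t * z := fun x hx => by
          have : QuotientGroup.mk' Z ⟨x, hx⟩ ∈ T.map (QuotientGroup.mk' Z) := e ▸ Subgroup.mem_top _
          obtain ⟨t, ht, het⟩ := this
          refine ⟨t, ht, (t : GL (Fin 3) F)⁻¹ * x, ?_, by group⟩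
          have h3 := QuotientGroup.eq.mp het
          rw [Subgroup.mem_subgroupOf] at h3
          simpa using h3
        obtain ⟨t, ht, z, hz, rfl⟩ := hsup a ha
        have hcz : ∀ y : GL (Fin 3) F, z * y = y * z := fun y => by
          obtain ⟨c, hc⟩ := (Cfsg.Geo.mem_scalars_iff _).mp hz
          exact Units.ext (by simp [hc])
        have : ⁅t * z, b⁆ = t * (b * t⁻¹ * b⁻¹) := by
          simp only [commutatorElement_def, _root_.mul_inv_rev]
          calc t * z * b * (z⁻¹ * t⁻¹) * b⁻¹ = t * (z * b * z⁻¹) * t⁻¹ * b⁻¹ := by group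
            _ = t * b * t⁻¹ * b⁻¹ := by rw [hcz, mul_inv_cancel_right]
            _ = t * (b * t⁻¹ * b⁻¹) := by group
        rw [this]
        exact mul_mem ht (hN b (hR.le hb) _ (inv_mem ht))

end Cfsg.Agent.Lib.Mitchell3
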