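import Cfsg.Agent.Lib.Mitchell3.CoreElts
import Cfsg.Agent.Lib.Mitchell96.TraceForms

/-!
Mitchell package: cores with socle `L2(7)` or `L2(9)` in characteristic two.
-/

set_option autoImplicit false
set_option linter.unusedSectionVars false
set_option linter.style.haveILetI false

namespace Cfsg.Agent.Lib.Mitchell3

open Matrix

variable {F : Type*} [Field F] [Fintype F] {P : Subgroup (GL (Fin 3) F)}

/-- In characteristic two an element of two-power order has trace one. -/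
theorem tr3_eq_one_two [CharP F 2] {g : GL (Fin 3) F} {k : ℕ} (hg : g ^ 2 ^ k = 1) : tr3 g = 1 := by
  haveI : Fact (Nat.Prime 2) := ⟨Nat.prime_two⟩
  have h2 : (2 : F) = 0 := CharP.cast_eq_zero F 2
  rw [tr3_unip hg]
  linear_combination h2

variable {E : Type} [Field E] [Fintype E]

/-- The cover of `PSL(2, 7)` by scalars is trivial. -/
theorem seven_cover_injective (hSL : InSL P) (hE : Fintype.card E = 7)
    (θ : P →* Matrix.ProjectiveSpecialLinearGroup (Fin 2) E) (hθ : Function.Surjective θ)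
    (hker : ∀ x, θ x = 1 ↔ IsSc (x : GL (Fin 3) F)) (hperf : commutator P = ⊤) : Function.Injective θ := by
  classical
  refine (injective_iff_map_eq_one θ).mpr fun z hz => ?_
  haveI : Fact (Nat.Prime 3) := ⟨Nat.prime_three⟩
  let S : Sylow 3 P := default
  set ψ : (S : Subgroup P) →* Matrix.ProjectiveSpecialLinearGroup (Fin 2) E :=
    θ.comp (S : Subgroup P).subtype
  have hpg : IsPGroup 3 ψ.range := (S.isPGroup').of_surjective ψ.rangeRestrict ψ.rangeRestrict_surjective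
  have hcyc : IsCyclic ψ.range := by
    obtain ⟨n, hn⟩ := IsPGroup.iff_card.mp hpg
    have hd : Nat.card ψ.range ∣ Nat.card (Matrix.ProjectiveSpecialLinearGroup (Fin 2) E) :=
      Subgroup.card_subgroup_dvd_card _
    have hc := Cfsg.Agent.Lib.Linear.two_mul_card_PSL_two_of_odd (F := E) (by rw [hE]; decide)
    rw [hE] at hc
    rw [hn, show Nat.card (Matrix.ProjectiveSpecialLinearGroup (Fin 2) E) = 168 by omega] at hd
    have hn1 : n ≤ 1 := by
      by_contra hlt
      have : 3 ^ 2 ∣ 168 := (pow_dvd_pow 3 (by omega)).trans hd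
      norm_num at this
    rcases (by omega : n = 0 ∨ n = 1) with rfl | rfl
    · rw [pow_zero] at hn
      haveI := (Nat.card_eq_one_iff_unique.mp hn).1
      exact isCyclic_of_subsingleton
    · rw [pow_one] at hn
      exact isCyclic_of_prime_card hn
  have hcent : ∀ {x : P}, θ x = 1 → ∀ y : P, Commute x y := fun hx y =>
    Subtype.ext (sc_commute ((hker _).mp hx) (y : GL (Fin 3) F)).eq
  have hab : ∀ a b : (S : Subgroup P), a * b = b * a := by
    haveI : IsCyclic ψ.range := hcyc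
    refine commutative_of_cyclic_center_quotient ψ.rangeRestrict fun x hx => ?_
    rw [MonoidHom.mem_ker] at hx
    have h1 : θ (x : P) = 1 := congrArg Subtype.val hx
    exact Subgroup.mem_center_iff.mpr fun y => Subtype.ext ((hcent h1 (y : P)).eq.symm)
  letI : CommGroup (S : Subgroup P) := { (inferInstance : Group (S : Subgroup P)) with mul_comm := hab }
  have h3z : z ^ 3 = 1 := ker_pow_three hSL hker hz
  have hzS : z ∈ (S : Subgroup P) := by
    have hn : (Subgroup.zpowers z).Normal := ⟨fun x hx g => by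
      obtain ⟨k, rfl⟩ := Subgroup.mem_zpowers_iff.mp hx
      rw [((hcent hz g).symm.zpow_right k).eq, mul_inv_cancel_right]
      exact Subgroup.zpow_mem_zpowers z k⟩
    haveI := hn
    have hzp : IsPGroup 3 (Subgroup.zpowers z) := by
      rintro ⟨x, hx⟩
      obtain ⟨k, rfl⟩ := Subgroup.mem_zpowers_iff.mp hx
      exact ⟨1, Subtype.ext (by
        rw [pow_one, Subgroup.coe_pow, ← zpow_natCast, ← _root_.zpow_mul, mul_comm, _root_.zpow_mul,
          zpow_natCast, h3z, _root_.one_zpow]; rfl)⟩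
    have hsup := hzp.to_sup_of_normal_left S.isPGroup'
    exact (S.is_maximal' hsup le_sup_right) ▸ Subgroup.mem_sup_left (Subgroup.mem_zpowers z)
  haveI : (S : Subgroup P).FiniteIndex := inferInstance
  set τ := MonoidHom.transfer (MonoidHom.id (S : Subgroup P))
  have hτ : τ z = 1 := by
    have hk : commutator P ≤ τ.ker := Abelianization.commutator_subset_ker τ
    rw [hperf] at hk
    exact hk (Subgroup.mem_top z)
  have hidx : z ^ (S : Subgroup P).index = 1 := by
    have key : ∀ (k : ℕ) (g₀ : P), g₀⁻¹ * z ^ k * g₀ ∈ (S : Subgroup P) → g₀⁻¹ * z ^ k * g₀ = z ^ k :=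
      fun k g₀ _ => by rw [((hcent hz g₀⁻¹).symm.pow_right k).eq, inv_mul_cancel_right]
    have := MonoidHom.transfer_eq_pow (MonoidHom.id (S : Subgroup P)) z key
    rw [show MonoidHom.transfer (MonoidHom.id (S : Subgroup P)) z = 1 from hτ] at this
    exact (congrArg Subtype.val this).symm
  have hco : Nat.Coprime 3 (S : Subgroup P).index :=
    (Nat.prime_three.coprime_iff_not_dvd).mpr S.not_dvd_index
  have h1 : orderOf z ∣ Nat.gcd 3 (S : Subgroup P).index :=
    Nat.dvd_gcd (orderOf_dvd_of_pow_eq_one h3z) (orderOf_dvd_of_pow_eq_one hidx)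
  rw [hco] at h1
  exact orderOf_eq_one_iff.mp (Nat.dvd_one.mp h1)

/-- An element of order seven of `PSL(2, 7)` is conjugate to its fourth power. -/
theorem seven_conj_four (hE : Fintype.card E = 7) {y : Matrix.ProjectiveSpecialLinearGroup (Fin 2) E}
    (hy : y ^ 7 = 1) : ∃ w, w * y * w⁻¹ = y ^ 4 := by
  haveI : Fact (Nat.Prime 7) := ⟨by norm_num⟩
  haveI : CharP E 7 := charP_of_card_eq_prime_pow (f := 1) (by rw [hE]; norm_num)
  obtain ⟨w, t, hx⟩ := exists_conj_xr (s := 7) (b := 1) (by norm_num) (by rw [hE, pow_one]) hy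
  let a : Eˣ := Units.mk0 2 (fun e => by
    have := (CharP.cast_eq_zero_iff E 7 2).mp (by exact_mod_cast e)
    omega)
  have ht : (tor a) (Cfsg.Agent.Lib.AutPSL.xr 0 1 t) = Cfsg.Agent.Lib.AutPSL.xr 0 1 t ^ 4 := by
    rw [tor, conjAut_dg_xr, inv_inv]
    have e4 : ∀ n : ℕ, Cfsg.Agent.Lib.AutPSL.xr 0 1 t ^ n =
        Cfsg.Agent.Lib.AutPSL.xr (n := 2) 0 1 ((n : E) * t) := fun n => by
      induction n with
      | zero =>
        rw [pow_zero, Nat.cast_zero, zero_mul]
        exact (Cfsg.Agent.Lib.AutPSL.rootElt_zero _ _).symm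
      | succ n ih =>
        rw [pow_succ, ih, ← Cfsg.Agent.Lib.AutPSL.xr_add (by decide), Nat.cast_succ, add_mul, one_mul]
    rw [e4]
    congr 1
    simp [a]; ring
  obtain ⟨v, hv⟩ := tor_mem_inn a
  refine ⟨w * v * w⁻¹, ?_⟩
  rw [hx, conj_pow, ← ht, ← hv]
  show _ = w * MulAut.conj v (Cfsg.Agent.Lib.AutPSL.xr 0 1 t) * w⁻¹
  rw [MulAut.conj_apply]
  group

variable [CharP F 2]

/-- The traces over an element with an exact lift. -/
theorem trace_split (hSL : InSL P) (θ : P →* Matrix.ProjectiveSpecialLinearGroup (Fin 2) E)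
    (hθ : Function.Surjective θ) (hker : ∀ x, θ x = 1 ↔ IsSc (x : GL (Fin 3) F)) {g : P} {n : ℕ}
    (hn : n % 3 ≠ 0) (hg : θ g ^ n = 1) :
    ∃ (X : P) (c : F), c ^ 3 = 1 ∧ (X : GL (Fin 3) F) ^ n = 1 ∧
      tr3 (g : GL (Fin 3) F) = c * tr3 (X : GL (Fin 3) F) ∧
      ∀ (v : Matrix.ProjectiveSpecialLinearGroup (Fin 2) E) (j : ℕ), v * θ g * v⁻¹ = θ g ^ j →
        tr3 ((X : GL (Fin 3) F) ^ j) = tr3 (X : GL (Fin 3) F) := by
  obtain ⟨X, hX, hXn, hXc⟩ := exists_lift (π := θ) hSL hker (y := θ g) ⟨g, rfl⟩ hn hg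
  have hz : θ (g * X⁻¹) = 1 := by rw [map_mul, map_inv, hX, mul_inv_cancel]
  obtain ⟨c, hc⟩ := (hker _).mp hz
  have hc3 : c ^ 3 = 1 := by
    have e := congrArg (fun z : P => ((z : GL (Fin 3) F) : Matrix (Fin 3) (Fin 3) F)) (ker_pow_three hSL hker hz)
    simp only [Subgroup.coe_pow, Units.val_pow_eq_pow_val, hc, smul_pow, one_pow, Subgroup.coe_one,
      Units.val_one] at e
    simpa using congrFun (congrFun e 0) 0
  refine ⟨X, c, hc3, by rw [← Subgroup.coe_pow, hXn, Subgroup.coe_one], ?_, fun v j hv => ?_⟩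
  · rw [show (g : GL (Fin 3) F) = ((g * X⁻¹ : P) : GL (Fin 3) F) * (X : GL (Fin 3) F) by
      rw [← Subgroup.coe_mul, inv_mul_cancel_right]]
    exact tr3_smul hc
  · obtain ⟨W, rfl⟩ := hθ v
    have e := congrArg (fun z : P => (z : GL (Fin 3) F)) (hXc W j hv)
    simp only [Subgroup.coe_mul, Subgroup.coe_inv, Subgroup.coe_pow] at e
    rw [← e, tr3_conj]

/-- All traces lie in the field with four elements. -/
theorem trace_pow_four (hSL : InSL P) (θ : P →* Matrix.ProjectiveSpecialLinearGroup (Fin 2) E)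
    (hθ : Function.Surjective θ) (hker : ∀ x, θ x = 1 ↔ IsSc (x : GL (Fin 3) F))
    (hE : Fintype.card E = 7 ∨ Fintype.card E = 9) (g : P) :
    tr3 (g : GL (Fin 3) F) ^ 4 = tr3 (g : GL (Fin 3) F) := by
  haveI : Fact (Nat.Prime 2) := ⟨Nat.prime_two⟩
  have key : ∀ {n : ℕ}, n % 3 ≠ 0 → θ g ^ n = 1 →
      (∀ X : GL (Fin 3) F, X ^ n = 1 → (∀ (v : Matrix.ProjectiveSpecialLinearGroup (Fin 2) E) (j : ℕ),
        v * θ g * v⁻¹ = θ g ^ j → tr3 (X ^ j) = tr3 X) → tr3 X ^ 4 = tr3 X) →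
      tr3 (g : GL (Fin 3) F) ^ 4 = tr3 (g : GL (Fin 3) F) := by
    intro n hn hg h
    obtain ⟨X, c, hc, hX, e, hconj⟩ := trace_split hSL θ hθ hker hn hg
    rw [e, mul_pow, h _ hX hconj, show c ^ 4 = c by rw [pow_succ, hc, one_mul]]
  have two_pow : ∀ {n : ℕ}, n % 3 ≠ 0 → θ g ^ n = 1 → (n ∣ 2 ^ 2) →
      tr3 (g : GL (Fin 3) F) ^ 4 = tr3 (g : GL (Fin 3) F) := fun {n} hn hg hd => key hn hg fun X hX _ => by
    have hX4 : X ^ 2 ^ 2 = 1 := by
      obtain ⟨m, hm⟩ := hd
      rw [hm, pow_mul, hX, one_pow]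
    rw [tr3_eq_one_two hX4, one_pow]
  have three : θ g ^ 3 = 1 → (∃ w, w * θ g * w⁻¹ = (θ g)⁻¹) →
      tr3 (g : GL (Fin 3) F) ^ 4 = tr3 (g : GL (Fin 3) F) := by
    rintro h3 ⟨w, hw⟩
    obtain ⟨W, rfl⟩ := hθ w
    have hz : θ (g ^ 3) = 1 := by rw [map_pow, h3]
    have hzc : ∀ y : P, Commute (g ^ 3) y := fun y =>
      Subtype.ext (sc_commute ((hker _).mp hz) (y : GL (Fin 3) F)).eq
    set z : P := W * g * W⁻¹ * g with hzdef
    have hz1 : θ z = 1 := by rw [hzdef, map_mul, map_mul, map_mul, map_inv, hw, inv_mul_cancel]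
    have hzc' : Commute z g := Subtype.ext (sc_commute ((hker _).mp hz1) (g : GL (Fin 3) F)).eq
    have e1 : W * g * W⁻¹ = z * g⁻¹ := by rw [hzdef, mul_inv_cancel_right]
    have e2 : g ^ 3 = (g ^ 3)⁻¹ := by
      calc g ^ 3 = (W * g * W⁻¹) ^ 3 := by rw [conj_pow, ← (hzc W).eq, mul_inv_cancel_right]
        _ = z ^ 3 * (g ^ 3)⁻¹ := by rw [e1, hzc'.inv_right.mul_pow, inv_pow]
        _ = (g ^ 3)⁻¹ := by rw [ker_pow_three hSL hker hz1, one_mul]
    have e3 : g ^ 3 = 1 := by
      have h9 := ker_pow_three hSL hker hz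
      rw [pow_succ, pow_two] at h9
      nth_rewrite 2 [e2] at h9
      rwa [mul_inv_cancel, one_mul] at h9
    rw [show (4 : ℕ) = 2 ^ 2 from rfl, ← tr3_pow_char_pow]
    congr 1
    rw [show (2 : ℕ) ^ 2 = 3 + 1 from rfl, pow_succ, ← Subgroup.coe_pow, e3, Subgroup.coe_one, one_mul]
  rcases hE with hE | hE
  · rcases psl7_cases hE (θ g) with h7 | ⟨h2 | h3 | h4, hw⟩
    · obtain ⟨v, hv⟩ := seven_conj_four hE h7
      exact key (by norm_num) h7 fun X _ hconj => by
        rw [show (4 : ℕ) = 2 ^ 2 from rfl, ← tr3_pow_char_pow]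
        exact hconj v 4 hv
    · exact two_pow (by norm_num) h2 ⟨2, rfl⟩
    · exact three h3 hw
    · exact two_pow (by norm_num) h4 dvd_rfl
  · obtain ⟨h3 | h2 | h4 | h5, hw⟩ := psl9_cases hE (θ g)
    · exact three h3 hw
    · exact two_pow (by norm_num) h2 ⟨2, rfl⟩
    · exact two_pow (by norm_num) h4 dvd_rfl
    · obtain ⟨v, hv⟩ := hw
      have hj : v * θ g * v⁻¹ = θ g ^ 4 := by
        rw [hv]
        exact (eq_inv_of_mul_eq_one_left (by rw [← pow_succ, h5])).symm
      exact key (by norm_num) h5 fun X _ hconj => by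
        rw [show (4 : ℕ) = 2 ^ 2 from rfl, ← tr3_pow_char_pow]
        exact hconj v 4 hj

/-- A core with socle `L2(7)` or `L2(9)` in characteristic two. -/
theorem ident_two (hSL : P ≤ Cfsg.Geo.specialLinear (Fin 3) F) (hperf : ⁅P, P⁆ = P)
    (habs : Cfsg.Geo.ActsAbsolutelyIrreducibly (Cfsg.Geo.matrixSet P))
    (hE : Fintype.card E = 7 ∨ Fintype.card E = 9)
    (e : (P ⧸ (Cfsg.Geo.scalars (Fin 3) F).subgroupOf P) ≃* Matrix.ProjectiveSpecialLinearGroup (Fin 2) E) :
    (Nonempty ((P ⧸ (Cfsg.Geo.scalars (Fin 3) F).subgroupOf P) ≃* alternatingGroup (Fin 6)) ∧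
        Fintype.card F = 4) ∨
      (∃ F₀ : Subfield F, F₀ ≠ ⊤ ∧ Cfsg.Geo.RealisableOver F₀ (Cfsg.Geo.matrixSet P)) ∨
      Cfsg.Geo.specialLinear (Fin 3) F ≤ P := by
  classical
  haveI : Fact (Nat.Prime 2) := ⟨Nat.prime_two⟩
  by_cases hsub : ∃ F₀ : Subfield F, F₀ ≠ ⊤ ∧ Cfsg.Geo.RealisableOver F₀ (Cfsg.Geo.matrixSet P)
  · exact Or.inr (Or.inl hsub)
  have hreal : ∀ F₀ : Subfield F, (∀ x ∈ P, tr3 x ∈ F₀) → F₀ = ⊤ := fun F₀ h => by
    by_contra hne
    exact hsub ⟨F₀, hne, Cfsg.Agent.Lib.Mitchell96.realisable_of_trace habs F₀ h⟩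
  have hSL' : InSL P := fun x hx =>
    (Cfsg.Agent.Lib.Subspaces.Transvection.mem_specialLinear_iff x).mp (hSL hx)
  set θ : P →* Matrix.ProjectiveSpecialLinearGroup (Fin 2) E := e.toMonoidHom.comp (QuotientGroup.mk' _) with hθdef
  have hθ : Function.Surjective θ := e.surjective.comp (QuotientGroup.mk'_surjective _)
  have hker : ∀ x, θ x = 1 ↔ IsSc (x : GL (Fin 3) F) := fun x => by
    show e ((x : P ⧸ (Cfsg.Geo.scalars (Fin 3) F).subgroupOf P)) = 1 ↔ _
    rw [map_eq_one_iff e e.injective, QuotientGroup.eq_one_iff, Subgroup.mem_subgroupOf, isSc_iff]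
  obtain ⟨n, -, hn⟩ := FiniteField.card F 2
  set α : ℕ := (n : ℕ) with hα
  have h4 := trace_pow_four hSL' θ hθ hker hE
  have hcardT : Nat.card (Matrix.ProjectiveSpecialLinearGroup (Fin 2) E) ≤ Nat.card P :=
    Nat.card_le_card_of_surjective θ hθ
  have hGL : Fintype.card F = 2 → Nat.card (GL (Fin 3) F) = 168 := fun h2 => by
    rw [Matrix.card_GL_field, h2, Fin.prod_univ_three]
    rfl
  have hodd : Odd (Fintype.card E) := by rcases hE with h | h <;> rw [h] <;> decide
  have hc := Cfsg.Agent.Lib.Linear.two_mul_card_PSL_two_of_odd (F := E) hodd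
  rcases hE with hE | hE
  · -- `L2(7)`: the traces are rational
    have hperf' : commutator P = ⊤ := by
      apply Subgroup.map_injective P.subtype_injective
      rw [Subgroup.map_subtype_commutator, hperf, ← MonoidHom.range_eq_map, Subgroup.range_subtype]
    have hinj := seven_cover_injective hSL' hE θ hθ hker hperf'
    have h2 : ∀ x ∈ P, tr3 x ^ 2 ^ 1 = tr3 x := by
      intro x hx
      set g : P := ⟨x, hx⟩ with hgdef
      have hinvtr : ∀ {v : Matrix.ProjectiveSpecialLinearGroup (Fin 2) E} {j : ℕ},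
          v * θ g * v⁻¹ = θ g ^ j → tr3 (x ^ j) = tr3 x := fun {v j} hv => by
        obtain ⟨W, rfl⟩ := hθ v
        have e1 : W * g * W⁻¹ = g ^ j := hinj (by rw [map_mul, map_mul, map_inv, map_pow, hv])
        have e2 := congrArg (fun z : P => (z : GL (Fin 3) F)) e1
        simp only [Subgroup.coe_mul, Subgroup.coe_inv, Subgroup.coe_pow, hgdef] at e2
        rw [← e2, tr3_conj]
      have hgn : ∀ {m : ℕ}, θ g ^ m = 1 → x ^ m = 1 := fun {m} hm => by
        have e1 : g ^ m = 1 := hinj (by rw [map_pow, hm, map_one])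
        simpa [hgdef] using congrArg (fun z : P => (z : GL (Fin 3) F)) e1
      rw [← tr3_pow_char_pow, pow_one]
      rcases psl7_cases hE (θ g) with h7 | ⟨h2 | h3 | h4', w, hw⟩
      · obtain ⟨v, hv⟩ := seven_conj_four hE h7
        have hv2 : (v * v) * θ g * (v * v)⁻¹ = θ g ^ 2 := by
          calc (v * v) * θ g * (v * v)⁻¹ = v * (v * θ g * v⁻¹) * v⁻¹ := by group
            _ = (θ g ^ 4) ^ 4 := by rw [hv, ← conj_pow, hv]
            _ = θ g ^ 2 := by rw [← pow_mul, show 4 * 4 = 7 * 2 + 2 from rfl, pow_add, pow_mul, h7, one_pow, one_mul]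
        exact hinvtr hv2
      · rw [hgn h2, tr3_one, tr3_eq_one_two (k := 1) (by rw [pow_one]; exact hgn h2)]
        linear_combination (CharP.cast_eq_zero F 2)
      · refine hinvtr (v := w) ?_
        rw [hw]
        exact (eq_inv_of_mul_eq_one_left (by rw [← pow_succ, h3])).symm
      · have e4 : x ^ 2 ^ 2 = 1 := hgn h4'
        rw [tr3_eq_one_two e4, tr3_eq_one_two (k := 2) (by rw [← pow_mul, mul_comm, pow_mul, e4, one_pow])]
    have hd := degree_dvd (p := 2) (d := 1) hn hreal h2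
    rw [Nat.dvd_one.mp hd, pow_one] at hn
    refine Or.inr (Or.inr ?_)
    have htop : P = ⊤ := Subgroup.eq_top_of_le_card _ (by
      rw [hGL hn]
      rw [hE] at hc
      omega)
    rw [htop]; exact le_top
  · have hd := degree_dvd (p := 2) (d := 2) hn hreal fun x hx => h4 ⟨x, hx⟩
    rcases (Nat.dvd_prime Nat.prime_two).mp hd with e1 | e1 <;> rw [e1] at hn
    · exfalso
      rw [pow_one] at hn
      have hle : Nat.card P ≤ Nat.card (GL (Fin 3) F) := Subgroup.card_le_card_group _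
      rw [hGL hn] at hle
      rw [hE] at hc
      omega
    · obtain ⟨e6⟩ := Cfsg.Agent.Lib.Linear.SmallIso.nonempty_psl_two_nine hE
      exact Or.inl ⟨⟨e.trans e6⟩, hn⟩

end Cfsg.Agent.Lib.Mitchell3
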