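import Cfsg.Agent.Lib.GorensteinWalter.Main
import Cfsg.Agent.Lib.PGroups.Recognition
import Cfsg.Agent.Lib.GWConsumers70.Torus
import Cfsg.Agent.Lib.GorensteinWalter.ModelsC.Torus
import Cfsg.Agent.Lib.GorensteinWalter.ModelAlt
import Cfsg.Agent.Lib.Linear.Order

/-!
Mitchell package: a non-abelian simple group in which an involution has a centraliser dihedral of
order eight is `PSL(2, 7)` or `PSL(2, 9)`.
-/

set_option autoImplicit false
set_option linter.unusedSectionVars false
set_option linter.style.haveILetI false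

universe u

namespace Cfsg.Agent.Lib.Mitchell3

open Matrix
open Cfsg.Agent.Lib.GorensteinWalter (HasDihedralSylow known_of_simple)
open Cfsg.Agent.Lib.GWConsumers70 (slComm mem_slComm)

section Model

variable {E : Type} [Field E] [Fintype E]

local notation "PSL2" => Matrix.ProjectiveSpecialLinearGroup (Fin 2) E
local notation "SL2" => Matrix.SpecialLinearGroup (Fin 2) E

/-- An involution of `PSL(2, r)`, `r` odd, centralises an abelian subgroup of order at least `(r - 1) / 2`. -/
theorem psl_torus (hodd : Odd (Fintype.card E)) {x : PSL2} (hx : orderOf x = 2) :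
    ∃ A : Subgroup PSL2, (∀ a ∈ A, a * x = x * a) ∧ (∀ a ∈ A, ∀ b ∈ A, a * b = b * a) ∧
      Fintype.card E - 1 ≤ 2 * Nat.card A := by
  classical
  have h2 : (2 : E) ≠ 0 := Ring.two_ne_zero (fun h => by
    have := FiniteField.even_card_of_char_two h
    rw [← Nat.not_even_iff_odd, Nat.even_iff] at hodd
    exact hodd this)
  obtain ⟨s, rfl⟩ := QuotientGroup.mk_surjective x
  have hs1 : (QuotientGroup.mk s : PSL2) ≠ 1 := fun h => by
    rw [h, orderOf_one] at hx
    exact absurd hx (by norm_num)
  have hss : s * s ∈ Subgroup.center SL2 := by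
    rw [← QuotientGroup.eq_one_iff, QuotientGroup.mk_mul, ← pow_two]
    have h := pow_orderOf_eq_one (QuotientGroup.mk s : PSL2)
    rwa [hx] at h
  obtain ⟨c, -, hc⟩ := Matrix.SpecialLinearGroup.mem_center_iff.mp hss
  have htr : ((s : SL2) : Matrix (Fin 2) (Fin 2) E).trace = 0 := by
    refine Cfsg.Agent.Lib.GorensteinWalter.Model.tr_zero_of_sq (c := c) ?_ fun d hd => hs1 ?_
    · rw [← Matrix.SpecialLinearGroup.coe_mul, ← hc, Matrix.scalar_apply, smul_one_eq_diagonal]
    · rw [QuotientGroup.eq_one_iff, Matrix.SpecialLinearGroup.mem_center_iff]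
      refine ⟨d, ?_, by rw [hd, Matrix.scalar_apply, smul_one_eq_diagonal]⟩
      have h1 := congrArg Matrix.det hd
      rw [Matrix.SpecialLinearGroup.det_coe, det_smul, det_one, mul_one] at h1
      exact h1.symm
  set g : GL (Fin 2) E := Matrix.SpecialLinearGroup.toGL s with hg
  have htr' : (g : Matrix (Fin 2) (Fin 2) E).trace = 0 := htr
  set π : SL2 →* PSL2 := QuotientGroup.mk' _ with hπ
  refine ⟨(slComm g).map π, ?_, ?_, ?_⟩
  · rintro _ ⟨t, ht, rfl⟩
    rw [hπ, QuotientGroup.mk'_apply, ← QuotientGroup.mk_mul, ← QuotientGroup.mk_mul]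
    exact congrArg _ (Subtype.ext (mem_slComm.mp ht))
  · rintro _ ⟨t, ht, rfl⟩ _ ⟨u, hu, rfl⟩
    rw [← map_mul, ← map_mul, Cfsg.Agent.Lib.GorensteinWalter.ModelsC.commute_slComm h2 htr' ht hu]
  · refine (Cfsg.Agent.Lib.GWConsumers70.card_slComm_le h2 htr').1.trans ?_
    set ψ : slComm g →* PSL2 := π.comp (slComm g).subtype with hψ
    have hr : ψ.range = (slComm g).map π := by
      rw [hψ, MonoidHom.range_comp, Subgroup.range_subtype]
    have hk : Nat.card ψ.ker ≤ 2 := by
      have hsc : ∀ z : ψ.ker, ∃ d : E, (d = 1 ∨ d = -1) ∧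
          (((z : slComm g) : SL2) : Matrix (Fin 2) (Fin 2) E) = d • 1 := by
        rintro ⟨z, hz⟩
        rw [MonoidHom.mem_ker, hψ, MonoidHom.comp_apply, hπ, QuotientGroup.mk'_apply, QuotientGroup.eq_one_iff,
          Matrix.SpecialLinearGroup.mem_center_iff] at hz
        obtain ⟨d, hd, hd'⟩ := hz
        rw [Fintype.card_fin, sq_eq_one_iff] at hd
        exact ⟨d, hd, by rw [← Subgroup.coe_subtype, ← hd', Matrix.scalar_apply, smul_one_eq_diagonal]⟩
      choose d hd hd' using hsc
      calc Nat.card ψ.ker ≤ Nat.card ({1, -1} : Finset E) :=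
            Nat.card_le_card_of_injective (fun z => (⟨d z, by rcases hd z with h | h <;> simp [h]⟩ : ({1, -1} : Finset E)))
              (fun z w e => by
                simp only [Subtype.mk.injEq] at e
                exact Subtype.ext (Subtype.ext (Subtype.ext (by rw [hd' z, hd' w, e]))))
        _ ≤ 2 := by rw [Nat.card_eq_fintype_card, Fintype.card_coe]; exact Finset.card_le_two
    rw [← hr, Subgroup.card_eq_card_quotient_mul_card_subgroup ψ.ker,
      Nat.card_congr (QuotientGroup.quotientKerEquivRange ψ).toEquiv, mul_comm 2]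
    exact Nat.mul_le_mul_left _ hk

end Model

variable {G : Type u} [Group G]

/-- An abelian subgroup of a non-abelian group of order eight has order at most four. -/
theorem card_le_four {C : Subgroup G} (hC : Nat.card C = 8) {a b : G} (haC : a ∈ C) (hbC : b ∈ C)
    (hab : ¬ Commute a b) {A : Subgroup G} (hA : A ≤ C) (hcomm : ∀ x ∈ A, ∀ y ∈ A, x * y = y * x) :
    Nat.card A ≤ 4 := by
  have hd := Subgroup.card_dvd_of_le hA
  rw [hC] at hd
  by_contra hlt
  have h8 : Nat.card A = 8 := by
    have := Nat.le_of_dvd (by norm_num) hd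
    interval_cases h : Nat.card A <;> omega
  haveI : Finite C := Nat.finite_of_card_ne_zero (by rw [hC]; norm_num)
  have hAC : A = C := Subgroup.eq_of_le_of_card_ge hA (by omega)
  subst hAC
  exact hab (hcomm a haC b hbC)

/-- The alternating group of degree seven has no involution centraliser of order eight. -/
theorem alt_seven_centralizer {x : alternatingGroup (Fin 7)} (hx : orderOf x = 2) :
    3 ∣ Nat.card (Subgroup.centralizer ({x} : Set (alternatingGroup (Fin 7)))) := by
  classical
  haveI : Fact (Nat.Prime 3) := ⟨Nat.prime_three⟩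
  have hx1 : (x : Equiv.Perm (Fin 7)) ≠ 1 := fun h => by
    rw [show x = 1 from Subtype.ext h, orderOf_one] at hx
    exact absurd hx (by norm_num)
  have hxx : (x : Equiv.Perm (Fin 7)) * x = 1 := by
    have h := pow_orderOf_eq_one x
    rw [hx, pow_two] at h
    exact congrArg Subtype.val h
  have hcard := Cfsg.Agent.Lib.GorensteinWalter.Model.card_support_invol hxx hx1
    (Equiv.Perm.mem_alternatingGroup.mp x.2)
  have h3 : (Finset.univ \ (x : Equiv.Perm (Fin 7)).support).card = 3 := by
    rw [Finset.card_sdiff_of_subset (Finset.subset_univ _), hcard, Finset.card_univ, Fintype.card_fin]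
  obtain ⟨a, b, c, hab, hac, hbc, hs⟩ := Finset.card_eq_three.mp h3
  have hout : ∀ y ∈ ({a, b, c} : Finset (Fin 7)), (x : Equiv.Perm (Fin 7)) y = y := fun y hy => by
    rw [← hs, Finset.mem_sdiff] at hy
    exact Equiv.Perm.notMem_support.mp hy.2
  set r : Equiv.Perm (Fin 7) := Equiv.swap a b * Equiv.swap a c with hr
  have hr3 : r.IsThreeCycle := Equiv.Perm.isThreeCycle_swap_mul_swap_same hab hac hbc
  let r' : alternatingGroup (Fin 7) := ⟨r, hr3.mem_alternatingGroup⟩
  have hfix : ∀ {p q : Fin 7}, (x : Equiv.Perm (Fin 7)) p = p → (x : Equiv.Perm (Fin 7)) q = q →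
      (x : Equiv.Perm (Fin 7)) * Equiv.swap p q = Equiv.swap p q * x := fun {p q} hp hq => by
    rw [← mul_inv_eq_iff_eq_mul, ← Equiv.swap_apply_apply, hp, hq]
  have hcomm : r' ∈ Subgroup.centralizer ({x} : Set (alternatingGroup (Fin 7))) := by
    rw [Subgroup.mem_centralizer_singleton_iff]
    refine Subtype.ext ?_
    show r * (x : Equiv.Perm (Fin 7)) = x * r
    have ha := hout a (by simp)
    rw [hr, mul_assoc, ← hfix ha (hout c (by simp)), ← mul_assoc, ← hfix ha (hout b (by simp)), mul_assoc]
  have ho : orderOf r' = 3 := by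
    rw [← Subgroup.orderOf_coe, hr3.orderOf]
  rw [← ho, ← Subgroup.orderOf_mk r' hcomm]
  exact orderOf_dvd_natCard _

/-- A simple group with an involution centraliser dihedral of order eight. -/
theorem psl_seven_or_nine [Finite G] (hs : IsSimpleGroup G) (hna : ¬ IsMulCommutative G) {z : G}
    (hz : orderOf z = 2) (hC : Nat.card (Subgroup.centralizer ({z} : Set G)) = 8) {a b : G}
    (ha : a * a = 1) (hb : b * b = 1) (hab : ¬ Commute a b) (haz : a * z = z * a) (hbz : b * z = z * b) :
    ∃ (E : Type) (_ : Field E) (_ : Fintype E), (Fintype.card E = 7 ∨ Fintype.card E = 9) ∧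
      Nonempty (G ≃* Matrix.ProjectiveSpecialLinearGroup (Fin 2) E) := by
  classical
  haveI : Fact (Nat.Prime 2) := ⟨Nat.prime_two⟩
  letI := Fintype.ofFinite G
  set C := Subgroup.centralizer ({z} : Set G) with hCdef
  have haC : a ∈ C := Subgroup.mem_centralizer_singleton_iff.mpr haz
  have hbC : b ∈ C := Subgroup.mem_centralizer_singleton_iff.mpr hbz
  have hzC : z ∈ C := Subgroup.mem_centralizer_singleton_iff.mpr rfl
  -- the centraliser is a Sylow subgroup
  have hpC : IsPGroup 2 C := IsPGroup.of_card (n := 3) (by rw [hC]; norm_num)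
  obtain ⟨S, hS⟩ := hpC.exists_le_sylow
  have hSC : (S : Subgroup G) = C := by
    refine le_antisymm (fun w hw => ?_) hS
    haveI : Nontrivial S := ⟨⟨⟨z, hS hzC⟩, 1, fun e => by
      rw [show z = 1 from congrArg Subtype.val e, orderOf_one] at hz
      exact absurd hz (by norm_num)⟩⟩
    haveI := S.isPGroup'.center_nontrivial
    obtain ⟨⟨⟨y, hyS⟩, hy⟩, hy1⟩ := exists_ne (1 : Subgroup.center S)
    have hyc : ∀ v ∈ (S : Subgroup G), v * y = y * v := fun v hv =>
      congrArg Subtype.val (Subgroup.mem_center_iff.mp hy ⟨v, hv⟩)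
    have hyC : y ∈ C := Subgroup.mem_centralizer_singleton_iff.mpr (hyc z (hS hzC)).symm
    -- `y = z`, as the centre of the centraliser has order two
    let A := Subgroup.closure ({a, y, z} : Set G)
    have hzcen : ∀ v ∈ C, v * z = z * v := fun v hv => Subgroup.mem_centralizer_singleton_iff.mp hv
    have hyz : y = z := by
      by_contra hne
      have hgen : ∀ u ∈ ({a, y, z} : Set G), ∀ v ∈ ({a, y, z} : Set G), u * v = v * u := by
        rintro u (rfl | rfl | rfl) v (rfl | rfl | rfl)
        · rfl
        · exact (hyc _ (hS haC))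
        · exact haz
        · exact (hyc _ (hS haC)).symm
        · rfl
        · exact (hzcen _ hyC)
        · exact haz.symm
        · exact (hzcen _ hyC).symm
        · rfl
      have hAC : A ≤ C := (Subgroup.closure_le _).mpr (by
        rintro u (rfl | rfl | rfl)
        exacts [haC, hyC, hzC])
      haveI := Subgroup.isMulCommutative_closure hgen
      have h4 := card_le_four hC haC hbC hab hAC fun u hu v hv =>
        congrArg Subtype.val (mul_comm' (⟨u, hu⟩ : A) ⟨v, hv⟩)
      have hsub : ({1, a, z, a * z, y} : Finset G) ⊆ Finset.univ.filter (· ∈ A) := by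
        intro u hu
        simp only [Finset.mem_insert, Finset.mem_singleton] at hu
        refine Finset.mem_filter.mpr ⟨Finset.mem_univ _, ?_⟩
        have h1 : a ∈ A := Subgroup.subset_closure (by simp)
        have h2 : z ∈ A := Subgroup.subset_closure (by simp)
        rcases hu with rfl | rfl | rfl | rfl | rfl
        exacts [one_mem _, h1, h2, mul_mem h1 h2, Subgroup.subset_closure (by simp)]
      have hz1 : z ≠ 1 := fun e => by rw [e, orderOf_one] at hz; exact absurd hz (by norm_num)
      have hzz : z * z = 1 := by rw [← pow_two, ← hz, pow_orderOf_eq_one]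
      have ha1 : a ≠ 1 := fun e => hab (e ▸ Commute.one_left b)
      have haz' : a ≠ z := fun e => hab (show a * b = b * a by rw [e, hbz])
      have haz1 : a * z ≠ 1 := fun e => haz' (mul_right_cancel (e.trans hzz.symm))
      have hyb : y * b = b * y := (hyc b (hS hbC)).symm
      have hy0 : y ≠ 1 := fun e => hy1 (Subtype.ext (Subtype.ext e))
      have hya : y ≠ a := fun e => hab (show a * b = b * a by rw [← e, hyb])
      have hyaz : y ≠ a * z := fun e => hab (show a * b = b * a by
        have h := hyb
        rw [e, mul_assoc, ← hbz, ← mul_assoc, ← mul_assoc] at h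
        exact mul_right_cancel h)
      have h5 : ({1, a, z, a * z, y} : Finset G).card = 5 := by
        have hza : a * z ≠ a := fun e => hz1 (mul_eq_left.mp e)
        have hza' : a * z ≠ z := fun e => ha1 (mul_eq_right.mp e)
        simp [ha1.symm, hz1.symm, haz1.symm, hy0.symm, haz', hza.symm, hya.symm, hza'.symm, Ne.symm hne, hyaz.symm]
      have := Finset.card_le_card hsub
      rw [h5, ← Fintype.card_subtype, ← Nat.card_eq_fintype_card] at this
      exact absurd this (not_le.mpr (Nat.lt_succ_of_le h4))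
    subst hyz
    exact Subgroup.mem_centralizer_singleton_iff.mpr (hyc w hw)
  have hS8 : Nat.card S = 8 := by rw [hSC, hC]
  -- dihedral Sylow subgroups
  have hne : a * b ≠ 1 := fun e => hab (by
    rw [eq_inv_of_mul_eq_one_left e]; exact (Commute.refl b).inv_left)
  have hg4 : orderOf (a * b) = 4 := by
    haveI : Fact (Nat.Prime 2) := ⟨Nat.prime_two⟩
    have hd : orderOf (a * b) ∣ 2 ^ 3 := by
      rw [← Subgroup.orderOf_mk (a * b) (mul_mem haC hbC), show 2 ^ 3 = Nat.card C by rw [hC]; norm_num]
      exact orderOf_dvd_natCard _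
    obtain ⟨k, hk, hk'⟩ := (Nat.dvd_prime_pow Nat.prime_two).mp hd
    have hk2 : k ≠ 0 := fun e => by
      rw [e, pow_zero, orderOf_eq_one_iff] at hk'
      exact hne hk'
    have hk1 : k ≠ 1 := fun e => by
      rw [e, pow_one] at hk'
      have h := pow_orderOf_eq_one (a * b)
      rw [hk', pow_two, mul_eq_one_iff_eq_inv, _root_.mul_inv_rev, inv_eq_of_mul_eq_one_right ha,
        inv_eq_of_mul_eq_one_right hb] at h
      exact hab h
    have hk3 : k ≠ 3 := fun e => by
      rw [e] at hk'
      have hAC : Subgroup.zpowers (a * b) ≤ C := Subgroup.zpowers_le.mpr (mul_mem haC hbC)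
      have h4 := card_le_four hC haC hbC hab hAC (fun u hu v hv => by
        obtain ⟨i, rfl⟩ := Subgroup.mem_zpowers_iff.mp hu
        obtain ⟨j, rfl⟩ := Subgroup.mem_zpowers_iff.mp hv
        exact (Commute.refl (a * b)).zpow_zpow i j)
      rw [Nat.card_zpowers, hk'] at h4
      norm_num at h4
    rw [hk', show k = 2 by omega]
    norm_num
  have hd : HasDihedralSylow G := fun T => by
    refine ⟨4, by norm_num, ?_⟩
    obtain ⟨e⟩ : Nonempty (C ≃* DihedralGroup 4) := by
      refine PGroups.nonempty_dihedral_equiv (a := (⟨a * b, mul_mem haC hbC⟩ : C)) (x := ⟨a, haC⟩)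
        (by rw [Subgroup.orderOf_mk, hg4]) (Subtype.ext (by rw [Subgroup.coe_pow, pow_two]; exact ha)) ?_ ?_
        (by rw [hC])
      · refine Subtype.ext ?_
        simp only [Subgroup.coe_mul, Subgroup.coe_inv]
        rw [_root_.mul_inv_rev, ← mul_assoc a a b, ha, one_mul, inv_eq_of_mul_eq_one_right hb]
      · intro h
        obtain ⟨k, hk⟩ := Subgroup.mem_zpowers_iff.mp h
        have hk' : (a * b) ^ k = a := by simpa using congrArg Subtype.val hk
        have hc : Commute ((a * b) ^ k) (a * b) := (Commute.refl (a * b)).zpow_left k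
        rw [hk'] at hc
        have hcm : a * (a * b) = a * b * a := hc.eq
        rw [mul_assoc a b a] at hcm
        exact hab (mul_left_cancel hcm)
    exact ⟨(S.equiv T).symm.trans ((MulEquiv.subgroupCongr hSC).trans e)⟩
  rcases known_of_simple G hs hna hd with ⟨E, fE, fiE, hodd, h3, ⟨e⟩⟩ | ⟨⟨e⟩⟩
  · letI := fE
    letI := fiE
    obtain ⟨A, hA, hAc, hAcard⟩ := psl_torus hodd (x := e z) (by rw [MulEquiv.orderOf_eq, hz])
    have hle : A.map e.symm.toMonoidHom ≤ C := by
      rintro _ ⟨u, hu, rfl⟩
      rw [Subgroup.mem_centralizer_singleton_iff]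
      apply e.injective
      rw [map_mul, map_mul, MulEquiv.coe_toMonoidHom, MulEquiv.apply_symm_apply]
      exact hA u hu
    have h4 := card_le_four hC haC hbC hab hle (by
      rintro _ ⟨u, hu, rfl⟩ _ ⟨v, hv, rfl⟩
      rw [← map_mul, ← map_mul, hAc u hu v hv])
    rw [Subgroup.card_map_of_injective e.symm.injective] at h4
    have h9 : Fintype.card E ≤ 9 := by omega
    have ho := Nat.odd_iff.mp hodd
    rcases (by omega : Fintype.card E = 5 ∨ Fintype.card E = 7 ∨ Fintype.card E = 9) with h5 | h79
    · exfalso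
      have hc := Cfsg.Agent.Lib.Linear.two_mul_card_PSL_two_of_odd (F := E) hodd
      rw [h5, ← Nat.card_congr e.toEquiv] at hc
      have h8 : 8 ∣ Nat.card G := hS8 ▸ Subgroup.card_subgroup_dvd_card _
      omega
    · exact ⟨E, fE, fiE, h79, ⟨e⟩⟩
  · exfalso
    have h3 := alt_seven_centralizer (x := e z) (by rw [MulEquiv.orderOf_eq, hz])
    have hle : (Subgroup.centralizer ({e z} : Set (alternatingGroup (Fin 7)))).map e.symm.toMonoidHom ≤ C := by
      rintro _ ⟨u, hu, rfl⟩
      rw [Subgroup.mem_centralizer_singleton_iff]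
      apply e.injective
      rw [map_mul, map_mul, MulEquiv.coe_toMonoidHom, MulEquiv.apply_symm_apply]
      exact Subgroup.mem_centralizer_singleton_iff.mp hu
    have hd8 := Subgroup.card_dvd_of_le hle
    rw [Subgroup.card_map_of_injective e.symm.injective, hC] at hd8
    exact absurd (h3.trans hd8) (by norm_num)

end Cfsg.Agent.Lib.Mitchell3
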