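import Cfsg.Agent.Lib.Mitchell96.CharTwoCases
import Cfsg.Agent.Lib.Mitchell3.CharTwoIdent
import Cfsg.Agent.Lib.Mitchell3.DihedralEight

/-!
Mitchell package: a transvection with two axes and two centres and root groups of order two in
characteristic two, and the residual cores of `SL 3` over fields of even order.
-/

set_option autoImplicit false
set_option linter.style.haveILetI false
set_option linter.unusedSectionVars false

namespace Cfsg.Agent.Lib.Mitchell3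

open Matrix
open Cfsg.Geo (scalars mem_scalars_iff matrixSet)
open Cfsg.Agent.Lib.Subspaces.Transvection Cfsg.Agent.Lib.TransvThree
open Cfsg.Agent.Lib.Mitchell96 (CharTwoCore prop_of_vanish tv_sq tv_not_scalar sq_inj2 vec_add_self)
open Cfsg.Agent.Lib.PrimeDim.Symplectic (scalar_comm)

variable {F : Type*} [Field F] [Fintype F] {P : Subgroup (GL (Fin 3) F)}
variable {a c φ χ : Fin 3 → F}

/-- The local data at the configuration. -/
structure FourData (P : Subgroup (GL (Fin 3) F)) (a c φ χ : Fin 3 → F) : Prop where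
  ha : a ≠ 0
  hφ : φ ≠ 0
  hc : ∀ l : F, c ≠ l • a
  hχ : ∀ l : F, χ ≠ l • φ
  h1 : Tv P a φ
  h2 : Tv P a χ
  h3 : Tv P c φ
  hsmall : ∀ (v η : Fin 3 → F) (k : F), v ≠ 0 → η ≠ 0 → Tv P v η → Tv P v (k • η) → k = 0 ∨ k = 1

namespace FourData

variable (d : FourData P a c φ χ)
include d

theorem chi_c : χ ⬝ᵥ c = 1 := by
  have h := d.h2.commutator_axis d.h3 d.h1.1
  refine (d.hsmall a φ _ d.ha d.hφ d.h1 h).resolve_left fun e => ?_
  obtain ⟨l, hl⟩ := prop_of_vanish d.ha d.hc d.hφ d.h1.1 d.h3.1 d.h2.1 e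
  exact d.hχ l hl

/-- A functional killing `a`. -/
theorem axis_eq {η : Fin 3 → F} (h : η ⬝ᵥ a = 0) : ∃ s : F, η = s • φ + (η ⬝ᵥ c) • χ := by
  obtain ⟨l, hl⟩ := prop_of_vanish d.ha d.hc d.hφ d.h1.1 d.h3.1 (ψ := η - (η ⬝ᵥ c) • χ)
    (by rw [sub_dotProduct, smul_dotProduct, h, d.h2.1, smul_zero, sub_zero])
    (by rw [sub_dotProduct, smul_dotProduct, d.chi_c, smul_eq_mul, mul_one, sub_self])
  exact ⟨l, eq_add_of_sub_eq hl⟩

/-- A vector killed by `φ`. -/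
theorem centre_eq {x : Fin 3 → F} (h : φ ⬝ᵥ x = 0) : ∃ s : F, x = s • a + (χ ⬝ᵥ x) • c := by
  obtain ⟨l, hl⟩ := prop_of_vanish (v := φ) (w := χ) (φ := a) (ψ := x - (χ ⬝ᵥ x) • c) d.hφ d.hχ d.ha
    (by rw [dotProduct_comm, d.h1.1]) (by rw [dotProduct_comm, d.h2.1])
    (by rw [sub_dotProduct, smul_dotProduct, dotProduct_comm c, d.h3.1, smul_zero, dotProduct_comm, h, sub_zero])
    (by rw [sub_dotProduct, smul_dotProduct, dotProduct_comm c, d.chi_c, smul_eq_mul, mul_one,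
      dotProduct_comm, sub_self])
  exact ⟨l, eq_add_of_sub_eq hl⟩

/-- The transvections with centre `a`. -/
theorem tv_at_a {η : Fin 3 → F} (h : Tv P a η) :
    ∃ ε δ : F, (ε = 0 ∨ ε = 1) ∧ (δ = 0 ∨ δ = 1) ∧ η = ε • φ + δ • χ := by
  have ht := d.hsmall a φ _ d.ha d.hφ d.h1 (h.commutator_axis d.h3 d.h1.1)
  obtain ⟨s, hs⟩ := d.axis_eq h.1
  refine ⟨s, η ⬝ᵥ c, d.hsmall a φ s d.ha d.hφ d.h1 ?_, ht, hs⟩
  rcases ht with e | e <;> rw [e] at hs
  · rw [zero_smul, add_zero] at hs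
    exact hs ▸ h
  · rw [one_smul] at hs
    have := h.sub d.h2
    rwa [hs, add_sub_cancel_right] at this

/-- The transvections with axis `φ`. -/
theorem tv_on_phi {w : Fin 3 → F} (h : Tv P w φ) :
    ∃ s t : F, (s = 0 ∨ s = 1) ∧ (t = 0 ∨ t = 1) ∧ w = s • a + t • c := by
  have ht := d.hsmall a φ _ d.ha d.hφ d.h1 (d.h2.commutator_axis h d.h1.1)
  obtain ⟨s, hs⟩ := d.centre_eq h.1
  refine ⟨s, χ ⬝ᵥ w, ?_, ht, hs⟩
  rcases eq_or_ne s 0 with hs0 | hs0
  · exact Or.inl hs0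
  refine d.hsmall a φ s d.ha d.hφ d.h1 ((tv_smul_left_iff hs0).mp ?_)
  rcases ht with e | e <;> rw [e] at hs
  · rw [zero_smul, add_zero] at hs
    exact hs ▸ h
  · rw [one_smul] at hs
    have e1 : s • a = w + -c := by rw [hs, add_neg_cancel_right]
    have hc' : Tv P (-c) φ := by
      rw [← neg_one_smul F c, tv_smul_left_iff (neg_ne_zero.2 one_ne_zero), neg_one_smul]
      exact d.h3.neg
    rw [e1]
    exact ⟨by rw [dotProduct_add, h.1, hc'.1, add_zero], by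
      rw [← tv_mul_axis h.1 hc'.1]; exact mul_mem h.2 hc'.2⟩

theorem exists_e : ∃ e : Fin 3 → F, φ ⬝ᵥ e = 1 ∧ χ ⬝ᵥ e = 0 ∧
    ∀ x, ∃ p : F, x = p • a + (χ ⬝ᵥ x) • c + (φ ⬝ᵥ x) • e := by
  obtain ⟨z, hz⟩ := exists_dot_eq_one d.hφ
  rw [dotProduct_comm] at hz
  have e1 : φ ⬝ᵥ (z - (χ ⬝ᵥ z) • c) = 1 := by rw [dotProduct_sub, dotProduct_smul, d.h3.1, hz, smul_zero, sub_zero]
  have e2 : χ ⬝ᵥ (z - (χ ⬝ᵥ z) • c) = 0 := by
    rw [dotProduct_sub, dotProduct_smul, d.chi_c, smul_eq_mul, mul_one, sub_self]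
  refine ⟨_, e1, e2, fun x => ?_⟩
  obtain ⟨p, hp⟩ := d.centre_eq (x := x - (φ ⬝ᵥ x) • (z - (χ ⬝ᵥ z) • c))
    (by rw [dotProduct_sub, dotProduct_smul, e1, smul_eq_mul, mul_one, sub_self])
  rw [dotProduct_sub, dotProduct_smul, e2, smul_zero, sub_zero] at hp
  exact ⟨p, eq_add_of_sub_eq hp⟩

/-- The commutator of the two further transvections. -/
theorem commutator_eq (h2' : (2 : F) = 0) :
    tv a χ * tv c φ * (tv a χ * tv c φ) = (tv a φ : GL (Fin 3) F) := by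
  refine gl_ext fun x => ?_
  simp only [gl_mul_mulVec, tv_mulVec d.h1.1, tv_mulVec d.h2.1, tv_mulVec d.h3.1, dotProduct_add,
    dotProduct_smul, d.h1.1, d.h2.1, d.h3.1, d.chi_c, smul_eq_mul, mul_zero, mul_one, add_zero, add_smul]
  have hv := vec_add_self h2'
  calc _ = x + (φ ⬝ᵥ x) • a + ((φ ⬝ᵥ x) • a + (φ ⬝ᵥ x) • a) + ((χ ⬝ᵥ x) • a + (χ ⬝ᵥ x) • a) +
        ((φ ⬝ᵥ x) • c + (φ ⬝ᵥ x) • c) := by module
    _ = _ := by rw [hv, hv, hv, add_zero, add_zero, add_zero]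

/-- The elements commuting with `tv a φ`, up to scalars. -/
theorem normal_form (h2' : (2 : F) = 0) (hSL : P ≤ Cfsg.Geo.specialLinear (Fin 3) F) {g : GL (Fin 3) F}
    (hg : g ∈ P) (hcom : g * tv a φ = tv a φ * g) :
    ∃ (i j k : Fin 2), (tv a χ ^ (i : ℕ) * tv c φ ^ (j : ℕ) * tv a φ ^ (k : ℕ))⁻¹ * g ∈ scalars (Fin 3) F := by
  classical
  obtain ⟨e, he1, he2, hdec⟩ := d.exists_e
  have hz : ∀ x, g.val *ᵥ x + (φ ⬝ᵥ x) • g.val *ᵥ a = g.val *ᵥ x + (φ ⬝ᵥ g.val *ᵥ x) • a := fun x => by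
    have := congrArg (fun h : GL (Fin 3) F => h.val *ᵥ x) hcom
    simpa only [gl_mul_mulVec, tv_mulVec d.h1.1, mulVec_add, mulVec_smul] using this
  have hz' : ∀ x, (φ ⬝ᵥ x) • g.val *ᵥ a = (φ ⬝ᵥ g.val *ᵥ x) • a := fun x => add_left_cancel (hz x)
  set μ := φ ⬝ᵥ g.val *ᵥ e with hμdef
  have hga : g.val *ᵥ a = μ • a := by
    have := hz' e
    rwa [he1, one_smul] at this
  have hμ : μ ≠ 0 := fun h0 => d.ha (gl_mulVec_injective g
    (show g.val *ᵥ a = g.val *ᵥ 0 by rw [hga, h0, zero_smul, mulVec_zero]))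
  have hφg : ∀ x, φ ⬝ᵥ g.val *ᵥ x = μ * (φ ⬝ᵥ x) := fun x => by
    have := hz' x
    rw [hga, smul_smul] at this
    rw [← smul_left_injective F d.ha this, mul_comm]
  have hinv : ∀ (η : Fin 3 → F) (x : Fin 3 → F), (η ᵥ* (g⁻¹).val) ⬝ᵥ (g.val *ᵥ x) = η ⬝ᵥ x :=
    fun η x => vecMul_dot g η x
  -- the axes at `a`
  obtain ⟨ε, δ, hε, hδ, hη⟩ := d.tv_at_a (η := μ • (χ ᵥ* (g⁻¹).val)) (by
    have := d.h2.conj hg
    rwa [hga, tv_smul_left_iff hμ] at this)
  have hχg : ∀ x, ε * (μ * (φ ⬝ᵥ x)) + δ * (χ ⬝ᵥ g.val *ᵥ x) = μ * (χ ⬝ᵥ x) := fun x => by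
    have := congrArg (fun η => η ⬝ᵥ g.val *ᵥ x) hη
    simp only [smul_dotProduct, add_dotProduct, hinv, hφg, smul_eq_mul] at this
    exact this.symm
  obtain rfl : δ = 1 := hδ.resolve_left fun h0 => hμ (by
    have := hχg c
    rw [h0, d.chi_c, d.h3.1] at this
    simpa using this.symm)
  simp only [one_mul] at hχg
  -- the centres on `φ`
  obtain ⟨s, t, hs, -, hw⟩ := d.tv_on_phi (w := μ⁻¹ • g.val *ᵥ c) (by
    have := d.h3.conj hg
    have e' : φ ᵥ* (g⁻¹).val = μ⁻¹ • φ := by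
      funext i
      have h := hφg ((g⁻¹).val *ᵥ Pi.single i 1)
      rw [gl_mulVec_inv, dotProduct_mulVec] at h
      simp only [dotProduct_single, mul_one] at h
      rw [Pi.smul_apply, smul_eq_mul, h, inv_mul_cancel_left₀ hμ]
    rw [e'] at this
    rwa [tv_smul_left_iff (inv_ne_zero hμ)])
  have ht : t = 1 := by
    have h := congrArg (χ ⬝ᵥ ·) hw
    have h' := hχg c
    rw [d.h3.1, d.chi_c, mul_zero, mul_zero, zero_add, mul_one] at h'
    simp only [dotProduct_smul, dotProduct_add, d.h2.1, d.chi_c, h', smul_eq_mul, mul_zero, zero_add, mul_one,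
      inv_mul_cancel₀ hμ] at h
    exact h.symm
  subst ht
  have hgc : g.val *ᵥ c = μ • (s • a + c) := by
    rw [one_smul] at hw
    rw [← hw, smul_inv_smul₀ hμ]
  obtain ⟨p, hp⟩ := hdec (g.val *ᵥ e)
  have hge2 : χ ⬝ᵥ g.val *ᵥ e = μ * ε := by
    have h := hχg e
    rw [he1, he2, mul_one, mul_zero] at h
    linear_combination h - ε * μ * h2'
  rw [hge2, ← hμdef] at hp
  -- remove the two transvections
  have f2 : ∀ {z : F}, z = 0 ∨ z = 1 → ∃ i : Fin 2, ((i : ℕ) : F) = z := by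
    rintro z (rfl | rfl)
    exacts [⟨0, by simp⟩, ⟨1, by simp⟩]
  obtain ⟨i, hi⟩ := f2 hs
  obtain ⟨j, hj⟩ := f2 hε
  have hpow : ∀ {v η : Fin 3 → F}, η ⬝ᵥ v = 0 → ∀ (i : Fin 2) x,
      (tv v η ^ (i : ℕ) : GL (Fin 3) F).val *ᵥ x = x + ((i : ℕ) : F) • ((η ⬝ᵥ x) • v) := by
    intro v η h i x
    fin_cases i <;> simp [tv_mulVec h]
  set u : GL (Fin 3) F := tv a χ ^ (i : ℕ) * tv c φ ^ (j : ℕ) with hu
  have huP : u ∈ P := mul_mem (pow_mem d.h2.2 _) (pow_mem d.h3.2 _)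
  have hu' : ∀ x, u.val *ᵥ x = x + (ε * (φ ⬝ᵥ x)) • c + (s * (χ ⬝ᵥ x + ε * (φ ⬝ᵥ x))) • a := fun x => by
    rw [hu, gl_mul_mulVec, hpow d.h3.1, hpow d.h2.1, hi, hj]
    simp only [dotProduct_add, dotProduct_smul, d.chi_c, smul_smul, smul_eq_mul, mul_one]
  set y : F := μ⁻¹ * p - s * ε with hy
  set h : GL (Fin 3) F := u⁻¹ * g with hh
  have hT : (y • φ) ⬝ᵥ a = 0 := by rw [smul_dotProduct, d.h1.1, smul_zero]
  have hval : h.val = μ • (tv a (y • φ) : GL (Fin 3) F).val := by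
    refine Matrix.ext_of_mulVec_single fun n => ?_
    set x : Fin 3 → F := Pi.single n 1
    apply gl_mulVec_injective u
    show u.val *ᵥ (h.val *ᵥ x) = u.val *ᵥ ((μ • (tv a (y • φ) : GL (Fin 3) F).val) *ᵥ x)
    rw [← gl_mul_mulVec, hh, mul_inv_cancel_left, smul_mulVec, tv_mulVec hT, mulVec_smul, hu']
    simp only [dotProduct_add, dotProduct_smul, smul_dotProduct, d.h1.1, d.h2.1, smul_eq_mul, mul_zero, add_zero]
    obtain ⟨q, hq⟩ := hdec x
    have hμp : p = μ * (y + s * ε) := by rw [hy]; field_simp; ring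
    generalize φ ⬝ᵥ x = r at hq ⊢
    generalize χ ⬝ᵥ x = r' at hq ⊢
    rw [hq, mulVec_add, mulVec_add, mulVec_smul, mulVec_smul, mulVec_smul, hga, hgc, hp, hμp]
    module
  have hdet : μ ^ 3 = 1 := by
    have e1 := congrArg Matrix.det hval
    rw [det_smul, det_tv, mul_one, Fintype.card_fin,
      (mem_specialLinear_iff h).mp (mul_mem (inv_mem (hSL huP)) (hSL hg))] at e1
    exact e1.symm
  set T : GL (Fin 3) F := tv a (y • φ) with hTdef
  have hTT : T * T = 1 := tv_sq h2' hT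
  have h3 : h ^ 3 = T := by
    refine Units.ext ?_
    rw [Units.val_pow_eq_pow_val, hval, smul_pow, hdet, one_smul, ← Units.val_pow_eq_pow_val, pow_succ,
      pow_two, hTT, one_mul]
  have hy01 : y = 0 ∨ y = 1 := d.hsmall a φ y d.ha d.hφ d.h1
    ⟨hT, hTdef ▸ h3 ▸ pow_mem (mul_mem (inv_mem huP) hg) 3⟩
  obtain ⟨k, hk⟩ := f2 hy01
  refine ⟨i, j, k, ?_⟩
  have hTk : T = tv a φ ^ (k : ℕ) := by
    refine gl_ext fun x => ?_
    rw [hpow d.h1.1, hk, hTdef, tv_mulVec hT, smul_dotProduct, smul_smul, smul_eq_mul]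
  rw [← hu, _root_.mul_inv_rev, mul_assoc, ← hh, ← hTk]
  refine (mem_scalars_iff _).mpr ⟨Units.mk0 μ hμ, ?_⟩
  rw [Units.val_mul, hval, Matrix.mul_smul, Units.inv_mul, Units.val_mk0]

end FourData

/-- A centraliser covered by eight words is of order eight. -/
theorem card_eight {G : Type*} [Group G] [Finite G] {x y z : G} {C : Subgroup G} (hxyz : x * y * (x * y) = z)
    (hz2 : z * z = 1) (hz1 : z ≠ 1) (hxy : ¬ Commute x y) (hxC : x ∈ C) (hyC : y ∈ C)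
    (hall : ∀ g ∈ C, ∃ i j k : Fin 2, x ^ (i : ℕ) * y ^ (j : ℕ) * z ^ (k : ℕ) = g) : Nat.card C = 8 := by
  haveI : Fact (Nat.Prime 2) := ⟨Nat.prime_two⟩
  choose i j k hg using hall
  have hle : Nat.card C ≤ 8 := by
    refine (Nat.card_le_card_of_injective (fun g : C => (i g g.2, j g g.2, k g g.2)) fun g g' e => ?_).trans
      (by simp)
    simp only [Prod.mk.injEq] at e
    refine Subtype.ext ((hg g g.2).symm.trans (Eq.trans ?_ (hg g' g'.2)))
    rw [e.1, e.2.1, e.2.2]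
  have ho : orderOf (x * y) = 2 ^ (1 + 1) :=
    orderOf_eq_prime_pow (by rw [pow_one, pow_two, hxyz]; exact hz1)
      (by rw [pow_succ, pow_one, pow_mul, pow_two, pow_two, hxyz, hz2])
  have h4 : 4 ∣ Nat.card C := by
    have h := orderOf_dvd_natCard (⟨x * y, mul_mem hxC hyC⟩ : C)
    rwa [Subgroup.orderOf_mk, ho] at h
  have hne : Nat.card C ≠ 4 := fun e => by
    have := IsPGroup.commutative_of_card_eq_prime_sq (p := 2) (G := C) e ⟨x, hxC⟩ ⟨y, hyC⟩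
    exact hxy (congrArg Subtype.val this)
  obtain ⟨m, hm⟩ := h4
  have := Nat.card_pos (α := C)
  omega

/-- The configuration with two axes and two centres. -/
theorem four_case [CharP F 2] (hP : CharTwoCore P) (d : FourData P a c φ χ) :
    (Nonempty ((P ⧸ (scalars (Fin 3) F).subgroupOf P) ≃* alternatingGroup (Fin 6)) ∧ Fintype.card F = 4) ∨
      (∃ F₀ : Subfield F, F₀ ≠ ⊤ ∧ Cfsg.Geo.RealisableOver F₀ (matrixSet P)) ∨
      Cfsg.Geo.specialLinear (Fin 3) F ≤ P := by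
  classical
  have h2' := hP.two
  set Z := (scalars (Fin 3) F).subgroupOf P with hZ
  set X : P := ⟨_, d.h2.2⟩ with hX
  set Y : P := ⟨_, d.h3.2⟩ with hY
  set T : P := ⟨_, d.h1.2⟩ with hT
  have hiff : ∀ g : P, (g : P ⧸ Z) = 1 ↔ (g : GL (Fin 3) F) ∈ scalars (Fin 3) F := fun g => by
    rw [QuotientGroup.eq_one_iff, hZ, Subgroup.mem_subgroupOf]
  have hTne : (T : P ⧸ Z) ≠ 1 := fun e => tv_not_scalar d.ha d.hφ d.h1.1 ((hiff T).mp e)
  have hcomm : X * Y * (X * Y) = T := Subtype.ext (d.commutator_eq h2')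
  have hsqX : (X : P ⧸ Z) * X = 1 := by
    rw [← QuotientGroup.mk_mul, show X * X = 1 from Subtype.ext (tv_sq h2' d.h2.1), QuotientGroup.mk_one]
  have hsqY : (Y : P ⧸ Z) * Y = 1 := by
    rw [← QuotientGroup.mk_mul, show Y * Y = 1 from Subtype.ext (tv_sq h2' d.h3.1), QuotientGroup.mk_one]
  have hsqT : (T : P ⧸ Z) * T = 1 := by
    rw [← QuotientGroup.mk_mul, show T * T = 1 from Subtype.ext (tv_sq h2' d.h1.1), QuotientGroup.mk_one]
  have hXY : ¬ Commute (X : P ⧸ Z) Y := fun h => hTne (by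
    rw [← hcomm, QuotientGroup.mk_mul, QuotientGroup.mk_mul]
    calc (X : P ⧸ Z) * Y * ((X : P ⧸ Z) * Y) = (X : P ⧸ Z) * Y * ((Y : P ⧸ Z) * X) := by rw [h.eq]
      _ = 1 := by rw [mul_assoc, ← mul_assoc (Y : P ⧸ Z) Y, hsqY, one_mul, hsqX])
  have hXT : (X : P ⧸ Z) * T = T * X := by
    rw [← QuotientGroup.mk_mul, ← QuotientGroup.mk_mul]
    congr 1
    refine Subtype.ext ?_
    show tv a χ * tv a φ = tv a φ * tv a χ
    rw [tv_mul_center d.h2.1 d.h1.1, tv_mul_center d.h1.1 d.h2.1, add_comm]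
  have hYT : (Y : P ⧸ Z) * T = T * Y := by
    rw [← QuotientGroup.mk_mul, ← QuotientGroup.mk_mul]
    congr 1
    refine Subtype.ext ?_
    show tv c φ * tv a φ = tv a φ * tv c φ
    rw [tv_mul_axis d.h3.1 d.h1.1, tv_mul_axis d.h1.1 d.h3.1, add_comm]
  have hall : ∀ g : P, (g : P ⧸ Z) * T = T * g →
      ∃ i j k : Fin 2, (X : P ⧸ Z) ^ (i : ℕ) * (Y : P ⧸ Z) ^ (j : ℕ) * (T : P ⧸ Z) ^ (k : ℕ) = g := by
    intro g hgq
    rw [← QuotientGroup.mk_mul, ← QuotientGroup.mk_mul, QuotientGroup.eq, hZ, Subgroup.mem_subgroupOf] at hgq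
    simp only [Subgroup.coe_mul, Subgroup.coe_inv] at hgq
    obtain ⟨w, hw⟩ := (mem_scalars_iff _).mp hgq
    set t : GL (Fin 3) F := tv a φ with ht
    change (((g : GL (Fin 3) F) * t)⁻¹ * (t * g) : GL (Fin 3) F).val = _ at hw
    have hg' : t * (g : GL (Fin 3) F) = (g : GL (Fin 3) F) * t * (((g : GL (Fin 3) F) * t)⁻¹ * (t * g)) := by group
    set σ := ((g : GL (Fin 3) F) * t)⁻¹ * (t * g) with hσ
    have hσc := scalar_comm hgq
    have e1 : (g : GL (Fin 3) F)⁻¹ * t * g = t * σ := by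
      rw [mul_assoc, hg']; group
    have e2 : σ * σ = 1 := by
      have : ((g : GL (Fin 3) F)⁻¹ * t * g) * ((g : GL (Fin 3) F)⁻¹ * t * g) = 1 := by
        calc _ = (g : GL (Fin 3) F)⁻¹ * (t * t) * g := by group
          _ = 1 := by rw [ht, tv_sq h2' d.h1.1, mul_one, inv_mul_cancel]
      rw [e1, mul_assoc, ← mul_assoc σ t σ, hσc t, mul_assoc t σ σ, ← mul_assoc t t, ht,
        tv_sq h2' d.h1.1, one_mul] at this
      exact this
    have e3 : σ = 1 := by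
      have := congrArg (fun m : GL (Fin 3) F => m.val 0 0) e2
      simp [Units.val_mul, hw] at this
      refine Units.ext ?_
      rw [hw, sq_inj2 h2' (this.trans (mul_one (1 : F)).symm), one_smul, Units.val_one]
    rw [e3, mul_one] at hg'
    obtain ⟨i, j, k, h⟩ := d.normal_form h2' hP.sl g.2 hg'.symm
    refine ⟨i, j, k, ?_⟩
    rw [← QuotientGroup.mk_pow, ← QuotientGroup.mk_pow, ← QuotientGroup.mk_pow, ← QuotientGroup.mk_mul,
      ← QuotientGroup.mk_mul, QuotientGroup.eq, hZ, Subgroup.mem_subgroupOf]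
    simpa using h
  set C := Subgroup.centralizer ({(T : P ⧸ Z)} : Set (P ⧸ Z)) with hC
  have hcard : Nat.card C = 8 :=
    card_eight (z := (T : P ⧸ Z)) (by rw [← QuotientGroup.mk_mul, ← QuotientGroup.mk_mul, hcomm]) hsqT hTne hXY
      (Subgroup.mem_centralizer_singleton_iff.mpr hXT) (Subgroup.mem_centralizer_singleton_iff.mpr hYT)
      fun q hq => by
        obtain ⟨g, rfl⟩ := QuotientGroup.mk_surjective q
        exact hall g (Subgroup.mem_centralizer_singleton_iff.mp hq)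
  obtain ⟨E, iE, fE, hE, ⟨e⟩⟩ := psl_seven_or_nine hP.simple hP.nonabelian
    (orderOf_eq_prime (by rw [pow_two, hsqT]) hTne) hcard hsqX hsqY hXY hXT hYT
  letI := iE
  letI := fE
  exact ident_two hP.sl hP.perfect hP.absIrred hE e

/-- The residual cores over a field of even order. -/
theorem linear_even [CharP F 2] {H P : Subgroup (GL (Fin 3) F)}
    (hH : H < Cfsg.Geo.specialLinear (Fin 3) F) (hR : Cfsg.Geo.IsResidualCore H P)
    (hnu : ¬ ∃ (σ : F ≃+* F) (f : (Fin 3 → F) → (Fin 3 → F) → F), Cfsg.Geo.IsUnitaryForm σ f ∧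
      Cfsg.Geo.FixesForm (matrixSet P) f) :
    Nonempty ((P ⧸ (scalars (Fin 3) F).subgroupOf P) ≃* alternatingGroup (Fin 6)) ∧ Fintype.card F = 4 := by
  have hP : CharTwoCore P :=
    ⟨CharP.cast_eq_zero F 2, hR.le.trans hH.le, hR.perfect, hR.simple, hR.nonabelian, hR.absIrred⟩
  have hsl : ¬ Cfsg.Geo.specialLinear (Fin 3) F ≤ P := fun h => hH.not_ge (h.trans hR.le)
  rcases Cfsg.Agent.Lib.Mitchell96.char_two_cases hP with h | ⟨F₀, h0, h⟩ | h | ⟨hsmall, a, c, φ, χ, ha, hφ, hc, hχ, h1, h2, h3⟩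
  · exact absurd h hsl
  · exact absurd h (hR.no_subfield F₀ h0)
  · exact absurd h hnu
  · rcases four_case hP ⟨ha, hφ, hc, hχ, h1, h2, h3, hsmall⟩ with h | ⟨F₀, h0, h⟩ | h
    · exact h
    · exact absurd h (hR.no_subfield F₀ h0)
    · exact absurd h hsl

end Cfsg.Agent.Lib.Mitchell3
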