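import Cfsg.Agent.Lib.Mitchell3.Counting
import Cfsg.Agent.Lib.Mitchell3.Arith
import Cfsg.Agent.S0675

/-!
Mitchell package: the elements commuting with no involution lie in abelian TI centralisers; their
contribution to the class equation.
-/

set_option autoImplicit false
set_option linter.unusedSectionVars false
set_option linter.style.haveILetI false

namespace Cfsg.Agent.Lib.Mitchell3

open Matrix Module
open Cfsg.Agent.Lib.Subspaces.Transvection

variable {K : Type*} [Field K] {G : Subgroup (GL (Fin 3) K)}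

/-- `y` is not scalar and commutes with no involution. -/
def InY (y : G) : Prop := ¬ IsSc (y : GL (Fin 3) K) ∧ ¬ CInv G y

/-- The centraliser inside `G`. -/
abbrev cA (y : G) : Subgroup G := Subgroup.centralizer ({y} : Set G)

/-- The normaliser of the centraliser. -/
abbrev nA (y : G) : Subgroup G := Subgroup.normalizer ((cA y : Subgroup G) : Set G)

theorem mem_cA {x y : G} : x ∈ cA y ↔ Commute x y :=
  Subgroup.mem_centralizer_singleton_iff

theorem commute_coe {x y : G} : Commute (x : GL (Fin 3) K) y ↔ Commute x y :=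
  ⟨fun h => Subtype.ext h.eq, fun h => h.map G.subtype⟩

theorem scIn_le_cA (y : G) : scIn G ≤ cA y := fun x hx =>
  mem_cA.mpr (commute_coe.mp (sc_commute (mem_scIn.mp hx) _))

theorem HomData.conj {x : GL (Fin 3) K} {a φ : Fin 3 → K} {l : K} (h : HomData x a φ l)
    (g : GL (Fin 3) K) :
    HomData (g * x * g⁻¹) ((g : Matrix (Fin 3) (Fin 3) K) *ᵥ a)
      (φ ᵥ* ((g⁻¹ : GL (Fin 3) K) : Matrix (Fin 3) (Fin 3) K)) l := by
  refine ⟨?_, h.2.1, h.2.2.1, Matrix.mulVec_injective (funext fun w => ?_)⟩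
  · rw [← dotProduct_mulVec, gl_inv_mulVec, h.dot]
  · rw [gl_mul_mulVec, gl_mul_mulVec, h.mulVec_eq, homMat_mulVec, mulVec_add, mulVec_smul,
      mulVec_smul, gl_mulVec_inv, dotProduct_mulVec]

/-- A homology has no three distinct eigenvalues. -/
theorem HomData.not_three {z : GL (Fin 3) K} {a φ : Fin 3 → K} {l : K} (h : HomData z a φ l)
    {u v w : Fin 3 → K} {c d e : K} (hu : u ≠ 0) (hv : v ≠ 0) (hw : w ≠ 0)
    (hcu : (z : Matrix (Fin 3) (Fin 3) K) *ᵥ u = c • u)
    (hdv : (z : Matrix (Fin 3) (Fin 3) K) *ᵥ v = d • v)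
    (hew : (z : Matrix (Fin 3) (Fin 3) K) *ᵥ w = e • w) (h1 : c ≠ d) (h2 : c ≠ e) (h3 : d ≠ e) :
    False := by
  have key : ∀ x : Fin 3 → K, x ≠ 0 → ∀ f : K, (z : Matrix (Fin 3) (Fin 3) K) *ᵥ x = f • x →
      f = l ∨ f = (l ^ 2)⁻¹ := by
    intro x hx f hf
    rw [h.mulVec_eq] at hf
    by_cases hfl : f = l
    · exact Or.inl hfl
    right
    have h4 := congrArg (φ ⬝ᵥ ·) hf
    simp only [dotProduct_add, dotProduct_smul, h.dot, smul_eq_mul, mul_one] at h4
    have hφ : φ ⬝ᵥ x ≠ 0 := fun e => by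
      rw [e, mul_zero, zero_smul, add_zero] at hf
      exact hfl (smul_left_injective K hx hf).symm
    apply mul_right_cancel₀ hφ
    linear_combination -h4
  rcases key u hu c hcu with rfl | rfl <;> rcases key v hv d hdv with rfl | rfl <;>
    rcases key w hw e hew with rfl | rfl <;> first | exact h1 rfl | exact h2 rfl | exact h3 rfl

/-- Three eigenlines of an element of order prime to `p` which is not a homology. -/
theorem eigen_frame [IsAlgClosed K] (hc : Ctx G) {p : ℕ} [Fact p.Prime] [CharP K p]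
    {x : GL (Fin 3) K} (hx : x ∈ G) (hns : ¬ IsSc x) (hnh : ¬ IsHom x) (ho : ¬ p ∣ orderOf x) :
    ∃ (e : Fin 3 → K) (B : Basis (Fin 3) K (Fin 3 → K)), Function.Injective e ∧
      (∀ i, (x : Matrix (Fin 3) (Fin 3) K) *ᵥ B i = e i • B i) ∧
      ∀ (w : Fin 3 → K) (c : K), (x : Matrix (Fin 3) (Fin 3) K) *ᵥ w = c • w → w ≠ 0 → ∃ i, ∃ d : K, w = d • B i := by
  classical
  haveI := hc.fin
  set M : Matrix (Fin 3) (Fin 3) K := (x : Matrix (Fin 3) (Fin 3) K) with hM
  set f : Module.End K (Fin 3 → K) := Matrix.toLin' M with hf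
  have hfin : IsOfFinOrder x := by
    have := isOfFinOrder_of_finite (⟨x, hx⟩ : G)
    rwa [← Submonoid.isOfFinOrder_coe] at this
  have hn0 : ((orderOf x : ℕ) : K) ≠ 0 := fun h => ho ((CharP.cast_eq_zero_iff K p _).mp h)
  have hpow : f ^ orderOf x = 1 := by
    rw [hf, ← Matrix.toLin'_pow, hM, ← Units.val_pow_eq_pow_val, pow_orderOf_eq_one, Units.val_one,
      Matrix.toLin'_one]
    rfl
  have hdvd : minpoly K f ∣ Polynomial.X ^ orderOf x - Polynomial.C 1 :=
    minpoly.dvd K f (by simp [hpow])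
  have hsep : (minpoly K f).Separable :=
    Polynomial.Separable.of_dvd (Polynomial.separable_X_pow_sub_C 1 hn0 one_ne_zero) hdvd
  have h1 : ∀ c : K, finrank K (LinearMap.ker (Matrix.toLin' (M - c • 1))) ≤ 1 := fun c => by
    by_contra h
    push Not at h
    exact hnh (isHom_of_eigenspace hc.sl hc.tf hx hns c h)
  have hdeg : 3 ≤ (minpoly K f).natDegree := by
    by_contra h
    push Not at h
    have hint : IsIntegral K f := Algebra.IsIntegral.isIntegral f
    have hroots := IsAlgClosed.card_roots_eq_natDegree (p := minpoly K f)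
    have hprod := (IsAlgClosed.splits (minpoly K f)).eq_prod_roots
    have hmon := minpoly.monic hint
    rw [hmon.leadingCoeff, map_one, one_mul] at hprod
    have h0 := minpoly.aeval K f
    have hpos : 0 < (minpoly K f).natDegree := minpoly.natDegree_pos hint
    rw [← hroots] at h hpos
    obtain hcard | hcard : (minpoly K f).roots.card = 1 ∨ (minpoly K f).roots.card = 2 := by omega
    · obtain ⟨r, hr⟩ := Multiset.card_eq_one.mp hcard
      rw [hprod, hr] at h0
      simp [Algebra.algebraMap_eq_smul_one, sub_eq_zero] at h0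
      refine hns ⟨r, ?_⟩
      apply Matrix.toLin'.injective
      rw [map_smul, Matrix.toLin'_one, ← hf, h0]
      rfl
    · obtain ⟨r, s, hrs⟩ := Multiset.card_eq_two.mp hcard
      rw [hprod, hrs] at h0
      simp [Algebra.algebraMap_eq_smul_one] at h0
      have hle : LinearMap.range (f - s • 1) ≤ LinearMap.ker (f - r • 1) :=
        LinearMap.range_le_ker_iff.mpr h0
      have h3 := LinearMap.finrank_range_add_finrank_ker (f - s • 1)
      rw [finrank_fin_fun] at h3
      have h4 := Submodule.finrank_mono hle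
      have e : ∀ c : K, LinearMap.ker (f - c • 1) = LinearMap.ker (Matrix.toLin' (M - c • 1)) :=
        fun c => by rw [map_sub, map_smul, Matrix.toLin'_one]; rfl
      rw [e s] at h3
      rw [e r] at h4
      have := h1 r
      have := h1 s
      omega
  have hnod := Polynomial.nodup_roots hsep
  set R := (minpoly K f).roots.toFinset with hR
  have hRcard : 3 ≤ R.card := by
    rw [hR, Multiset.toFinset_card_of_nodup hnod, IsAlgClosed.card_roots_eq_natDegree]; exact hdeg
  obtain ⟨R', hR', hR'c⟩ := Finset.exists_subset_card_eq hRcard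
  let e : Fin 3 → K := fun i => (R'.equivFinOfCardEq hR'c).symm i
  have hinj : Function.Injective e := fun i j h =>
    (R'.equivFinOfCardEq hR'c).symm.injective (Subtype.ext h)
  have heig : ∀ i, ∃ v, f.HasEigenvector (e i) v := fun i => by
    refine (Module.End.hasEigenvalue_iff_isRoot.mpr ?_).exists_hasEigenvector
    have h : e i ∈ R := hR' (((R'.equivFinOfCardEq hR'c).symm i).2)
    exact (Polynomial.mem_roots'.mp (Multiset.mem_toFinset.mp h)).2
  choose v hv using heig
  have hli := Module.End.eigenvectors_linearIndependent' f e hinj v hv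
  let B := basisOfLinearIndependentOfCardEqFinrank hli (by simp)
  have hB : ∀ i, M *ᵥ B i = e i • B i := fun i => by
    have := (hv i).apply_eq_smul
    rw [show B i = v i by simp [B]]
    rwa [hf, Matrix.toLin'_apply] at this
  refine ⟨e, B, hinj, hB, fun w c hwc hw0 => ?_⟩
  have hrep : ∀ i, B.repr w i * (e i - c) = 0 := by
    intro i
    have hsum : M *ᵥ w = ∑ j, (B.repr w j * e j) • B j := by
      conv_lhs => rw [← B.sum_repr w]
      simp only [Fin.sum_univ_three, mulVec_add, mulVec_smul, hB, smul_smul]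
    have hsum2 : ∑ j, (B.repr w j * (e j - c)) • B j = 0 := by
      have : ∑ j, (B.repr w j * (e j - c)) • B j = M *ᵥ w - c • w := by
        rw [hsum]
        conv_rhs => arg 2; rw [← B.sum_repr w]
        simp only [Fin.sum_univ_three]
        module
      rw [this, hwc, sub_self]
    exact Fintype.linearIndependent_iff.mp B.linearIndependent _ hsum2 i
  obtain ⟨i, hi⟩ : ∃ i, B.repr w i ≠ 0 := by
    by_contra h
    push Not at h
    exact hw0 (B.repr.injective (by rw [map_zero]; exact Finsupp.ext h))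
  refine ⟨i, B.repr w i, ?_⟩
  conv_lhs => rw [← B.sum_repr w]
  refine Finset.sum_eq_single i (fun j _ hj => ?_) (by simp)
  have hei : e i = c := sub_eq_zero.mp ((mul_eq_zero.mp (hrep i)).resolve_left hi)
  rw [(mul_eq_zero.mp (hrep j)).resolve_right (fun h => hj (hinj ((sub_eq_zero.mp h).trans hei.symm))),
    zero_smul]

variable {m r : ℕ} (hc : Ctx G) (hnd : NonDih G m r) {p : ℕ} [Fact p.Prime] [CharP K p] [IsAlgClosed K]
include hc hnd p

omit hnd in
theorem InY.no_invol {y : G} (hy : InY y) {t : G} (ht : orderOf (t : GL (Fin 3) K) = 2) :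
    ¬ Commute y t := fun h => hy.2 ⟨t, t.2, ht, h.map G.subtype⟩

omit hnd in
theorem InY.odd_cA {y : G} (hy : InY y) : Odd (Nat.card (cA y)) := by
  haveI := hc.fin
  rw [← Nat.not_even_iff_odd, even_iff_two_dvd]
  intro h
  haveI : Fact (Nat.Prime 2) := ⟨Nat.prime_two⟩
  obtain ⟨t, ht⟩ := exists_prime_orderOf_dvd_card' 2 h
  rw [← Subgroup.orderOf_coe, ← Subgroup.orderOf_coe] at ht
  exact InY.no_invol hc hy (p := p) ht (mem_cA.mp t.2).symm

omit hnd in
theorem InY.comm {y : G} (hy : InY y) {u v : G} (hu : u ∈ cA y) (hv : v ∈ cA y) : Commute u v := by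
  haveI := hc.fin
  by_cases hh : IsHom (y : GL (Fin 3) K)
  swap
  · exact commute_coe.mp ((isHom_or_commute hc.sl hc.tf y.2 hy.1).resolve_left hh _ _
      ((mem_cA.mp hu).map G.subtype) ((mem_cA.mp hv).map G.subtype))
  obtain ⟨a, φ, l, hd⟩ := hh
  obtain ⟨ρ, hρ⟩ := exists_axis_hom hc.sl hd
  haveI : Finite (cenG G (y : GL (Fin 3) K)) :=
    Finite.of_injective _ (Subgroup.inclusion_injective inf_le_left)
  haveI : Finite ρ.range := Finite.of_surjective _ ρ.rangeRestrict_surjective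
  have hp2 : p ≠ 2 := fun e => hc.two (by subst e; exact_mod_cast CharP.cast_eq_zero K 2)
  have hcard : Nat.card (cenG G (y : GL (Fin 3) K)) = Nat.card (cA y) :=
    Nat.card_congr ⟨fun w => ⟨⟨w, (mem_cenG.mp w.2).1⟩, mem_cA.mpr (commute_coe.mp (mem_cenG.mp w.2).2)⟩,
      fun w => ⟨(w : G), mem_cenG.mpr ⟨(w : G).2, (mem_cA.mp w.2).map G.subtype⟩⟩,
      fun _ => rfl, fun _ => rfl⟩
  have hdiv := Subgroup.card_dvd_of_surjective ρ.rangeRestrict ρ.rangeRestrict_surjective
  have hodd : Odd (Nat.card ρ.range) :=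
    Odd.of_dvd_nat (hcard ▸ InY.odd_cA hc (p := p) hy) hdiv
  have hX : ¬ p ∣ Nat.card ρ.range := fun h =>
    not_dvd_cenG (p := p) hc.sl hc.tf hd (h.trans hdiv)
  haveI : IsCyclic ρ.range := by
    rcases psl_two_cases hc.loc hp2 ρ.range hX with ⟨C, hC, hi⟩ | h | h | ⟨⟨e⟩⟩
    · have h1 : C.index = 1 := by
        have h0 := C.index_ne_zero_of_finite
        have h2 := C.index_dvd_card
        rcases (show C.index = 1 ∨ C.index = 2 by omega) with h | h
        · exact h
        · rw [h] at h2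
          exact absurd h2 (by rw [← even_iff_two_dvd, Nat.not_even_iff_odd]; exact hodd)
      rw [Subgroup.index_eq_one] at h1
      subst h1
      exact isCyclic_of_surjective (Subgroup.topEquiv (G := ρ.range)).toMonoidHom
        (Subgroup.topEquiv (G := ρ.range)).surjective
    · rw [h] at hodd; exact absurd hodd (by decide)
    · rw [h] at hodd; exact absurd hodd (by decide)
    · rw [Nat.card_congr e.toEquiv, Nat.card_eq_fintype_card, Fintype.card_perm,
        Fintype.card_fin] at hodd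
      exact absurd hodd (by decide)
  have hker : ρ.rangeRestrict.ker ≤ Subgroup.center _ := fun w hw => by
    rw [MonoidHom.ker_rangeRestrict] at hw
    exact Subgroup.mem_center_iff.mpr fun x => Subtype.ext (commute_homGrp hc.tf y.2
      (mem_cenG.mp x.2).1 hd (mem_cenG.mp x.2).2 ((hρ w).mp hw)).eq
  have h := commutative_of_cyclic_center_quotient ρ.rangeRestrict hker
    ⟨u, mem_cenG.mpr ⟨u.2, (mem_cA.mp hu).map G.subtype⟩⟩
    ⟨v, mem_cenG.mpr ⟨v.2, (mem_cA.mp hv).map G.subtype⟩⟩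
  exact Subtype.ext (congrArg Subtype.val h :)

omit p in
theorem InY.of_mem {y : G} (hy : InY y) {x : G} (hx : x ∈ cA y) (hns : ¬ IsSc (x : GL (Fin 3) K)) :
    InY x := by
  refine ⟨hns, fun ⟨t, ht, ot, hxt⟩ => ?_⟩
  by_cases hh : IsHom (x : GL (Fin 3) K)
  · obtain ⟨s, hs, os, hsx⟩ := hnd.hom_centre x x.2 t ht ot hh hxt
    exact hy.2 ⟨s, hs, os, (homOf_commute hc hs y.2 hsx hns).mp ((mem_cA.mp hx).map G.subtype)⟩
  · exact hy.2 ⟨t, ht, ot, (isHom_or_commute hc.sl hc.tf x.2 hns).resolve_left hh _ _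
      ((mem_cA.mp hx).symm.map G.subtype) hxt.symm⟩

theorem InY.cA_eq {y : G} (hy : InY y) {x : G} (hx : x ∈ cA y) (hns : ¬ IsSc (x : GL (Fin 3) K)) :
    cA x = cA y := by
  have hxy : y ∈ cA x := mem_cA.mpr (mem_cA.mp hx).symm
  refine le_antisymm (fun w hw => mem_cA.mpr ?_) (fun w hw => mem_cA.mpr ?_)
  · exact InY.comm hc (p := p) (InY.of_mem hc hnd hy hx hns) hw hxy
  · exact InY.comm hc (p := p) hy hw hx

omit hnd p in
theorem isSc_conj {x : G} (g : G) : IsSc ((g * x * g⁻¹ : G) : GL (Fin 3) K) ↔ IsSc (x : GL (Fin 3) K) := by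
  rw [← mem_scIn, ← mem_scIn]
  refine ⟨fun h => ?_, fun h => (inferInstance : (scIn G).Normal).conj_mem x h g⟩
  have := (inferInstance : (scIn G).Normal).conj_mem _ h g⁻¹
  simpa [mul_assoc] using this

theorem InY.mem_nA {y : G} (hy : InY y) {x n : G} (hx : x ∈ cA y) (hns : ¬ IsSc (x : GL (Fin 3) K))
    (hn : n * x * n⁻¹ ∈ cA y) : n ∈ nA y := by
  have h1 := InY.cA_eq hc hnd (p := p) hy hx hns
  have h2 := InY.cA_eq hc hnd (p := p) hy hn (mt (isSc_conj hc n).mp hns)
  refine Subgroup.mem_set_normalizer_iff.mpr fun w => ?_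
  rw [SetLike.mem_coe, SetLike.mem_coe, mem_cA]
  conv_rhs => rw [← h2, mem_cA, Commute, SemiconjBy]
  conv_lhs => rw [← mem_cA, ← h1, mem_cA, Commute, SemiconjBy]
  constructor
  · intro h
    calc n * w * n⁻¹ * (n * x * n⁻¹) = n * (w * x) * n⁻¹ := by group
      _ = n * (x * w) * n⁻¹ := by rw [h]
      _ = _ := by group
  · intro h
    calc w * x = n⁻¹ * (n * w * n⁻¹ * (n * x * n⁻¹)) * n := by group
      _ = n⁻¹ * (n * x * n⁻¹ * (n * w * n⁻¹)) * n := by rw [h]
      _ = _ := by group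

omit hnd p in
theorem cA_le_nA (y : G) : cA y ≤ nA y := Subgroup.le_normalizer

theorem InY.free {y : G} (hy : InY y) {x n : G} (hx : x ∈ cA y) (hns : ¬ IsSc (x : GL (Fin 3) K))
    (hn : n * x * n⁻¹ = x) : n ∈ cA y := by
  rw [← InY.cA_eq hc hnd (p := p) hy hx hns]
  refine mem_cA.mpr ?_
  show n * x = x * n
  calc n * x = n * x * n⁻¹ * n := by group
    _ = x * n := by rw [hn]

/-- The size of the set of non-scalars conjugate into a centraliser. -/
theorem InY.card_class {y : G} (hy : InY y) [Fintype G]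
    [DecidablePred fun x : G => ¬ IsSc (x : GL (Fin 3) K) ∧ ∃ g : G, g⁻¹ * x * g ∈ cA y] :
    (Finset.univ.filter fun x : G => ¬ IsSc (x : GL (Fin 3) K) ∧ ∃ g : G, g⁻¹ * x * g ∈ cA y).card *
        Nat.card (nA y) + Nat.card (scIn G) * Nat.card G =
      Nat.card (cA y) * Nat.card G := by
  classical
  set S := Finset.univ.filter fun x : G => x ∈ cA y ∧ ¬ IsSc (x : GL (Fin 3) K) with hS
  have hScard : S.card + Nat.card (scIn G) = Nat.card (cA y) := by
    have h1 : (Finset.univ.filter fun x : G => x ∈ cA y).card = Nat.card (cA y) := by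
      rw [← Fintype.card_subtype, ← Nat.card_eq_fintype_card]
    have h2 : (Finset.univ.filter fun x : G => x ∈ scIn G).card = Nat.card (scIn G) := by
      rw [← Fintype.card_subtype, ← Nat.card_eq_fintype_card]
    rw [← h1, ← h2, hS, ← Finset.card_union_of_disjoint]
    · congr 1
      ext x
      simp only [Finset.mem_union, Finset.mem_filter, Finset.mem_univ, true_and, mem_scIn]
      refine ⟨fun h => h.elim (·.1) fun h => scIn_le_cA y (mem_scIn.mpr h), fun h => ?_⟩
      by_cases hs : IsSc (x : GL (Fin 3) K)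
      · exact Or.inr hs
      · exact Or.inl ⟨h, hs⟩
    · rw [Finset.disjoint_filter]
      exact fun x _ hx hs => hx.2 (mem_scIn.mp hs)
  set Yc := Finset.univ.filter fun x : G => ¬ IsSc (x : GL (Fin 3) K) ∧ ∃ g : G, g⁻¹ * x * g ∈ cA y
  have hmaps : ∀ q ∈ (Finset.univ : Finset G) ×ˢ S, q.1 * q.2 * q.1⁻¹ ∈ Yc := by
    intro q hq
    simp only [hS, Finset.mem_product, Finset.mem_univ, true_and, Finset.mem_filter] at hq
    refine Finset.mem_filter.mpr ⟨Finset.mem_univ _, mt (isSc_conj hc _).mp hq.2, q.1, ?_⟩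
    rw [show q.1⁻¹ * (q.1 * q.2 * q.1⁻¹) * q.1 = q.2 by group]
    exact hq.1
  have hfib : ∀ x ∈ Yc, (((Finset.univ : Finset G) ×ˢ S).filter fun q =>
      q.1 * q.2 * q.1⁻¹ = x).card = Nat.card (nA y) := by
    intro x hx
    obtain ⟨-, hxs, g, hg⟩ := Finset.mem_filter.mp hx
    set x₀ := g⁻¹ * x * g with hx₀
    have hx₀s : ¬ IsSc (x₀ : GL (Fin 3) K) := fun h => hxs (by
      have := (isSc_conj hc g).mpr h
      rwa [show g * x₀ * g⁻¹ = x by rw [hx₀]; group] at this)
    rw [Nat.card_eq_fintype_card, Fintype.card_subtype]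
    symm
    refine Finset.card_bij' (fun n _ => (g * n, n⁻¹ * x₀ * n)) (fun q _ => g⁻¹ * q.1) ?_ ?_ ?_ ?_
    · intro n hn
      have hn' := (Finset.mem_filter.mp hn).2
      have hmem : n⁻¹ * x₀ * n ∈ cA y := (Subgroup.mem_set_normalizer_iff''.mp hn' x₀).mp hg
      have hns' : ¬ IsSc ((n⁻¹ * x₀ * n : G) : GL (Fin 3) K) := by
        have := mt (isSc_conj hc (n⁻¹)).mp hx₀s
        rwa [inv_inv] at this
      simp only [hS, Finset.mem_filter, Finset.mem_product, Finset.mem_univ, true_and]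
      exact ⟨⟨hmem, hns'⟩, by rw [hx₀]; group⟩
    · intro q hq
      simp only [hS, Finset.mem_filter, Finset.mem_product, Finset.mem_univ, true_and] at hq
      refine Finset.mem_filter.mpr ⟨Finset.mem_univ _,
        InY.mem_nA hc hnd (p := p) hy hq.1.1 hq.1.2 ?_⟩
      convert hg using 1
      rw [hx₀, ← hq.2]; group
    · intro n _; simp
    · intro q hq
      simp only [hS, Finset.mem_filter, Finset.mem_product, Finset.mem_univ, true_and] at hq
      refine Prod.ext (by simp) ?_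
      simp only
      rw [hx₀, ← hq.2]; group
  have hsum := Finset.card_eq_sum_card_fiberwise (f := fun q : G × G => q.1 * q.2 * q.1⁻¹)
    (s := (Finset.univ : Finset G) ×ˢ S) (t := Yc) hmaps
  rw [Finset.sum_congr rfl hfib, Finset.sum_const, smul_eq_mul, Finset.card_product,
    Finset.card_univ, ← Nat.card_eq_fintype_card (α := G)] at hsum
  rw [← hsum, ← hScard]
  ring

/-- Without elements of order `p` the normaliser permutes three lines with kernel the centraliser. -/
theorem InY.perm_hom {y : G} (hy : InY y) (hp : ¬ p ∣ Nat.card (cA y)) :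
    ∃ π : nA y →* Equiv.Perm (Fin 3), ∀ n, π n = 1 ↔ (n : G) ∈ cA y := by
  classical
  haveI := hc.fin
  by_cases hex : ∃ x ∈ cA y, ¬ IsSc (x : GL (Fin 3) K) ∧ ¬ IsHom (x : GL (Fin 3) K)
  swap
  · push Not at hex
    refine ⟨1, fun n => iff_of_true rfl ?_⟩
    obtain ⟨a, φ, l, hd⟩ := hex y (mem_cA.mpr (Commute.refl y)) hy.1
    set x : G := (n : G) * y * (n : G)⁻¹ with hx
    have hxA : x ∈ cA y := ((Subgroup.mem_set_normalizer_iff.mp n.2) y).mp (mem_cA.mpr (Commute.refl y))
    have hxd : HomData ((x : G) : GL (Fin 3) K) _ _ l := hd.conj ((n : G) : GL (Fin 3) K)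
    set b := ((n : G) : GL (Fin 3) K).1 *ᵥ a with hb
    set χ := φ ᵥ* (((n : G) : GL (Fin 3) K)⁻¹).1
    have hxy : Commute (x : GL (Fin 3) K) y := (mem_cA.mp hxA).map G.subtype
    by_cases hu : ∃ u : K, b = u • a
    · obtain ⟨u, hu⟩ := hu
      exact mem_cA.mpr (commute_coe.mp (commute_of_fix hc.tf y.2 (n : G).2 hd (c := u) hu))
    exfalso
    push Not at hu
    have hl6 : l ^ 6 ≠ 1 := fun h => by
      have hl3 : l ^ 3 = -1 := by
        have : (l ^ 3 - 1) * (l ^ 3 + 1) = 0 := by linear_combination h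
        exact eq_neg_of_add_eq_zero_left ((mul_eq_zero.mp this).resolve_left (sub_ne_zero.mpr hd.2.2.1))
      have hy3 : HomData ((y : GL (Fin 3) K) ^ 3) a φ (-1) := by
        refine ⟨hd.dot, by simp, fun e => hc.two (by linear_combination -e), ?_⟩
        rw [pow_succ, pow_two, Units.val_mul, Units.val_mul, hd.2.2.2, homMat_mul hd.dot,
          homMat_mul hd.dot, ← hl3, pow_succ, pow_two]
      exact hy.2 ⟨_, G.pow_mem y.2 3, invol_of_homData hc.two hy3, Commute.self_pow _ 3⟩
    have f1 : φ ⬝ᵥ b = 0 := by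
      have h1 := hxd.comm_centre hxy.symm
      generalize χ ⬝ᵥ (_ *ᵥ b) = f at h1
      rw [hd.mulVec_eq] at h1
      by_contra h0
      by_cases hf : f - l = 0
      · rw [sub_eq_zero.mp hf, add_eq_left, smul_eq_zero] at h1
        exact h1.elim (mul_ne_zero hd.diff_ne h0) hd.ne_zero
      · refine hu ((((l ^ 2)⁻¹ - l) * (φ ⬝ᵥ b)) / (f - l)) ?_
        apply smul_right_injective _ hf
        simp only
        rw [smul_smul, mul_div_cancel₀ _ hf]
        linear_combination (norm := module) -h1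
    have f2 : χ ⬝ᵥ a = 0 := by
      have h1 := hd.comm_centre hxy
      generalize φ ⬝ᵥ (_ *ᵥ a) = f at h1
      rw [hxd.mulVec_eq] at h1
      by_contra h0
      by_cases hf : f - l = 0
      · rw [sub_eq_zero.mp hf, add_eq_left, smul_eq_zero] at h1
        exact h1.elim (mul_ne_zero hxd.diff_ne h0) hxd.ne_zero
      · refine hu ((f - l) / (((l ^ 2)⁻¹ - l) * (χ ⬝ᵥ a))) ?_
        apply smul_right_injective _ (mul_ne_zero hxd.diff_ne h0)
        simp only
        rw [smul_smul, mul_div_cancel₀ _ (mul_ne_zero hxd.diff_ne h0)]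
        linear_combination (norm := module) h1
    obtain ⟨c, hc0, hc1, hc2⟩ : ∃ c : Fin 3 → K, c ≠ 0 ∧ φ ⬝ᵥ c = 0 ∧ χ ⬝ᵥ c = 0 := by
      let T : (Fin 3 → K) →ₗ[K] K × K :=
        (dotProductEquiv K (Fin 3) φ).prod (dotProductEquiv K (Fin 3) χ)
      obtain ⟨c, hc, hc0⟩ := Submodule.exists_mem_ne_zero_of_ne_bot (p := LinearMap.ker T) fun e => by
        have h1 := LinearMap.finrank_range_add_finrank_ker T
        have h2 := Submodule.finrank_le (LinearMap.range T)
        rw [e, finrank_bot, finrank_fin_fun] at h1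
        rw [Module.finrank_prod, finrank_self] at h2
        omega
      rw [LinearMap.mem_ker] at hc
      exact ⟨c, hc0, by simpa [T] using congrArg Prod.fst hc, by simpa [T] using congrArg Prod.snd hc⟩
    set z : G := x * x * y with hz
    have hzA : z ∈ cA y := mul_mem (mul_mem hxA hxA) (mem_cA.mpr (Commute.refl y))
    have hev : ∀ (w : Fin 3 → K) (e e' : K), (x : GL (Fin 3) K).1 *ᵥ w = e • w → (y : GL (Fin 3) K).1 *ᵥ w = e' • w →
        (z : GL (Fin 3) K).1 *ᵥ w = (e' * e * e) • w := fun w e e' h1 h2 => by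
      rw [hz, Subgroup.coe_mul, Subgroup.coe_mul, gl_mul_mulVec, gl_mul_mulVec, h2, mulVec_smul, h1,
        mulVec_smul, mulVec_smul, h1, smul_smul, smul_smul]
    have za := hev a _ _ (hxd.axis f2) hd.centre
    have zb := hev b _ _ hxd.centre (hd.axis f1)
    have zc := hev c _ _ (hxd.axis hc2) (hd.axis hc1)
    have hl0 := hd.2.1
    have d1 : (l ^ 2)⁻¹ * l * l ≠ l * (l ^ 2)⁻¹ * (l ^ 2)⁻¹ := fun e => by
      field_simp at e
      first
        | exact hd.2.2.1 (by linear_combination e)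
        | exact hd.2.2.1 (by linear_combination -e)
    have d2 : (l ^ 2)⁻¹ * l * l ≠ l * l * l := fun e => by
      field_simp at e
      first
        | exact hd.2.2.1 (by linear_combination e)
        | exact hd.2.2.1 (by linear_combination -e)
    have d3 : l * (l ^ 2)⁻¹ * (l ^ 2)⁻¹ ≠ l * l * l := fun e => by
      field_simp at e
      first
        | exact hl6 (by linear_combination e)
        | exact hl6 (by linear_combination -e)
    have hzns : ¬ IsSc (z : GL (Fin 3) K) := by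
      rintro ⟨k, hk⟩
      rw [hk, smul_mulVec, one_mulVec] at za zb
      exact d1 ((smul_left_injective K hd.ne_zero za).symm.trans (smul_left_injective K hxd.ne_zero zb))
    obtain ⟨a', φ', l', hzd⟩ := hex z hzA hzns
    exact hzd.not_three hd.ne_zero hxd.ne_zero hc0 za zb zc d1 d2 d3
  obtain ⟨x, hxA, hxns, hxnh⟩ := hex
  have hox : ¬ p ∣ orderOf (x : GL (Fin 3) K) := fun h => hp (h.trans (by
    rw [Subgroup.orderOf_coe]; exact Subgroup.orderOf_dvd_natCard _ hxA))
  obtain ⟨e, B, hinj, hB, huniq⟩ := eigen_frame hc x.2 hxns hxnh hox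
  have hCx := InY.cA_eq hc hnd (p := p) hy hxA hxns
  have hne : ∀ i, B i ≠ 0 := fun i => B.ne_zero i
  have hline : ∀ i j (d : K), B i = d • B j → i = j := fun i j d h => by
    by_contra hij
    have h1 := congrArg (fun w => B.repr w i) h
    simp [Finsupp.single_apply, Ne.symm hij] at h1
  have hmove : ∀ n : nA y, ∀ i, ∃ j, ∃ d : K, ((n : G) : GL (Fin 3) K).1 *ᵥ B i = d • B j := by
    intro n i
    have hy' : (n : G)⁻¹ * x * n ∈ cA x := by
      rw [hCx]; exact (Subgroup.mem_set_normalizer_iff''.mp n.2 x).mp hxA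
    set y' : G := (n : G)⁻¹ * x * n with hy'def
    obtain ⟨μ, hμ⟩ : ∃ μ : K, (y' : GL (Fin 3) K).1 *ᵥ B i = μ • B i := by
      by_cases h0 : (y' : GL (Fin 3) K).1 *ᵥ B i = 0
      · exact ⟨0, by rw [h0, zero_smul]⟩
      obtain ⟨j, d, hd⟩ := huniq _ (e i) (by
        rw [← gl_mul_mulVec, ← (commute_coe.mpr (mem_cA.mp hy')).eq,
          gl_mul_mulVec, hB, mulVec_smul]) h0
      have hdi : i = j := by
        have h1 : (x : GL (Fin 3) K).1 *ᵥ ((y' : GL (Fin 3) K).1 *ᵥ B i) =
            e i • ((y' : GL (Fin 3) K).1 *ᵥ B i) := by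
          rw [← gl_mul_mulVec, ← (commute_coe.mpr (mem_cA.mp hy')).eq,
            gl_mul_mulVec, hB, mulVec_smul]
        rw [hd, mulVec_smul, hB, smul_smul, smul_smul, mul_comm] at h1
        have hd0 : d ≠ 0 := fun e' => h0 (by rw [hd, e', zero_smul])
        exact hinj (mul_right_cancel₀ hd0 (smul_left_injective K (hne j) h1).symm)
      exact ⟨d, by rw [hd, hdi]⟩
    refine huniq _ μ ?_ fun h => hne i (gl_mulVec_injective ((n : G) : GL (Fin 3) K) (by
      show _ *ᵥ B i = _ *ᵥ (0 : Fin 3 → K)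
      rw [h, mulVec_zero]))
    have : ((x : G) : GL (Fin 3) K) * (n : G) = (n : G) * (y' : GL (Fin 3) K) := by
      rw [hy'def]; simp [mul_assoc]
    rw [← gl_mul_mulVec, this, gl_mul_mulVec, hμ, mulVec_smul]
  choose σ d hσ using hmove
  have hd0 : ∀ n i, d n i ≠ 0 := fun n i h => hne i (gl_mulVec_injective ((n : G) : GL (Fin 3) K) (by
    show _ *ᵥ B i = _ *ᵥ (0 : Fin 3 → K)
    rw [hσ, h, zero_smul, mulVec_zero]))
  have hσu : ∀ (n : nA y) i j (c : K), ((n : G) : GL (Fin 3) K).1 *ᵥ B i = c • B j → σ n i = j := by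
    intro n i j c h
    refine hline _ _ ((d n i)⁻¹ * c) ?_
    rw [← smul_smul, ← h, hσ, smul_smul, inv_mul_cancel₀ (hd0 n i), one_smul]
  let F : nA y →* Function.End (Fin 3) :=
    { toFun := fun n => σ n
      map_one' := funext fun i => hσu 1 i i 1 (by simp)
      map_mul' := fun n k => funext fun i => hσu (n * k) i _ (d k i * d n (σ k i)) (by
        simp only [Subgroup.coe_mul, gl_mul_mulVec, hσ, mulVec_smul, smul_smul]
        rfl) }
  refine ⟨F.toHomPerm, fun n => ⟨fun h => ?_, fun h => ?_⟩⟩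
  · rw [← hCx]
    refine mem_cA.mpr (commute_coe.mp (Units.ext ?_))
    refine Matrix.toLin'.injective (B.ext fun i => ?_)
    have hi : σ n i = i := congrArg (fun q : Equiv.Perm (Fin 3) => q i) h
    have hn := hσ n i
    rw [hi] at hn
    rw [Matrix.toLin'_apply, Matrix.toLin'_apply, Units.val_mul, Units.val_mul, ← mulVec_mulVec,
      ← mulVec_mulVec, hB, hn, mulVec_smul, mulVec_smul, hn, hB, smul_smul, smul_smul, mul_comm]
  · refine Equiv.ext fun i => ?_
    show σ n i = i
    rw [← hCx] at h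
    by_contra hne'
    have h1 : (x : GL (Fin 3) K).1 *ᵥ (((n : G) : GL (Fin 3) K).1 *ᵥ B i) =
        e i • (((n : G) : GL (Fin 3) K).1 *ᵥ B i) := by
      rw [← gl_mul_mulVec, ← (commute_coe.mpr (mem_cA.mp h)).eq, gl_mul_mulVec,
        hB, mulVec_smul]
    rw [hσ, mulVec_smul, hB, smul_smul, smul_smul, mul_comm] at h1
    exact hne' (hinj (mul_right_cancel₀ (hd0 n i) (smul_left_injective K (hne _) h1)))

omit hnd p in
theorem scIn_card_three : Nat.card (scIn G) ∣ 3 → ∀ x : G, IsSc (x : GL (Fin 3) K) →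
    x ^ Nat.card (scIn G) = 1 := by
  intro _ x hx
  haveI := hc.fin
  exact congrArg Subtype.val (pow_card_eq_one' (x := (⟨x, mem_scIn.mpr hx⟩ : scIn G)))

omit hnd in
theorem scIn_card_dvd : Nat.card (scIn G) ∣ 3 ∧ Nat.Coprime p (Nat.card (scIn G)) := by
  haveI := hc.fin
  let f : scIn G → K := fun z => (mem_scIn.mp z.2).choose
  have hf : ∀ z : scIn G, (((z : G) : GL (Fin 3) K) : Matrix (Fin 3) (Fin 3) K) = f z • 1 :=
    fun z => (mem_scIn.mp z.2).choose_spec
  have hinj : ∀ c d : K, c • (1 : Matrix (Fin 3) (Fin 3) K) = d • 1 → c = d := fun c d h => by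
    simpa using congrFun (congrFun h 0) 0
  let F : scIn G →* K :=
    { toFun := f
      map_one' := hinj _ _ (by rw [← hf]; simp)
      map_mul' := fun u v => hinj _ _ (by
        rw [← hf, Subgroup.coe_mul, Subgroup.coe_mul, Units.val_mul, hf, hf, Matrix.smul_mul,
          Matrix.one_mul, smul_smul]) }
  have hFi : Function.Injective F := fun u v h => Subtype.ext (Subtype.ext (Units.ext (by
    rw [hf, hf]; exact congrArg (· • (1 : Matrix (Fin 3) (Fin 3) K)) h)))
  haveI : IsCyclic (scIn G) := isCyclic_of_subgroup_isDomain F hFi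
  have h3 : Nat.card (scIn G) ∣ 3 := by
    rw [← IsCyclic.exponent_eq_card]
    exact Monoid.exponent_dvd_of_forall_pow_eq_one fun z => Subtype.ext (Subtype.ext (by
      rw [Subgroup.coe_pow, Subgroup.coe_pow]
      exact sc_pow_three hc.sl (z : G).2 (mem_scIn.mp z.2)))
  refine ⟨h3, (Nat.Prime.coprime_iff_not_dvd Fact.out).mpr fun hp => ?_⟩
  obtain ⟨z, hz⟩ := exists_prime_orderOf_dvd_card' p hp
  have h1 : F z ^ p = 1 := by
    rw [← map_pow, ← hz, pow_orderOf_eq_one, map_one]
  have h2 : F z = 1 := by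
    have h0 : (F z - 1) ^ p = 0 := by rw [sub_pow_char, h1, one_pow, sub_self]
    exact sub_eq_zero.mp ((pow_eq_zero_iff (Fact.out : p.Prime).ne_zero).mp h0)
  rw [hFi (h2.trans (map_one F).symm), orderOf_one] at hz
  exact (Fact.out : p.Prime).ne_one hz.symm

omit hnd p in
theorem InY.comm_nA_sc {y : G} {n x : G} (hn : n ∈ nA y) (hx : x ∈ cA y) :
    n * x * n⁻¹ ∈ cA y := (Subgroup.mem_set_normalizer_iff.mp hn x).mp hx

omit hnd p in
theorem scIn_central {s : G} (hs : s ∈ scIn G) (g : G) : Commute s g :=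
  commute_coe.mp (sc_commute (mem_scIn.mp hs) _)

/-- The torus classes. -/
theorem InY.torus {y : G} (hy : InY y) (hp : ¬ p ∣ Nat.card (cA y)) :
    ∃ a w : ℕ, Nat.card (cA y) = a * Nat.card (scIn G) ∧ Nat.card (nA y) = w * Nat.card (cA y) ∧
      Odd a ∧ 3 ≤ a ∧ (w = 1 ∨ w = 2 ∨ (w = 3 ∧ a ≠ 5) ∨ (w = 6 ∧ a = 3)) := by
  classical
  haveI := hc.fin
  obtain ⟨π, hπ⟩ := InY.perm_hom hc hnd (p := p) hy hp
  set z := Nat.card (scIn G) with hz
  obtain ⟨a, ha⟩ : ∃ a, Nat.card (cA y) = a * z :=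
    (Subgroup.card_dvd_of_le (scIn_le_cA y)).imp fun a h => h.trans (mul_comm _ _)
  have hker : π.ker = (cA y).subgroupOf (nA y) := by ext n; exact hπ n
  set w := Nat.card π.range with hw
  have hN : Nat.card (nA y) = w * Nat.card (cA y) := by
    rw [← Subgroup.card_mul_index π.ker, Subgroup.index_ker, hker,
      Nat.card_congr (Subgroup.subgroupOfEquivOfLe (cA_le_nA hc y)).toEquiv, mul_comm]
  have hw6 : w ∣ 6 := by
    have := Subgroup.card_subgroup_dvd_card π.range
    rwa [Nat.card_eq_fintype_card (α := Equiv.Perm (Fin 3)), Fintype.card_perm, Fintype.card_fin] at this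
  have haodd : Odd a := Odd.of_dvd_nat (ha ▸ InY.odd_cA hc (p := p) hy) (Dvd.intro z rfl)
  have hz0 : 0 < z := Nat.card_pos
  have ha3 : 3 ≤ a := by
    have h1 : z < Nat.card (cA y) := by
      refine lt_of_le_of_ne (Subgroup.card_le_of_le (scIn_le_cA y)) fun h => hy.1 ?_
      have := Subgroup.eq_of_le_of_card_ge (scIn_le_cA y) h.ge
      exact mem_scIn.mp (this ▸ mem_cA.mpr (Commute.refl y))
    rw [ha] at h1
    have : 1 < a := Nat.lt_of_mul_lt_mul_right (a := z) (by rwa [one_mul])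
    obtain ⟨j, rfl⟩ := haodd
    omega
  refine ⟨a, w, ha, hN, haodd, ha3, ?_⟩
  -- an element outside the centraliser centralises only scalars
  have hfree : ∀ n ∈ nA y, n ∉ cA y → ∀ x ∈ cA y, n * x * n⁻¹ = x → x ∈ scIn G :=
    fun n _ hnA x hx h => mem_scIn.mpr (by_contra fun hs => hnA (InY.free hc hnd (p := p) hy hx hs h))
  have hz3 := (scIn_card_dvd hc (p := p)).1
  rcases (show w = 1 ∨ w = 2 ∨ w = 3 ∨ w = 6 by
    have := Nat.le_of_dvd (by norm_num) hw6
    interval_cases w <;> first | omega | (norm_num at hw6)) with h | h | h | h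
  · exact Or.inl h
  · exact Or.inr (Or.inl h)
  · refine Or.inr (Or.inr (Or.inl ⟨h, fun ha5 => ?_⟩))
    subst ha5
    haveI : Fact (Nat.Prime 3) := ⟨Nat.prime_three⟩
    haveI : Fact (Nat.Prime 5) := ⟨by norm_num⟩
    obtain ⟨q, hq⟩ := exists_prime_orderOf_dvd_card' 3 (show 3 ∣ Nat.card π.range by rw [← hw, h])
    obtain ⟨n, hnπ⟩ := π.rangeRestrict_surjective q
    have hnA : (n : G) ∉ cA y := fun hmem => by
      have : q = 1 := by rw [← hnπ]; exact Subtype.ext ((hπ n).mpr hmem)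
      rw [this, orderOf_one] at hq
      exact absurd hq (by decide)
    have hn3 : ((n ^ 3 : nA y) : G) ∈ cA y := (hπ _).mp (by
      have := congrArg Subtype.val (show q ^ 3 = 1 from orderOf_dvd_iff_pow_eq_one.mp hq.dvd)
      rw [← hnπ] at this
      rw [map_pow]
      exact this)
    -- a generator modulo scalars
    set A' := (scIn G).subgroupOf (cA y) with hA'
    haveI : A'.Normal := inferInstance
    have hcardQ : Nat.card (cA y ⧸ A') = 5 := by
      have h1 := Subgroup.card_mul_index A'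
      rw [Subgroup.index_eq_card, Nat.card_congr (Subgroup.subgroupOfEquivOfLe (scIn_le_cA y)).toEquiv,
        ha, mul_comm 5] at h1
      exact Nat.eq_of_mul_eq_mul_left hz0 h1
    haveI : IsCyclic (cA y ⧸ A') := isCyclic_of_prime_card hcardQ
    obtain ⟨g, hg⟩ := IsCyclic.exists_generator (α := cA y ⧸ A')
    obtain ⟨x, rfl⟩ := QuotientGroup.mk_surjective g
    have ox : orderOf (x : cA y ⧸ A') = 5 := by rw [orderOf_eq_card_of_forall_mem_zpowers hg, hcardQ]
    have hsc : ∀ {u v : cA y}, (u : cA y ⧸ A') = v ↔ (u : G)⁻¹ * v ∈ scIn G := fun {u v} => by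
      rw [QuotientGroup.eq, hA', Subgroup.mem_subgroupOf, Subgroup.coe_mul, Subgroup.coe_inv]
    let c : cA y →* cA y :=
      { toFun := fun u => ⟨(n : G) * u * (n : G)⁻¹, InY.comm_nA_sc hc n.2 u.2⟩
        map_one' := Subtype.ext (by simp)
        map_mul' := fun u v => Subtype.ext (by simp [mul_assoc]) }
    obtain ⟨i, hi⟩ : ∃ i : ℕ, (x : cA y ⧸ A') ^ i = (c x : cA y ⧸ A') :=
      ((isOfFinOrder_of_finite _).mem_powers_iff_mem_zpowers.mpr (hg _))
    have hi' : ∀ u : cA y, (u : cA y ⧸ A') ^ i = (c u : cA y ⧸ A') → ∀ j : ℕ,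
        ((u ^ j : cA y) : cA y ⧸ A') ^ i = (c (u ^ j) : cA y ⧸ A') := fun u hu j => by
      rw [map_pow, QuotientGroup.mk_pow, QuotientGroup.mk_pow, ← hu, ← pow_mul, ← pow_mul, mul_comm]
    have hcx : ∀ u v : cA y, (u : cA y ⧸ A') = v → (c u : cA y ⧸ A') = c v := fun u v h => by
      rw [hsc] at h ⊢
      have e : (c u : G)⁻¹ * (c v : G) = (n : G) * ((u : G)⁻¹ * v) * (n : G)⁻¹ := by
        show ((n : G) * u * (n : G)⁻¹)⁻¹ * ((n : G) * v * (n : G)⁻¹) = _
        group
      rw [e]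
      exact (inferInstance : (scIn G).Normal).conj_mem _ h _
    have h2 : (c (c x) : cA y ⧸ A') = (x : cA y ⧸ A') ^ (i * i) := by
      rw [← hcx (x ^ i) (c x) (by rw [QuotientGroup.mk_pow, hi]), ← hi' x hi i, QuotientGroup.mk_pow,
        pow_mul]
    have h3 : (c (c (c x)) : cA y ⧸ A') = (x : cA y ⧸ A') ^ (i * i * i) := by
      rw [← hcx (x ^ (i * i)) (c (c x)) (by rw [QuotientGroup.mk_pow, h2]), ← hi' x hi (i * i),
        QuotientGroup.mk_pow, pow_mul]
      try simp only [← pow_mul]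
    have h4 : c (c (c x)) = x := Subtype.ext (by
      have hcm := InY.comm hc (p := p) hy hn3 x.2
      show (n : G) * ((n : G) * ((n : G) * x * (n : G)⁻¹) * (n : G)⁻¹) * (n : G)⁻¹ = x
      calc _ = ((n ^ 3 : nA y) : G) * x * ((n ^ 3 : nA y) : G)⁻¹ := by
            rw [Subgroup.coe_pow, pow_succ, pow_two]; group
        _ = x := by rw [hcm.eq]; group)
    rw [h4] at h3
    have hi5 : i * i * i % 5 = 1 := by
      have h5 : (x : cA y ⧸ A') ^ 1 = (x : cA y ⧸ A') ^ (i * i * i) := by rw [pow_one, ← h3]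
      rw [pow_eq_pow_iff_modEq, ox] at h5
      exact h5.symm
    have hi1 : i % 5 = 1 := by
      rw [Nat.mul_mod, Nat.mul_mod i i] at hi5
      have := Nat.mod_lt i (show 0 < 5 by norm_num)
      generalize i % 5 = b at hi5 this ⊢
      interval_cases b <;> first | rfl | norm_num at hi5
    have hix : (c x : cA y ⧸ A') = x := by
      rw [← hi, ← pow_mod_orderOf, ox, hi1, pow_one]
    rw [hsc] at hix
    set s := ((c x : cA y) : G)⁻¹ * x with hs
    have hx3 : ((x : G) ^ 3) ∈ scIn G := by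
      refine hfree n n.2 hnA _ (pow_mem x.2 3) ?_
      have hs3 : s ^ 3 = 1 := Subtype.ext (by
        rw [Subgroup.coe_pow]; exact sc_pow_three hc.sl s.2 (mem_scIn.mp hix))
      have hcc : ((c x : cA y) : G) = (n : G) * x * (n : G)⁻¹ := rfl
      have hxe : (x : G) = ((c x : cA y) : G) * s := by rw [hs, mul_inv_cancel_left]
      conv_rhs => rw [hxe, (scIn_central hc hix _).symm.mul_pow, hs3, mul_one, hcc]
      rw [← conj_pow]
    have : (x : cA y ⧸ A') ^ 3 = 1 := by
      rw [← QuotientGroup.mk_pow, QuotientGroup.eq_one_iff, hA', Subgroup.mem_subgroupOf,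
        Subgroup.coe_pow]
      exact hx3
    have := orderOf_dvd_of_pow_eq_one this
    rw [ox] at this
    norm_num at this
  · refine Or.inr (Or.inr (Or.inr ⟨h, ?_⟩))
    have hsurj : Function.Surjective π := MonoidHom.range_eq_top.mp
      (Subgroup.eq_top_of_card_eq _ (by
        rw [← hw, h, Nat.card_eq_fintype_card, Fintype.card_perm, Fintype.card_fin]; rfl))
    have hinv : ∀ i j : Fin 3, i ≠ j → ∃ t : nA y, π t = Equiv.swap i j ∧
        ∀ x ∈ cA y, (t : G) * x * (t : G)⁻¹ * x ∈ scIn G := by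
      intro i j hij
      obtain ⟨n, hn⟩ := hsurj (Equiv.swap i j)
      set o := Nat.card (cA y)
      have ho : Odd o := InY.odd_cA hc (p := p) hy
      set t := n ^ o with ht
      have hπt : π t = Equiv.swap i j := by
        obtain ⟨k, hk⟩ := ho
        rw [ht, map_pow, hn, hk, pow_succ, pow_mul, pow_two, Equiv.swap_mul_self, one_pow, one_mul]
      have ht2 : (t : G) * t = 1 := by
        have h2 : ((n * n : nA y) : G) ∈ cA y := (hπ _).mp (by rw [map_mul, hn, Equiv.swap_mul_self])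
        have h1 : ((n * n : nA y) : G) ^ o = 1 :=
          congrArg Subtype.val (pow_card_eq_one' (x := (⟨_, h2⟩ : cA y)))
        rw [ht, Subgroup.coe_pow, ← (Commute.refl (n : G)).mul_pow, ← Subgroup.coe_mul, h1]
      refine ⟨t, hπt, fun x hx => ?_⟩
      have htA : (t : G) ∉ cA y := fun hmem => by
        have := ((hπ t).mpr hmem).symm.trans hπt
        exact hij (Equiv.swap_eq_one_iff.mp this.symm)
      have hti : (t : G)⁻¹ = t := inv_eq_of_mul_eq_one_right ht2
      refine hfree t t.2 htA _ (mul_mem (InY.comm_nA_sc hc t.2 hx) hx) ?_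
      have hcm := InY.comm hc (p := p) hy hx (InY.comm_nA_sc hc t.2 hx)
      calc (t : G) * ((t : G) * x * (t : G)⁻¹ * x) * (t : G)⁻¹
          = ((t : G) * t) * x * ((t : G) * t)⁻¹ * ((t : G) * x * (t : G)⁻¹) := by group
        _ = x * ((t : G) * x * (t : G)⁻¹) := by rw [ht2]; group
        _ = _ := hcm.eq
    obtain ⟨t1, ht1, hi1⟩ := hinv 0 1 (by decide)
    obtain ⟨t2, ht2, hi2⟩ := hinv 1 2 (by decide)
    set n : G := (t1 : G) * t2 with hn
    have hnA : n ∉ cA y := fun hmem => by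
      have h1 := (hπ (t1 * t2)).mpr hmem
      rw [map_mul, ht1, ht2] at h1
      exact absurd h1 (by decide)
    have hnN : n ∈ nA y := mul_mem t1.2 t2.2
    have hF : ∀ x ∈ cA y, n * x * n⁻¹ * x⁻¹ ∈ scIn G := by
      intro x hx
      set u := (t2 : G) * x * (t2 : G)⁻¹ with hu
      have h1 := hi2 x hx
      have h2 := hi1 u (InY.comm_nA_sc hc t2.2 hx)
      have e : n * x * n⁻¹ * x⁻¹ = ((t1 : G) * u * (t1 : G)⁻¹ * u) * (u * x)⁻¹ * (x * x⁻¹) := by
        rw [hn, hu]
        have hcm := InY.comm hc (p := p) hy hx (InY.comm_nA_sc hc t2.2 hx)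
        calc (t1 : G) * t2 * x * ((t1 : G) * t2)⁻¹ * x⁻¹
            = (t1 : G) * ((t2 : G) * x * (t2 : G)⁻¹) * (t1 : G)⁻¹ * x⁻¹ := by group
          _ = _ := by
            rw [mul_inv_cancel, mul_one, ← hcm.eq]
            group
      rw [e, mul_inv_cancel, mul_one]
      exact mul_mem h2 (inv_mem h1)
    let φ : cA y →* scIn G :=
      { toFun := fun x => ⟨n * x * n⁻¹ * (x : G)⁻¹, hF x x.2⟩
        map_one' := Subtype.ext (by simp)
        map_mul' := fun u v => Subtype.ext (by
          show n * ((u : G) * v) * n⁻¹ * ((u : G) * v)⁻¹ =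
            (n * u * n⁻¹ * (u : G)⁻¹) * (n * v * n⁻¹ * (v : G)⁻¹)
          calc _ = n * (u : G) * n⁻¹ * ((n * v * n⁻¹ * (v : G)⁻¹) * (u : G)⁻¹) := by group
            _ = n * (u : G) * n⁻¹ * ((u : G)⁻¹ * (n * v * n⁻¹ * (v : G)⁻¹)) := by
              rw [((scIn_central hc (hF v v.2) (u : G)).inv_right).eq]
            _ = _ := by group) }
    have hk : Nat.card φ.ker ≤ z := by
      refine Nat.card_le_card_of_injective (fun x => (⟨((x : cA y) : G), ?_⟩ : scIn G)) ?_
      · refine hfree n hnN hnA _ (x : cA y).2 ?_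
        exact mul_inv_eq_one.mp (congrArg Subtype.val (MonoidHom.mem_ker.mp x.2))
      · intro u v h
        exact Subtype.ext (Subtype.ext (congrArg (fun s : scIn G => (s : G)) h))
    have h1 := Subgroup.card_mul_index φ.ker
    rw [Subgroup.index_ker, ha] at h1
    have h2 : Nat.card φ.range ≤ z := Subgroup.card_le_card_group _
    have h3 := Nat.le_of_dvd (by norm_num) hz3
    have : a * z ≤ z * z := by rw [← h1]; exact Nat.mul_le_mul hk h2
    have : a ≤ z := Nat.le_of_mul_le_mul_right this hz0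
    omega

/-- The unipotent class. -/
theorem InY.unip {y : G} (hy : InY y) (hp : p ∣ Nat.card (cA y)) :
    ∃ q k : ℕ, Odd q ∧ 1 < q ∧ k ∣ q - 1 ∧ Nat.card (cA y) = q * Nat.card (scIn G) ∧
      Nat.card (nA y) = k * Nat.card (cA y) ∧ ∀ P : Sylow p G, ∃ g : G, ∀ x ∈ P.1,
        g * x * g⁻¹ ∈ cA y := by
  classical
  haveI := hc.fin
  haveI : Fintype G := Fintype.ofFinite _
  have hp' : p.Prime := Fact.out
  have hp2 : p ≠ 2 := fun e => hc.two (by subst e; exact_mod_cast CharP.cast_eq_zero K 2)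
  obtain ⟨u, hu⟩ := exists_prime_orderOf_dvd_card' p hp
  set z := Nat.card (scIn G) with hz
  obtain ⟨hz3, hzp⟩ := scIn_card_dvd hc (p := p)
  -- elements of order prime to `p` are scalars
  have key : ∀ x ∈ cA y, ¬ p ∣ orderOf x → x ∈ scIn G := by
    intro x hx ho
    by_contra hs
    rw [mem_scIn] at hs
    have hA := InY.cA_eq hc hnd (p := p) hy hx hs
    have hux : Commute ((u : G) : GL (Fin 3) K) x :=
      commute_coe.mpr (InY.comm hc (p := p) hy u.2 hx)
    by_cases hh : IsHom (x : GL (Fin 3) K)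
    · obtain ⟨a, φ, l, hd⟩ := hh
      haveI : Finite (cenG G (x : GL (Fin 3) K)) :=
        Finite.of_injective _ (Subgroup.inclusion_injective inf_le_left)
      refine not_dvd_cenG (p := p) hc.sl hc.tf hd ?_
      rw [← hu, ← Subgroup.orderOf_coe, ← Subgroup.orderOf_coe]
      exact Subgroup.orderOf_dvd_natCard _ (mem_cenG.mpr ⟨(u : G).2, hux⟩)
    · obtain ⟨e, B, hinj, hB, huniq⟩ := eigen_frame hc x.2 hs hh (by
        rwa [Subgroup.orderOf_coe])
      have h1 : ((u : G) : GL (Fin 3) K) = 1 := by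
        refine Units.ext (Matrix.toLin'.injective (B.ext fun i => ?_))
        rw [Units.val_one, Matrix.toLin'_one, Matrix.toLin'_apply, LinearMap.id_apply]
        have h0 : (x : GL (Fin 3) K).1 *ᵥ (((u : G) : GL (Fin 3) K).1 *ᵥ B i) =
            e i • (((u : G) : GL (Fin 3) K).1 *ᵥ B i) := by
          rw [← gl_mul_mulVec, ← hux.eq, gl_mul_mulVec, hB, mulVec_smul]
        have hne0 : ((u : G) : GL (Fin 3) K).1 *ᵥ B i ≠ 0 := fun h => B.ne_zero i
          (gl_mulVec_injective ((u : G) : GL (Fin 3) K) (by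
            show _ *ᵥ B i = _ *ᵥ (0 : Fin 3 → K)
            rw [h, mulVec_zero]))
        obtain ⟨j, d, hd⟩ := huniq _ _ h0 hne0
        have hd0 : d ≠ 0 := fun e' => hne0 (by rw [hd, e', zero_smul])
        have hij : i = j := by
          rw [hd, mulVec_smul, hB, smul_smul, smul_smul, mul_comm] at h0
          exact (hinj (mul_right_cancel₀ hd0 (smul_left_injective K (B.ne_zero j) h0))).symm
        subst hij
        have hpow : ∀ k : ℕ, (((u : G) : GL (Fin 3) K) ^ k).1 *ᵥ B i = d ^ k • B i := fun k => by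
          induction k with
          | zero => simp
          | succ k ih => rw [pow_succ', gl_mul_mulVec, ih, mulVec_smul, hd, smul_smul, pow_succ]
        have h1 := hpow p
        have hup : ((u : G) : GL (Fin 3) K) ^ p = 1 := by
          rw [← Subgroup.coe_pow, ← Subgroup.coe_pow, ← hu, pow_orderOf_eq_one, Subgroup.coe_one,
            Subgroup.coe_one]
        rw [hup, Units.val_one, one_mulVec] at h1
        have hdp : d ^ p = 1 := smul_left_injective K (B.ne_zero i)
          (show d ^ p • B i = (1 : K) • B i by rw [one_smul, ← h1])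
        have h00 : (d - 1) ^ p = 0 := by rw [sub_pow_char, hdp, one_pow, sub_self]
        rw [hd, sub_eq_zero.mp ((pow_eq_zero_iff hp'.ne_zero).mp h00), one_smul]
      rw [← Subgroup.orderOf_coe, ← Subgroup.orderOf_coe, h1, orderOf_one] at hu
      exact hp'.ne_one hu.symm
  set A' := (scIn G).subgroupOf (cA y) with hA'
  haveI : A'.Normal := inferInstance
  have hPG : IsPGroup p (cA y ⧸ A') := by
    rintro x
    obtain ⟨x, rfl⟩ := QuotientGroup.mk_surjective x
    refine ⟨(orderOf x).factorization p, ?_⟩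
    rw [← QuotientGroup.mk_pow, QuotientGroup.eq_one_iff, hA', Subgroup.mem_subgroupOf]
    refine key _ (x ^ _).2 ?_
    rw [Subgroup.orderOf_coe, orderOf_pow_of_dvd (pow_ne_zero _ hp'.ne_zero) (Nat.ordProj_dvd _ _)]
    exact Nat.not_dvd_ordCompl hp' (orderOf_pos x).ne'
  obtain ⟨e, he⟩ := hPG.exists_card_eq
  set q := p ^ e with hq
  have hcard : Nat.card (cA y) = q * z := by
    have h1 := Subgroup.card_mul_index A'
    rw [Subgroup.index_eq_card, he, Nat.card_congr (Subgroup.subgroupOfEquivOfLe (scIn_le_cA y)).toEquiv]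
      at h1
    rw [← h1, mul_comm]
  have hq1 : 1 < q := by
    refine Nat.one_lt_pow (fun h0 => ?_) hp'.one_lt
    rw [hcard, hq, h0, pow_zero, one_mul] at hp
    exact (Nat.Prime.coprime_iff_not_dvd hp').mp hzp hp
  have hqz : Nat.Coprime q z := Nat.Coprime.pow_left e hzp
  -- the `p`-part
  have hpowsc : ∀ x ∈ cA y, x ^ q ∈ scIn G := fun x hx => by
    have h1 : ((⟨x, hx⟩ : cA y) : cA y ⧸ A') ^ q = 1 := by rw [← he]; exact pow_card_eq_one'
    rw [← QuotientGroup.mk_pow, QuotientGroup.eq_one_iff, hA', Subgroup.mem_subgroupOf] at h1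
    exact h1
  let f : cA y →* scIn G :=
    { toFun := fun x => ⟨(x : G) ^ q, hpowsc x x.2⟩
      map_one' := Subtype.ext (one_pow _)
      map_mul' := fun a b => Subtype.ext ((InY.comm hc (p := p) hy a.2 b.2).mul_pow q) }
  have hfs : Function.Surjective f := by
    intro s
    obtain ⟨t, ht⟩ := (powCoprime (Nat.Coprime.symm hqz)).surjective s
    refine ⟨⟨t, scIn_le_cA y t.2⟩, Subtype.ext (show (t : G) ^ q = (s : G) from ?_)⟩
    have := congrArg Subtype.val ht
    simpa using this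
  have hfk : Nat.card f.ker = q := by
    have h1 := Subgroup.card_mul_index f.ker
    rw [Subgroup.index_ker, MonoidHom.range_eq_top.mpr hfs, Subgroup.card_top, hcard] at h1
    exact Nat.eq_of_mul_eq_mul_right Nat.card_pos h1
  set S := Finset.univ.filter fun x : G => x ∈ cA y ∧ x ^ q = 1 ∧ x ≠ 1 with hS
  have hScard : S.card = q - 1 := by
    have h1 : (Finset.univ.filter fun x : G => x ∈ cA y ∧ x ^ q = 1).card = q := by
      rw [← Fintype.card_subtype, ← Nat.card_eq_fintype_card]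
      refine Eq.trans ?_ hfk
      exact Nat.card_congr ⟨fun x => ⟨⟨x.1, x.2.1⟩, MonoidHom.mem_ker.mpr (Subtype.ext x.2.2)⟩,
        fun x => ⟨x.1.1, x.1.2, congrArg Subtype.val (MonoidHom.mem_ker.mp x.2)⟩,
        fun _ => rfl, fun _ => rfl⟩
    rw [← h1, hS, ← Finset.card_erase_of_mem (a := (1 : G)) (Finset.mem_filter.mpr
      ⟨Finset.mem_univ _, one_mem _, one_pow _⟩)]
    congr 1
    ext x
    simp only [Finset.mem_erase, Finset.mem_filter, Finset.mem_univ, true_and]
    tauto
  have hSns : ∀ x ∈ S, ¬ IsSc (x : GL (Fin 3) K) := by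
    intro x hx hs
    simp only [hS, Finset.mem_filter, Finset.mem_univ, true_and] at hx
    have h1 := Nat.dvd_gcd (orderOf_dvd_of_pow_eq_one hx.2.1)
      (Subgroup.orderOf_dvd_natCard _ (mem_scIn.mpr hs))
    rw [hqz.gcd_eq_one, Nat.dvd_one, orderOf_eq_one_iff] at h1
    exact hx.2.2 h1
  -- the normaliser moves them freely
  set k := (cA y).relIndex (nA y) with hk
  have hN : Nat.card (nA y) = k * Nat.card (cA y) := by
    rw [← Subgroup.card_mul_index ((cA y).subgroupOf (nA y)),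
      Nat.card_congr (Subgroup.subgroupOfEquivOfLe (cA_le_nA hc y)).toEquiv, mul_comm]
    rfl
  let orb : G → Finset G := fun x => (Finset.univ.filter fun n : G => n ∈ nA y).image fun n => n * x * n⁻¹
  have horb : ∀ x ∈ S, (orb x).card = k := by
    intro x hx
    have hxA : x ∈ cA y := (Finset.mem_filter.mp hx).2.1
    have h1 : (Finset.univ.filter fun n : G => n ∈ nA y).card = (orb x).card * Nat.card (cA y) := by
      rw [Finset.card_eq_sum_card_image (fun n => n * x * n⁻¹), ← smul_eq_mul, ← Finset.sum_const]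
      refine Finset.sum_congr rfl fun v hv => ?_
      obtain ⟨n₀, hn₀, rfl⟩ := Finset.mem_image.mp hv
      rw [Nat.card_eq_fintype_card, Fintype.card_subtype]
      refine Finset.card_bij' (fun n _ => n₀⁻¹ * n) (fun c _ => n₀ * c) ?_ ?_ (by simp) (by simp)
      · intro n hn
        simp only [Finset.mem_filter, Finset.mem_univ, true_and] at hn ⊢
        refine InY.free hc hnd (p := p) hy hxA (hSns x hx) ?_
        calc n₀⁻¹ * n * x * (n₀⁻¹ * n)⁻¹ = n₀⁻¹ * (n * x * n⁻¹) * n₀ := by group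
          _ = x := by rw [hn.2]; group
      · intro c hc'
        simp only [Finset.mem_filter, Finset.mem_univ, true_and] at hc' hn₀ ⊢
        refine ⟨mul_mem hn₀ (cA_le_nA hc y hc'), ?_⟩
        have := (InY.comm hc (p := p) hy hc' hxA).eq
        calc n₀ * c * x * (n₀ * c)⁻¹ = n₀ * (c * x) * c⁻¹ * n₀⁻¹ := by group
          _ = _ := by rw [this]; group
    rw [← Fintype.card_subtype, ← Nat.card_eq_fintype_card] at h1
    rw [show Nat.card { n : G // n ∈ nA y } = Nat.card (nA y) from rfl, hN] at h1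
    exact (Nat.eq_of_mul_eq_mul_right Nat.card_pos h1).symm
  have hkS : k ∣ q - 1 := by
    rw [← hScard, Finset.card_eq_sum_card_image orb]
    refine Finset.dvd_sum fun o ho => ?_
    obtain ⟨x, hx, rfl⟩ := Finset.mem_image.mp ho
    refine (Eq.dvd ?_).trans (dvd_refl _)
    rw [← horb x hx]
    congr 1
    ext v
    simp only [Finset.mem_filter]
    constructor
    · intro hv
      obtain ⟨n, hn, rfl⟩ := Finset.mem_image.mp hv
      have hn' := (Finset.mem_filter.mp hn).2
      simp only [hS, Finset.mem_filter, Finset.mem_univ, true_and] at hx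
      refine ⟨by
        simp only [hS, Finset.mem_filter, Finset.mem_univ, true_and]
        refine ⟨InY.comm_nA_sc hc hn' hx.1, by rw [conj_pow, hx.2.1, mul_one, mul_inv_cancel],
          fun h => hx.2.2 (by rwa [conj_eq_one_iff] at h)⟩, ?_⟩
      ext w
      simp only [orb, Finset.mem_image, Finset.mem_filter, Finset.mem_univ, true_and]
      constructor
      · rintro ⟨m', hm', rfl⟩; exact ⟨m' * n, mul_mem hm' hn', by group⟩
      · rintro ⟨m', hm', rfl⟩; exact ⟨m' * n⁻¹, mul_mem hm' (inv_mem hn'), by group⟩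
    · rintro ⟨-, hv⟩
      rw [← hv]
      exact Finset.mem_image.mpr ⟨1, Finset.mem_filter.mpr ⟨Finset.mem_univ _, one_mem _⟩, by group⟩
  refine ⟨q, k, (hp'.odd_of_ne_two hp2).pow, hq1, hkS, hcard, hN, fun P => ?_⟩
  -- Sylow subgroups
  obtain ⟨Q, hQ⟩ := IsPGroup.exists_le_sylow (G := G) (p := p) (P := Subgroup.zpowers (u : G))
    (IsPGroup.of_card (n := 1) (by rw [Nat.card_zpowers, Subgroup.orderOf_coe, hu, pow_one]))
  have huQ : (u : G) ∈ Q.1 := hQ (Subgroup.mem_zpowers _)
  have hun : ¬ IsSc ((u : G) : GL (Fin 3) K) := fun h => by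
    have := Subgroup.orderOf_dvd_natCard _ (mem_scIn.mpr h)
    rw [Subgroup.orderOf_coe, hu] at this
    exact (Nat.Prime.coprime_iff_not_dvd hp').mp hzp this
  haveI : Nontrivial Q.1 := by
    refine ⟨⟨u, huQ⟩, 1, fun h => hun ?_⟩
    rw [show (u : G) = 1 from congrArg Subtype.val h]
    exact ⟨1, by simp⟩
  haveI := Q.isPGroup'.center_nontrivial
  obtain ⟨v, hv1⟩ := exists_ne (1 : Subgroup.center Q.1)
  have hvu : ((v : Q.1) : G) ∈ cA y := by
    rw [← InY.cA_eq hc hnd (p := p) hy u.2 hun]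
    exact mem_cA.mpr ((show Commute (v : Q.1) ⟨u, huQ⟩ from
      (Subgroup.mem_center_iff.mp v.2 ⟨u, huQ⟩).symm).map Q.1.subtype)
  have hvn : ¬ IsSc (((v : Q.1) : G) : GL (Fin 3) K) := fun h => by
    obtain ⟨j, hj⟩ := IsPGroup.iff_orderOf.mp Q.isPGroup' (v : Q.1)
    have h1 := Subgroup.orderOf_dvd_natCard _ (mem_scIn.mpr h)
    rw [Subgroup.orderOf_coe, hj] at h1
    have h2 := Nat.dvd_gcd (dvd_refl (p ^ j)) h1
    rw [(Nat.Coprime.pow_left j hzp).gcd_eq_one, Nat.dvd_one] at h2
    rw [← hj, orderOf_eq_one_iff] at h2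
    exact hv1 (Subtype.ext h2)
  obtain ⟨g, hg⟩ := MulAction.exists_smul_eq G P Q
  refine ⟨g, fun x hx => ?_⟩
  rw [← InY.cA_eq hc hnd (p := p) hy hvu hvn]
  have hxQ : g * x * g⁻¹ ∈ Q.1 := by
    rw [← hg]
    exact Subgroup.smul_mem_pointwise_smul x (MulAut.conj g) P.1 hx
  exact mem_cA.mpr ((show Commute (⟨_, hxQ⟩ : Q.1) (v : Q.1) from
    Subgroup.mem_center_iff.mp v.2 _).map Q.1.subtype)

/-- The semidihedral/wreathed class equation has no admissible solution. -/
theorem Ctx.no_nonDih : False := by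
  classical
  haveI := hc.fin
  haveI := hc.simple
  haveI : Fintype G := Fintype.ofFinite _
  have hp' : p.Prime := Fact.out
  obtain ⟨hconj, hN, hcen⟩ := hc.census hnd
  set z := Nat.card (scIn G) with hz
  have hz0 : 0 < z := Nat.card_pos
  obtain ⟨γ, hγ⟩ : ∃ γ, Nat.card G = γ * z :=
    (Subgroup.card_subgroup_dvd_card (scIn G)).imp fun γ h => h.trans (mul_comm _ _)
  have hγ0 : 0 < γ := Nat.pos_of_ne_zero fun h => by
    have : 0 < Nat.card G := Nat.card_pos
    rw [hγ, h, zero_mul] at this; exact lt_irrefl _ this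
  have hmγ : 24 * m ∣ γ :=
    ⟨_, Nat.eq_of_mul_eq_mul_right hz0 ((hγ.symm.trans hN.symm).trans (by ring))⟩
  set Y := Finset.univ.filter fun x : G => ¬ IsSc (x : GL (Fin 3) K) ∧ ¬ CInv G x with hY
  let Yc : G → Finset G := fun y =>
    Finset.univ.filter fun x : G => ¬ IsSc (x : GL (Fin 3) K) ∧ ∃ g : G, g⁻¹ * x * g ∈ cA y
  have hsconj : ∀ {y x : G}, InY y → ∀ g : G, g⁻¹ * x * g ∈ cA y → ¬ IsSc (x : GL (Fin 3) K) →
      ¬ IsSc ((g⁻¹ * x * g : G) : GL (Fin 3) K) := fun {y x} _ g _ hs h => hs (by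
    have := (isSc_conj hc g).mpr h
    rwa [show g * (g⁻¹ * x * g) * g⁻¹ = x by group] at this)
  have hself : ∀ {y : G}, InY y → y ∈ Yc y := fun {y} hy =>
    Finset.mem_filter.mpr ⟨Finset.mem_univ _, hy.1, 1, by simp [mem_cA]⟩
  have hYc : ∀ {y : G}, InY y → Yc y ⊆ Y := by
    intro y hy x hx
    obtain ⟨-, hxs, g, hg⟩ := Finset.mem_filter.mp hx
    have h1 := InY.of_mem hc hnd hy hg (hsconj hy g hg hxs)
    refine Finset.mem_filter.mpr ⟨Finset.mem_univ _, hxs, fun ⟨t, ht, ot, hxt⟩ => h1.2 ?_⟩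
    refine ⟨_, (g⁻¹ * ⟨t, ht⟩ * g : G).2, ?_, ?_⟩
    · rw [Subgroup.coe_mul, Subgroup.coe_mul, Subgroup.coe_inv]
      conv_lhs => rw [show (g : GL (Fin 3) K) = ((g : GL (Fin 3) K)⁻¹)⁻¹ from (inv_inv _).symm]
      rw [inv_inv (g : GL (Fin 3) K)⁻¹, ← MulAut.conj_apply, MulEquiv.orderOf_eq]
      exact ot
    · refine commute_coe.mpr ?_
      have h2 : Commute x ⟨t, ht⟩ := commute_coe.mp hxt
      have h3 := h2.map (MulAut.conj g⁻¹).toMonoidHom
      simpa [MulAut.conj_apply] using h3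
  have hrel : ∀ {y x : G}, InY y → x ∈ Yc y → Yc x = Yc y := by
    intro y x hy hx
    obtain ⟨-, hxs, g, hg⟩ := Finset.mem_filter.mp hx
    have h1 := InY.cA_eq hc hnd (p := p) hy hg (hsconj hy g hg hxs)
    have key : ∀ w, w ∈ cA x ↔ g⁻¹ * w * g ∈ cA y := fun w => by
      rw [← h1, mem_cA, mem_cA]
      constructor
      · intro h; simpa [MulAut.conj_apply] using h.map (MulAut.conj g⁻¹).toMonoidHom
      · intro h
        have := h.map (MulAut.conj g).toMonoidHom
        simpa [MulAut.conj_apply, mul_assoc] using this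
    ext v
    simp only [Yc, Finset.mem_filter, Finset.mem_univ, true_and, key]
    refine and_congr_right fun _ => ⟨fun ⟨k, hk⟩ => ⟨k * g, ?_⟩, fun ⟨k, hk⟩ => ⟨k * g⁻¹, ?_⟩⟩
    · convert hk using 1; group
    · convert hk using 1; group
  set Fam := (Finset.univ.filter fun y : G => InY y).image Yc with hFam
  have hFamY : ∀ F ∈ Fam, ∃ y, InY y ∧ F = Yc y := fun F hF => by
    obtain ⟨y, hy, rfl⟩ := Finset.mem_image.mp hF
    exact ⟨y, (Finset.mem_filter.mp hy).2, rfl⟩
  have hsum : ∑ F ∈ Fam, F.card = Y.card := by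
    refine Eq.trans (Finset.card_biUnion (t := id) ?_).symm ?_
    swap
    · congr 1
      ext x
      simp only [Finset.mem_biUnion, id]
      constructor
      · rintro ⟨F, hF, hx⟩
        obtain ⟨y, hy, rfl⟩ := hFamY F hF
        exact hYc hy hx
      · intro hx
        have hx' : InY x := (Finset.mem_filter.mp hx).2
        exact ⟨Yc x, Finset.mem_image.mpr ⟨x, Finset.mem_filter.mpr ⟨Finset.mem_univ _, hx'⟩, rfl⟩,
          hself hx'⟩
    · intro F hF F' hF' hne
      rw [Function.onFun, Finset.disjoint_left]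
      intro x hx hx'
      obtain ⟨y, hy, rfl⟩ := hFamY F hF
      obtain ⟨y', hy', rfl⟩ := hFamY F' hF'
      exact hne ((hrel hy hx).symm.trans (hrel hy' hx'))
  -- the size of one member
  have hsize : ∀ {y : G}, InY y → ∀ a w, Nat.card (cA y) = a * z → Nat.card (nA y) = w * Nat.card (cA y) →
      a * w ∣ γ ∧ ∃ n, (Yc y).card = n * z ∧ a * w * n = γ * (a - 1) := by
    intro y hy a w ha hw
    have h1 := InY.card_class hc hnd (p := p) hy
    rw [hw, ha, hγ] at h1
    have hdiv : a * w ∣ γ := by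
      obtain ⟨c, hcc⟩ := Subgroup.card_subgroup_dvd_card (nA y)
      rw [hw, ha, hγ] at hcc
      exact ⟨c, Nat.eq_of_mul_eq_mul_right hz0 (hcc.trans (by ring))⟩
    obtain ⟨c, hcc⟩ := id hdiv
    have ha0 : 0 < a := Nat.pos_of_ne_zero fun h => by
      have : 0 < Nat.card (cA y) := Nat.card_pos
      rw [ha, h, zero_mul] at this; exact lt_irrefl _ this
    obtain ⟨a', rfl⟩ : ∃ a', a = a' + 1 := ⟨a - 1, by omega⟩
    refine ⟨hdiv, c * a', ?_, by rw [hcc, Nat.add_sub_cancel]; ring⟩
    have hw0 : 0 < w := Nat.pos_of_ne_zero fun h => by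
      have : 0 < Nat.card (nA y) := Nat.card_pos
      rw [hw, h, zero_mul] at this; exact lt_irrefl _ this
    have hpos : 0 < w * ((a' + 1) * z) := by positivity
    apply Nat.eq_of_mul_eq_mul_right hpos
    change (Yc y).card * _ + z * (γ * z) = _ at h1
    rw [hcc] at h1
    linarith
  have hproper : ∀ {y : G}, InY y → Nat.card (nA y) < Nat.card G := by
    intro y hy
    refine lt_of_le_of_ne (Subgroup.card_le_card_group _) fun h => ?_
    have hn : (cA y).Normal := Subgroup.normalizer_eq_top_iff.mp (Subgroup.eq_top_of_card_eq _ h)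
    rcases IsSimpleGroup.eq_bot_or_eq_top_of_normal ((cA y).map (QuotientGroup.mk' (scIn G)))
      (hn.map _ (QuotientGroup.mk'_surjective _)) with h' | h'
    · refine hy.1 (mem_scIn.mp ?_)
      have h2 : QuotientGroup.mk' (scIn G) y ∈ (cA y).map (QuotientGroup.mk' (scIn G)) :=
        ⟨y, mem_cA.mpr (Commute.refl y), rfl⟩
      rw [h', Subgroup.mem_bot] at h2
      exact (QuotientGroup.eq_one_iff y).mp h2
    · refine hc.nonab ⟨⟨fun u v => ?_⟩⟩
      obtain ⟨u', hu', rfl⟩ := h' ▸ Subgroup.mem_top u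
      obtain ⟨v', hv', rfl⟩ := h' ▸ Subgroup.mem_top v
      rw [← map_mul, ← map_mul, (InY.comm hc (p := p) hy hu' hv').eq]
  -- the unipotent part
  let isU : Finset G → Prop := fun F => ∃ y, InY y ∧ p ∣ Nat.card (cA y) ∧ F = Yc y
  set FU := Fam.filter isU with hFU
  set FT := Fam.filter fun F => ¬ isU F with hFT
  have hFU1 : FU.card ≤ 1 := by
    rw [Finset.card_le_one]
    intro F hF F' hF'
    obtain ⟨y, hy, hyp, rfl⟩ := (Finset.mem_filter.mp hF).2
    obtain ⟨y', hy', hyp', rfl⟩ := (Finset.mem_filter.mp hF').2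
    obtain ⟨P⟩ : Nonempty (Sylow p G) := inferInstance
    obtain ⟨-, -, -, -, -, -, -, hP⟩ := InY.unip hc hnd hy hyp
    obtain ⟨-, -, -, -, -, -, -, hP'⟩ := InY.unip hc hnd hy' hyp'
    obtain ⟨g, hg⟩ := hP P
    obtain ⟨g', hg'⟩ := hP' P
    obtain ⟨x, hx, hxs⟩ : ∃ x ∈ P.1, ¬ IsSc (x : GL (Fin 3) K) := by
      obtain ⟨u, hu⟩ := exists_prime_orderOf_dvd_card' p (hyp.trans (Subgroup.card_subgroup_dvd_card _))
      obtain ⟨Q, hQ⟩ := IsPGroup.exists_le_sylow (G := G) (p := p) (P := Subgroup.zpowers u)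
        (IsPGroup.of_card (n := 1) (by rw [Nat.card_zpowers, hu, pow_one]))
      obtain ⟨k, hk⟩ := MulAction.exists_smul_eq G Q P
      refine ⟨k * u * k⁻¹, ?_, fun h => ?_⟩
      · rw [← hk]
        exact Subgroup.smul_mem_pointwise_smul u (MulAut.conj k) Q.1 (hQ (Subgroup.mem_zpowers u))
      · have := Subgroup.orderOf_dvd_natCard _ (mem_scIn.mpr ((isSc_conj hc k).mp h))
        rw [hu] at this
        exact (Nat.Prime.coprime_iff_not_dvd hp').mp (scIn_card_dvd hc (p := p)).2 this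
    have m1 : x ∈ Yc y := Finset.mem_filter.mpr ⟨Finset.mem_univ _, hxs, g⁻¹, by
      rw [inv_inv]; exact hg x hx⟩
    have m2 : x ∈ Yc y' := Finset.mem_filter.mpr ⟨Finset.mem_univ _, hxs, g'⁻¹, by
      rw [inv_inv]; exact hg' x hx⟩
    exact (hrel hy m1).symm.trans (hrel hy' m2)
  obtain ⟨U, hUsum, hU⟩ : ∃ U, ∑ F ∈ FU, F.card = U * z ∧ (U = 0 ∨ ∃ q k, Odd q ∧ 1 < q ∧
      k ∣ q - 1 ∧ q * k ∣ γ ∧ q * k < γ ∧ q * k * U = γ * (q - 1)) := by
    rcases Nat.le_one_iff_eq_zero_or_eq_one.mp hFU1 with h | h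
    · exact ⟨0, by rw [Finset.card_eq_zero.mp h, Finset.sum_empty, zero_mul], Or.inl rfl⟩
    · obtain ⟨F, hF⟩ := Finset.card_eq_one.mp h
      obtain ⟨y, hy, hyp, rfl⟩ := (Finset.mem_filter.mp (hF ▸ Finset.mem_singleton_self F :
        F ∈ FU)).2
      obtain ⟨q, k, hodd, hq1, hkq, hcq, hnk, -⟩ := InY.unip hc hnd hy hyp
      obtain ⟨hdiv, n, hn, heq⟩ := hsize hy q k hcq hnk
      refine ⟨n, by rw [hF, Finset.sum_singleton, hn],
        Or.inr ⟨q, k, hodd, hq1, hkq, hdiv, ?_, heq⟩⟩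
      have h2 := hproper hy
      rw [hnk, hcq, hγ, ← mul_assoc] at h2
      rw [mul_comm q]
      exact Nat.lt_of_mul_lt_mul_right h2
  have hTF : ∀ F ∈ FT, ∃ n, F.card = n * z ∧ (9 * n = γ ∨ 3 * n ≥ γ ∨
      ∃ a, Odd a ∧ 3 ≤ a ∧ a ≠ 5 ∧ 3 * a ∣ γ ∧ 3 * a * n = γ * (a - 1)) := by
    intro F hF
    obtain ⟨hFm, hnU⟩ := Finset.mem_filter.mp hF
    obtain ⟨y, hy, rfl⟩ := hFamY F hFm
    obtain ⟨a, w, ha, hw, hodd, ha3, hcases⟩ := InY.torus hc hnd (p := p) hy
      fun h => hnU ⟨y, hy, h, rfl⟩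
    obtain ⟨hdiv, n, hn, heq⟩ := hsize hy a w ha hw
    refine ⟨n, hn, ?_⟩
    obtain ⟨a', rfl⟩ : ∃ a', a = a' + 1 := ⟨a - 1, by omega⟩
    rw [Nat.add_sub_cancel] at heq
    rcases hcases with rfl | rfl | ⟨rfl, h5⟩ | ⟨rfl, h3⟩
    · refine Or.inr (Or.inl ?_)
      by_contra h
      push Not at h
      nlinarith
    · refine Or.inr (Or.inl ?_)
      by_contra h
      push Not at h
      nlinarith
    · exact Or.inr (Or.inr ⟨a' + 1, hodd, ha3, h5, by rw [mul_comm]; exact hdiv, by
        rw [Nat.add_sub_cancel, ← heq]; ring⟩)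
    · left
      obtain rfl : a' = 2 := by omega
      omega
  choose! nT hnT1 hnT2 using hTF
  set T := ∑ F ∈ FT, nT F with hT
  have hYT : Y.card = (T + U) * z := by
    rw [← hsum, ← Finset.sum_filter_add_sum_filter_not Fam isU, hUsum, Finset.sum_congr rfl hnT1,
      ← Finset.sum_mul]
    ring
  have heqs : m = 2 ∧ 48 * (T + U + 1) = 13 * γ ∨ m = 4 ∧ 96 * (T + U + 1) = 31 * γ := by
    change m = 2 ∧ 48 * (Y.card + z) = _ ∨ m = 4 ∧ 96 * (Y.card + z) = _ at hcen
    rw [hYT, hγ] at hcen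
    rcases hcen with ⟨h1, h2⟩ | ⟨h1, h2⟩
    · exact Or.inl ⟨h1, Nat.eq_of_mul_eq_mul_right hz0 (by linarith)⟩
    · exact Or.inr ⟨h1, Nat.eq_of_mul_eq_mul_right hz0 (by linarith)⟩
  have h3T : 3 * T < γ := by rcases heqs with ⟨-, h⟩ | ⟨-, h⟩ <;> omega
  have hone : ∀ F ∈ FT, γ ≤ 9 * nT F ∧ (2 * γ ≤ 9 * nT F ∨ 9 * nT F = γ) := by
    intro F hF
    rcases hnT2 F hF with h | h | ⟨a, -, ha3, -, -, h⟩
    · omega
    · omega
    · obtain ⟨a', rfl⟩ : ∃ a', a = a' + 1 := ⟨a - 1, by omega⟩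
      rw [Nat.add_sub_cancel] at h
      have : 2 * γ ≤ 9 * nT F := by nlinarith
      omega
  have hFT2 : FT.card ≤ 2 := by
    have h1 : FT.card • γ ≤ ∑ F ∈ FT, 9 * nT F :=
      Finset.card_nsmul_le_sum _ _ _ fun F hF => (hone F hF).1
    rw [← Finset.mul_sum, smul_eq_mul] at h1
    by_contra h
    push Not at h
    have : 3 * γ ≤ FT.card * γ := Nat.mul_le_mul_right _ h
    omega
  have hTc : T = 0 ∨ 9 * T = γ ∨ ∃ a, Odd a ∧ 3 ≤ a ∧ a ≠ 5 ∧ 3 * a ∣ γ ∧ 3 * a * T = γ * (a - 1) := by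
    interval_cases h : FT.card
    · exact Or.inl (by rw [hT, Finset.card_eq_zero.mp h, Finset.sum_empty])
    · obtain ⟨F, hF⟩ := Finset.card_eq_one.mp h
      have hmem : F ∈ FT := hF ▸ Finset.mem_singleton_self F
      rw [hT, hF, Finset.sum_singleton]
      rcases hnT2 F hmem with h9 | h9 | h9
      · exact Or.inr (Or.inl h9)
      · exfalso; rw [hT, hF, Finset.sum_singleton] at h3T; omega
      · exact Or.inr (Or.inr h9)
    · obtain ⟨F, F', hne, hF⟩ := Finset.card_eq_two.mp h
      have m1 : F ∈ FT := hF ▸ Finset.mem_insert_self F _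
      have m2 : F' ∈ FT := hF ▸ Finset.mem_insert_of_mem (Finset.mem_singleton_self F')
      rw [hT, hF, Finset.sum_pair hne]
      rw [hT, hF, Finset.sum_pair hne] at h3T
      have := hone F m1
      have := hone F' m2
      refine Or.inr (Or.inr ⟨3, by decide, le_rfl, by decide, ⟨nT F, by omega⟩, by omega⟩)
  obtain ⟨rfl, rfl⟩ := class_equation hγ0 heqs hmγ hTc hU
  -- thirty-one involutions
  obtain ⟨t₀, ht₀, ot₀⟩ := hnd.exists_invol
  let Inv := {s : G // orderOf (s : GL (Fin 3) K) = 2}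
  haveI : Fintype Inv := Fintype.ofFinite _
  have h31 : Fintype.card Inv = 31 := by
    rw [← Nat.card_eq_fintype_card]
    rw [hγ] at hN
    apply Nat.eq_of_mul_eq_mul_right (show 0 < 24 * 4 * z by positivity)
    rw [hN]; ring
  have hact : ∀ (g : G) (s : Inv), orderOf ((g * s.1 * g⁻¹ : G) : GL (Fin 3) K) = 2 := fun g s => by
    rw [Subgroup.coe_mul, Subgroup.coe_mul, Subgroup.coe_inv, ← MulAut.conj_apply, MulEquiv.orderOf_eq]
    exact s.2
  let act : G →* Function.End Inv :=
    { toFun := fun g s => ⟨g * s.1 * g⁻¹, hact g s⟩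
      map_one' := funext fun s => Subtype.ext (by simp; rfl)
      map_mul' := fun g h => funext fun s => Subtype.ext (by
        show g * h * s.1 * (g * h)⁻¹ = g * (h * s.1 * h⁻¹) * g⁻¹
        group) }
  let π : G →* Equiv.Perm Inv := act.toHomPerm
  have hπ : ∀ g s, ((π g s : Inv) : G) = g * s.1 * g⁻¹ := fun _ _ => rfl
  have htrans : ∀ s s' : Inv, ∃ g : G, π g s = s' := fun s s' => by
    obtain ⟨x, hx, hxs⟩ := hconj s.1 s.1.2 s'.1 s'.1.2 s.2 s'.2
    exact ⟨⟨x, hx⟩, Subtype.ext (Subtype.ext hxs)⟩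
  haveI : MulAction.IsPretransitive π.range Inv := ⟨fun s s' => by
    obtain ⟨g, hg⟩ := htrans s s'
    exact ⟨⟨π g, g, rfl⟩, hg⟩⟩
  rcases S0675.result (h31 ▸ by norm_num) π.range with hsol | h2
  · have hker : π.ker ≤ scIn G := by
      rcases IsSimpleGroup.eq_bot_or_eq_top_of_normal (π.ker.map (QuotientGroup.mk' (scIn G)))
        ((inferInstance : π.ker.Normal).map _ (QuotientGroup.mk'_surjective _)) with h | h
      · intro x hx
        have h' : QuotientGroup.mk' (scIn G) x ∈ π.ker.map (QuotientGroup.mk' (scIn G)) := ⟨x, hx, rfl⟩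
        rw [h, Subgroup.mem_bot] at h'
        exact (QuotientGroup.eq_one_iff x).mp h'
      · exfalso
        have hall : ∀ g s, π g s = s := fun g s => by
          obtain ⟨k, hk, hkg⟩ := h ▸ Subgroup.mem_top (QuotientGroup.mk' (scIn G) g)
          refine Subtype.ext ?_
          have hks : k * s.1 * k⁻¹ = s.1 := by
            rw [← hπ, MonoidHom.mem_ker.mp hk]; rfl
          have hgk : k⁻¹ * g ∈ scIn G := (QuotientGroup.eq).mp hkg
          rw [hπ]
          calc g * s.1 * g⁻¹ = k * ((k⁻¹ * g) * s.1) * (k⁻¹ * g)⁻¹ * k⁻¹ := by group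
            _ = k * (s.1 * (k⁻¹ * g)) * (k⁻¹ * g)⁻¹ * k⁻¹ := by rw [(scIn_central hc hgk s.1).eq]
            _ = k * s.1 * k⁻¹ := by group
            _ = s.1 := hks
        have : Fintype.card Inv ≤ 1 := Fintype.card_le_one_iff.mpr fun s s' => by
          obtain ⟨g, hg⟩ := htrans s s'
          rw [← hg, hall]
        omega
    let f : π.range →* G ⧸ scIn G := (π.rangeRestrict).liftOfSurjective π.rangeRestrict_surjective
      ⟨QuotientGroup.mk' (scIn G), by
        rw [MonoidHom.ker_rangeRestrict, QuotientGroup.ker_mk']; exact hker⟩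
    haveI := hsol
    haveI : Group.IsSolvable (G ⧸ scIn G) := Group.isSolvable_of_surjective (f := f) fun v => by
      obtain ⟨g, rfl⟩ := QuotientGroup.mk'_surjective (scIn G) v
      exact ⟨π.rangeRestrict g, MonoidHom.liftOfRightInverse_comp_apply _ _ _ _ g⟩
    exact hc.nonab ⟨⟨IsSimpleGroup.comm_iff_isSolvable.mpr inferInstance⟩⟩
  · rw [MulAction.is_two_pretransitive_iff] at h2
    set t : Inv := ⟨⟨t₀, ht₀⟩, ot₀⟩ with ht
    have hr : r = 7 := hnd.cases.elim (fun h => absurd h.1 (by norm_num)) (·.2)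
    haveI : Finite (cenG G t₀) := Finite.of_injective _ (Subgroup.inclusion_injective inf_le_left)
    obtain ⟨s, hst, hcs⟩ : ∃ s : Inv, s ≠ t ∧ Commute s.1 t.1 := by
      by_contra hcon
      push Not at hcon
      haveI : Subsingleton {s : cenG G t₀ // orderOf s = 2} := ⟨fun u v => by
        have key : ∀ u : {s : cenG G t₀ // orderOf s = 2}, ((u.1 : GL (Fin 3) K)) = t₀ := fun u => by
          by_contra hne
          refine hcon ⟨⟨u.1, (mem_cenG.mp u.1.2).1⟩, ?_⟩ (fun h => hne ?_)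
            (commute_coe.mp (mem_cenG.mp u.1.2).2)
          · show orderOf (u.1 : GL (Fin 3) K) = 2
            rw [Subgroup.orderOf_coe]; exact u.2
          · exact congrArg (fun s : Inv => ((s.1 : G) : GL (Fin 3) K)) h
        exact Subtype.ext (Subtype.ext ((key u).trans (key v).symm))⟩
      have h7 := hnd.card_inv t₀ ht₀ ot₀
      have := Finite.card_le_one_iff_subsingleton.mpr this
      omega
    have hall : ∀ u : Inv, Commute u.1 t.1 := by
      intro u
      by_cases hut : u = t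
      · rw [hut]
      · obtain ⟨⟨g', g, rfl⟩, hg1, hg2⟩ := h2 hst.symm (Ne.symm hut)
        have h1 : g * t.1 * g⁻¹ = t.1 := congrArg Subtype.val hg1
        have h3 : g * s.1 * g⁻¹ = u.1 := congrArg Subtype.val hg2
        rw [← h3, ← h1]
        exact hcs.map (MulAut.conj g).toMonoidHom
    have h7 := hnd.card_inv t₀ ht₀ ot₀
    have : Nat.card Inv ≤ Nat.card {s : cenG G t₀ // orderOf s = 2} :=
      Nat.card_le_card_of_injective
        (fun u => ⟨⟨(u.1 : GL (Fin 3) K), mem_cenG.mpr ⟨u.1.2, commute_coe.mpr (hall u)⟩⟩,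
          by rw [← Subgroup.orderOf_coe]; exact u.2⟩)
        fun u v h => Subtype.ext (Subtype.ext
          (congrArg (fun w : {s : cenG G t₀ // orderOf s = 2} => (w.1 : GL (Fin 3) K)) h))
    rw [Nat.card_eq_fintype_card, h31] at this
    omega

end Cfsg.Agent.Lib.Mitchell3
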