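import Cfsg.Agent.Lib.Mitchell3.CoreElts
import Cfsg.Agent.Lib.Alternating.Basic

/-!
Mitchell package: the traces of the triple covers with socle `A₆` and `A₇`.
-/

set_option autoImplicit false
set_option linter.unusedSectionVars false
set_option linter.style.haveILetI false

namespace Cfsg.Agent.Lib.Mitchell3

open Matrix

variable {K : Type*} [Field K] [IsAlgClosed K] {P : Subgroup (GL (Fin 3) K)}
variable {p : ℕ} [Fact p.Prime] [CharP K p] {α : ℕ}

theorem exists_sq_ne_one' {E : Type} [Field E] [Fintype E] (hE : Fintype.card E = 9) :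
    ∃ a : Eˣ, (a : E) ^ 2 ≠ 1 := by
  classical
  by_contra hc
  push Not at hc
  have hle : (Finset.univ : Finset Eˣ).card ≤ 2 := by
    refine (Finset.card_le_card (t := {1, -1}) fun b _ => ?_).trans Finset.card_le_two
    have := hc b
    rw [← one_pow 2, sq_eq_sq_iff_eq_or_eq_neg] at this
    rcases this with e | e
    · simp [show b = 1 from Units.ext (by simpa using e)]
    · simp [show b = -1 from Units.ext (by simpa using e)]
  rw [Finset.card_univ, Fintype.card_units] at hle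
  omega

section Nine

variable {E : Type} [Field E] [Fintype E] (hE : Fintype.card E = 9)
variable (θ : P →* Matrix.ProjectiveSpecialLinearGroup (Fin 2) E) (hθ : Function.Surjective θ) (h : Hyp p α θ)
include hE hθ h

theorem not_abRoot_nine (hp3 : p ≠ 3) : ¬ AbRoot (piOf θ) := by
  intro hab
  haveI : Fact (Nat.Prime 3) := ⟨Nat.prime_three⟩
  haveI : CharP E 3 := charP_of_card_eq_prime_pow (f := 2) (by rw [hE]; norm_num)
  have hp : Hyp p α (piOf θ) := hyp_piOf θ hθ h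
  have hInn := (piOf_range θ hθ h).ge
  obtain ⟨a, ha⟩ := exists_sq_ne_one' hE
  obtain ⟨σ⟩ := nonempty_sec hp hInn hab ha
  have h3K : ((3 : ℕ) : K) ≠ 0 := fun e => hp3 ((Nat.prime_dvd_prime_iff_eq (Fact.out : p.Prime)
    Nat.prime_three).mp ((CharP.cast_eq_zero_iff K p 3).mp e))
  have := Sec.card_le hp hInn σ h3K
  omega

/-- An element over a three-element of `PSL(2, 9)`. -/
theorem three_elt (hp3 : p ≠ 3) {g : P} (hg : θ g ^ 3 = 1) :
    (g : GL (Fin 3) K) ^ 3 = 1 ∧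
      (θ g ≠ 1 → tr3 (g : GL (Fin 3) K) = 0 ∧ tr3 (g : GL (Fin 3) K)⁻¹ = 0) := by
  haveI : Fact (Nat.Prime 3) := ⟨Nat.prime_three⟩
  haveI : CharP E 3 := charP_of_card_eq_prime_pow (f := 2) (by rw [hE]; norm_num)
  by_cases h1 : θ g = 1
  · exact ⟨by rw [← Subgroup.coe_pow, h.cube h1, Subgroup.coe_one], fun hne => absurd h1 hne⟩
  obtain ⟨w, t, hx⟩ := exists_conj_xr (s := 3) (b := 2) (by norm_num) (by rw [hE]; norm_num) hg
  obtain ⟨W, rfl⟩ := hθ w
  set g' : P := W⁻¹ * g * W with hg'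
  have hθg' : θ g' = Cfsg.Agent.Lib.AutPSL.xr 0 1 t := by
    rw [hg', map_mul, map_mul, map_inv, hx]; group
  have hroot : IsRoot (piOf θ) g' := ⟨t, by show MulAut.conj (θ g') = uE t; rw [hθg']; rfl⟩
  have hp : Hyp p α (piOf θ) := hyp_piOf θ hθ h
  have hInn := (piOf_range θ hθ h).ge
  obtain ⟨x, y, ω, hxr, hyr, hω, hω3, -, hxy⟩ := exists_pair hp hInn (not_abRoot_nine hE θ hθ h hp3)
  -- some root element does not commute with `g'`
  obtain ⟨u, hu, hne⟩ : ∃ u : P, IsRoot (piOf θ) u ∧ ¬ Commute u g' := by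
    by_contra hc
    push Not at hc
    obtain ⟨a, ha⟩ := scalar_of_commute_pair hω hω3 hxy (Units.isUnit _) (Units.isUnit _)
      (M := ((g' : GL (Fin 3) K) : Matrix (Fin 3) (Fin 3) K))
      (congrArg (fun z : P => ((z : GL (Fin 3) K) : Matrix (Fin 3) (Fin 3) K)) (hc x hxr).eq.symm)
      (congrArg (fun z : P => ((z : GL (Fin 3) K) : Matrix (Fin 3) (Fin 3) K)) (hc y hyr).eq.symm)
    have : θ g' = 1 := (h.ker g').mpr ⟨a, ha⟩
    rw [hg', map_mul, map_mul, map_inv] at this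
    exact h1 (by
      have e : θ g = θ W * ((θ W)⁻¹ * θ g * θ W) * (θ W)⁻¹ := by group
      rw [e, this, mul_one, mul_inv_cancel])
  have hk := cm_ker hp hu hroot
  obtain ⟨c, hc⟩ := (hp.ker _).mp hk
  have hc1 : c ≠ 1 := fun e => hne (cm_eq_one.mp (Subtype.ext (Units.ext (by rw [hc, e, one_smul]; rfl))))
  have he : ((u : GL (Fin 3) K) * g' * (u : GL (Fin 3) K)⁻¹ : GL (Fin 3) K).val =
      c • ((g' : GL (Fin 3) K) : Matrix (Fin 3) (Fin 3) K) := by
    have e : u * g' * u⁻¹ = cm u g' * g' := by simp only [cm]; group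
    have e' := congrArg (fun z : P => ((z : GL (Fin 3) K) : Matrix (Fin 3) (Fin 3) K)) e
    simp only [Subgroup.coe_mul, Subgroup.coe_inv, Units.val_mul, hc, smul_mul_assoc, one_mul] at e'
    simpa using e'
  obtain ⟨t1, t2, t3⟩ := twisted (h.sl _ g'.2) hc1 he
  have hgg : (g : GL (Fin 3) K) = (W : GL (Fin 3) K) * (g' : GL (Fin 3) K) * (W : GL (Fin 3) K)⁻¹ := by
    simp only [hg', Subgroup.coe_mul, Subgroup.coe_inv]; group
  refine ⟨?_, fun _ => ⟨?_, ?_⟩⟩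
  · rw [hgg, conj_pow, pow_succ, pow_two, t3, mul_one, mul_inv_cancel]
  · rw [hgg, tr3_conj, t1]
  · rw [hgg, conj_inv, tr3_conj, t2]

/-- The traces of the cores with socle `A₆`. -/
theorem traces_nine (hp3 : p ≠ 3) (hp2 : p ≠ 2) :
    ((p % 3 = 1 ∧ (p % 5 = 1 ∨ p % 5 = 4)) → ∀ g : P, tr3 (g : GL (Fin 3) K) ^ p = tr3 (g : GL (Fin 3) K)) ∧
    (∀ g : P, tr3 (g : GL (Fin 3) K) ^ p ^ 2 = tr3 (g : GL (Fin 3) K)) ∧
    ((p % 3 = 2 ∧ (p % 5 = 1 ∨ p % 5 = 4 ∨ p = 5)) →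
      ∀ g : P, tr3 (g : GL (Fin 3) K) ^ p = tr3 (g : GL (Fin 3) K)⁻¹) ∧
    ((p % 5 = 2 ∨ p % 5 = 3) → ¬ ∀ g : P, tr3 (g : GL (Fin 3) K) ^ p = tr3 (g : GL (Fin 3) K)⁻¹) := by
  have hpp : p.Prime := Fact.out
  have hodd : p % 2 = 1 := Nat.odd_iff.mp (hpp.odd_of_ne_two hp2)
  have hp3' : p % 3 ≠ 0 := fun e => hp3 ((Nat.prime_dvd_prime_iff_eq Nat.prime_three hpp).mp
    (Nat.dvd_of_mod_eq_zero e)).symm
  have h5 : p % 5 = 0 → p = 5 := fun e =>
    ((Nat.prime_dvd_prime_iff_eq (by norm_num) hpp).mp (Nat.dvd_of_mod_eq_zero e)).symm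
  have main : ∀ g : P, ∃ c t : K, c ^ 3 = 1 ∧ tr3 (g : GL (Fin 3) K) = c * t ∧
      tr3 (g : GL (Fin 3) K)⁻¹ = c⁻¹ * t ∧ t ^ p ^ 2 = t ∧ ((p % 5 = 2 ∨ p % 5 = 3) ∨ t ^ p = t) := by
    intro g
    obtain ⟨hord, w, hw⟩ := psl9_cases hE (θ g)
    by_cases h3 : θ g ^ 3 = 1
    · obtain ⟨-, hz⟩ := three_elt hE θ hθ h hp3 h3
      by_cases h1 : θ g = 1
      · obtain ⟨c, hc⟩ := (h.ker g).mp h1
        have hg3 : (g : GL (Fin 3) K) ^ 3 = 1 := by rw [← Subgroup.coe_pow, h.cube h1, Subgroup.coe_one]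
        have hc3 : c ^ 3 = 1 := by
          have e := congrArg Units.val hg3
          rw [Units.val_pow_eq_pow_val, hc, smul_pow, one_pow, Units.val_one] at e
          simpa using congrFun (congrFun e 0) 0
        have hc0 : c ≠ 0 := fun e => by simp [e] at hc3
        have h3p : ∀ k : ℕ, (3 : K) ^ p ^ k = 3 := fun k => by
          rw [show (3 : K) = ((3 : ℕ) : K) by norm_num, ← iterateFrobenius_def, map_natCast]
        refine ⟨c, 3, hc3, ?_, ?_, h3p 2, Or.inr (by simpa using h3p 1)⟩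
        · have := tr3_smul (g := 1) hc
          rwa [mul_one, tr3_one] at this
        · have hinv : (((g : GL (Fin 3) K)⁻¹ : GL (Fin 3) K) : Matrix (Fin 3) (Fin 3) K) = c⁻¹ • 1 := by
            refine Matrix.coe_units_inv _ |>.trans (Matrix.inv_eq_right_inv ?_)
            rw [hc, smul_mul_smul_comm, mul_inv_cancel₀ hc0, one_smul, one_mul]
          have := tr3_smul (g := 1) hinv
          rwa [mul_one, tr3_one] at this
      · obtain ⟨t1, t2⟩ := hz h1
        exact ⟨1, 0, one_pow 3, by rw [t1, mul_zero], by rw [t2, mul_zero],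
          zero_pow (pow_ne_zero _ hpp.ne_zero), Or.inr (zero_pow hpp.ne_zero)⟩
    obtain ⟨n, hn3, hgn, hnc⟩ : ∃ n, n % 3 ≠ 0 ∧ θ g ^ n = 1 ∧ (n = 2 ∨ n = 4 ∨ n = 5) := by
      rcases hord with e | e | e | e
      · exact absurd e h3
      · exact ⟨2, by norm_num, e, Or.inl rfl⟩
      · exact ⟨4, by norm_num, e, Or.inr (Or.inl rfl)⟩
      · exact ⟨5, by norm_num, e, Or.inr (Or.inr rfl)⟩
    obtain ⟨X, c, hc3, hXn, htr, htri, -, hconj⟩ := exists_split θ hθ h hn3 hgn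
    have hinvj : θ g ^ (n - 1) = (θ g)⁻¹ := eq_inv_of_mul_eq_one_left (by
      rw [← pow_succ, show n - 1 + 1 = n by omega, hgn])
    obtain ⟨W, hW⟩ := hconj w (n - 1) (by rw [hw, hinvj])
    have hXinv : (X : GL (Fin 3) K) ^ (n - 1) = (X : GL (Fin 3) K)⁻¹ := eq_inv_of_mul_eq_one_left (by
      rw [← pow_succ, show n - 1 + 1 = n by omega, hXn])
    have hreal : tr3 (X : GL (Fin 3) K)⁻¹ = tr3 (X : GL (Fin 3) K) := by rw [← hXinv, ← hW, tr3_conj]
    have hpm : ∀ k, (k % n = 1 ∨ k % n + 1 = n) → tr3 ((X : GL (Fin 3) K) ^ k) = tr3 (X : GL (Fin 3) K) := by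
      intro k hk
      rw [pow_mod_of_pow_eq_one hXn k]
      rcases hk with e | e
      · rw [e, pow_one]
      · rw [show k % n = n - 1 by omega, hXinv, hreal]
    by_cases hu : n = 5 ∧ p = 5
    · obtain ⟨rfl, rfl⟩ := hu
      have ht : tr3 (X : GL (Fin 3) K) = 3 := tr3_unip (p := 5) (k := 1) (by rw [pow_one]; exact hXn)
      have h3p : ∀ k : ℕ, (3 : K) ^ 5 ^ k = 3 := fun k => by
        rw [show (3 : K) = ((3 : ℕ) : K) by norm_num, ← iterateFrobenius_def, map_natCast]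
      exact ⟨c, 3, hc3, by rw [htr, ht], by rw [htri, hreal, ht], h3p 2, Or.inr (by simpa using h3p 1)⟩
    refine ⟨c, tr3 (X : GL (Fin 3) K), hc3, htr, by rw [htri, hreal], ?_, ?_⟩
    · rw [← tr3_pow_char_pow]
      refine hpm _ ?_
      have hp2m : p ^ 2 % n = (p % n) * (p % n) % n := by rw [pow_two, Nat.mul_mod]
      rw [hp2m]
      rcases hnc with rfl | rfl | rfl
      · rw [hodd]; norm_num
      · rcases (by omega : p % 4 = 1 ∨ p % 4 = 3) with e | e <;> rw [e] <;> norm_num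
      · have h50 : p % 5 ≠ 0 := fun e => hu ⟨rfl, h5 e⟩
        rcases (by omega : p % 5 = 1 ∨ p % 5 = 2 ∨ p % 5 = 3 ∨ p % 5 = 4) with e | e | e | e <;>
          rw [e] <;> norm_num
    · by_cases h23 : p % 5 = 2 ∨ p % 5 = 3
      · exact Or.inl h23
      refine Or.inr ?_
      rw [← tr3_pow_char]
      refine hpm _ ?_
      rcases hnc with rfl | rfl | rfl
      · exact Or.inl hodd
      · omega
      · have h50 : p % 5 ≠ 0 := fun e => hu ⟨rfl, h5 e⟩
        omega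
  have hcp : ∀ c : K, c ^ 3 = 1 → c ^ p = c ^ (p % 3) := fun c hc => pow_eq_pow_mod p hc
  refine ⟨fun ⟨h31, h51⟩ g => ?_, fun g => ?_, fun ⟨h32, h51⟩ g => ?_, fun h23 hall => ?_⟩
  · obtain ⟨c, t, hc, e1, -, -, ht⟩ := main g
    rw [e1, mul_pow, hcp c hc, h31, pow_one, ht.resolve_left (by omega)]
  · obtain ⟨c, t, hc, e1, -, ht, -⟩ := main g
    have : c ^ p ^ 2 = c := by
      rw [pow_eq_pow_mod (p ^ 2) hc, Nat.pow_mod]
      rcases (by omega : p % 3 = 1 ∨ p % 3 = 2) with e | e <;> rw [e] <;> norm_num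
    rw [e1, mul_pow, this, ht]
  · obtain ⟨c, t, hc, e1, e2, -, ht⟩ := main g
    have hc0 : c ≠ 0 := fun e => by simp [e] at hc
    rw [e1, e2, mul_pow, hcp c hc, h32, ht.resolve_left (by omega)]
    congr 1
    exact eq_inv_of_mul_eq_one_left (by rw [← pow_succ, hc])
  · obtain ⟨y, w, hy, hw⟩ := exists_five hE
    obtain ⟨g, rfl⟩ := hθ y
    obtain ⟨X, c, -, hX5, -, -, hne, hconj⟩ := exists_split θ hθ h (n := 5) (by norm_num)
      (by rw [← hy, pow_orderOf_eq_one])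
    obtain ⟨W, hW⟩ := hconj w 4 hw
    have h54 : (X : GL (Fin 3) K) ^ 4 = (X : GL (Fin 3) K)⁻¹ :=
      eq_inv_of_mul_eq_one_left (by rw [← pow_succ, hX5])
    have hreal : tr3 (X : GL (Fin 3) K)⁻¹ = tr3 (X : GL (Fin 3) K) := by rw [← h54, ← hW, tr3_conj]
    have h32 : tr3 ((X : GL (Fin 3) K) ^ 3) = tr3 ((X : GL (Fin 3) K) ^ 2) := by
      have : W * (X : GL (Fin 3) K) ^ 2 * W⁻¹ = (X : GL (Fin 3) K) ^ 3 := by
        rw [← conj_pow, hW, ← pow_mul, pow_mod_of_pow_eq_one hX5 (4 * 2)]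
      rw [← this, tr3_conj]
    have hX := hall X
    rw [← tr3_pow_char, hreal, pow_mod_of_pow_eq_one hX5 p] at hX
    have h2 : tr3 ((X : GL (Fin 3) K) ^ 2) = tr3 (X : GL (Fin 3) K) := by
      rcases h23 with e | e <;> rw [e] at hX
      · exact hX
      · rw [← h32]; exact hX
    have h3K : (3 : K) ≠ 0 := fun e => hp3 ((Nat.prime_dvd_prime_iff_eq hpp Nat.prime_three).mp
      ((CharP.cast_eq_zero_iff K p 3).mp (by exact_mod_cast e)))
    have h5K : (5 : K) ≠ 0 := fun e => by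
      have := (Nat.prime_dvd_prime_iff_eq hpp (by norm_num : Nat.Prime 5)).mp
        ((CharP.cast_eq_zero_iff K p 5).mp (by exact_mod_cast e))
      omega
    have h1 := eq_one_of_five_traces (h.sl _ X.2) h3K h5K hX5 (by rw [← pow_two]; exact h2)
      (by rw [← pow_two, ← pow_succ, h32]; exact h2) hreal
    rw [hne h1, orderOf_one] at hy
    exact absurd hy (by norm_num)

end Nine

/-- The traces of the cores with socle `A₇`. -/
theorem traces_alt [Fact (Nat.Prime 5)] [CharP K 5] {β : ℕ} (θ : P →* alternatingGroup (Fin 7))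
    (hθ : Function.Surjective θ) (h : Hyp 5 β θ) :
    ∀ g : P, tr3 (g : GL (Fin 3) K) ^ 5 = tr3 (g : GL (Fin 3) K)⁻¹ := by
  classical
  haveI : Fact (Nat.Prime 3) := ⟨Nat.prime_three⟩
  let E := Cfsg.Agent.Lib.Linear.SmallIso.F9
  have hE : Fintype.card E = 9 := Cfsg.Agent.Lib.Linear.SmallIso.card_F9
  haveI : CharP E 3 := charP_of_card_eq_prime_pow (f := 2) (by rw [hE]; norm_num)
  obtain ⟨e6⟩ := Cfsg.Agent.Lib.Linear.SmallIso.nonempty_psl_two_nine (F := E) hE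
  let e6' := e6.trans (Cfsg.Agent.Lib.Alternating.altEquivOfCard
    (show Fintype.card (Fin 6) = Fintype.card {x : Fin 7 // x ≠ 6} by decide))
  let emb : alternatingGroup {x : Fin 7 // x ≠ 6} →* alternatingGroup (Fin 7) :=
    (Equiv.Perm.ofSubtype.comp (alternatingGroup {x : Fin 7 // x ≠ 6}).subtype).codRestrict _ fun σ => by
      show Equiv.Perm.ofSubtype (σ : Equiv.Perm {x : Fin 7 // x ≠ 6}) ∈ alternatingGroup (Fin 7)
      rw [Equiv.Perm.mem_alternatingGroup, Equiv.Perm.sign_ofSubtype]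
      exact Equiv.Perm.mem_alternatingGroup.mp σ.2
  have hemb : Function.Injective emb := fun a b e =>
    Subtype.ext (Equiv.Perm.ofSubtype_injective (congrArg Subtype.val e))
  let ι : Matrix.ProjectiveSpecialLinearGroup (Fin 2) E →* alternatingGroup (Fin 7) := emb.comp e6'.toMonoidHom
  have hι : Function.Injective ι := hemb.comp e6'.injective
  -- the cover of the point stabiliser
  let Q : Subgroup (GL (Fin 3) K) := (ι.range.comap θ).map P.subtype
  have hQ : Q ≤ P := Subgroup.map_subtype_le _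
  let θQ : Q →* ι.range := (θ.comp (Subgroup.inclusion hQ)).codRestrict _ fun x => by
    obtain ⟨d, hd, he⟩ := x.2
    have : Subgroup.inclusion hQ x = d := Subtype.ext he.symm
    show θ (Subgroup.inclusion hQ x) ∈ ι.range
    rw [this]; exact hd
  let θ6 : Q →* Matrix.ProjectiveSpecialLinearGroup (Fin 2) E :=
    (MonoidHom.ofInjective hι).symm.toMonoidHom.comp θQ
  have hι6 : ∀ x : Q, ι (θ6 x) = θ (Subgroup.inclusion hQ x) := fun x => by
    show ι ((MonoidHom.ofInjective hι).symm (θQ x)) = _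
    rw [MonoidHom.apply_ofInjective_symm hι]
    rfl
  have hθ6 : Function.Surjective θ6 := fun y => by
    obtain ⟨g, hg⟩ := hθ (ι y)
    refine ⟨⟨g, g, ⟨y, hg.symm⟩, rfl⟩, hι ?_⟩
    rw [hι6]
    exact hg
  have h6 : Hyp 5 β θ6 :=
    ⟨fun x hx => h.sl x (hQ hx), fun v φ h0 hm => h.tf v φ h0 (hQ hm), fun x => by
      rw [← hι.eq_iff, hι6, map_one]; exact h.ker _, fun x hx => h.fix x (hQ hx)⟩
  intro g
  have hscal : ∀ {n : ℕ}, (g : GL (Fin 3) K) ^ n = 1 → n ∣ 6 →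
      tr3 (g : GL (Fin 3) K) ^ 5 = tr3 (g : GL (Fin 3) K)⁻¹ := fun {n} hn hd => by
    rw [← tr3_pow_char]
    congr 1
    refine eq_inv_of_mul_eq_one_left ?_
    obtain ⟨m, hm⟩ := hd
    rw [← pow_succ, show 5 + 1 = n * m from hm, pow_mul, hn, one_pow]
  have cube : ∀ x : P, θ x ^ 3 = 1 → (x : GL (Fin 3) K) ^ 3 = 1 := by
    intro x hx
    let ιr : Multiplicative E →* alternatingGroup (Fin 7) :=
      ι.comp (MonoidHom.mk' (fun t => Cfsg.Agent.Lib.AutPSL.xr 0 1 t.toAdd) fun t u => by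
        rw [toAdd_mul, Cfsg.Agent.Lib.AutPSL.xr_add (by decide)])
    have hcard : ¬ 3 ∣ Nat.card (alternatingGroup (Fin 7)) / 3 ^ 2 := by
      rw [nat_card_alternatingGroup, Nat.card_fin]; decide
    obtain ⟨w, t, hwt⟩ := exists_conj_root (s := 3) (b := 2) (by rw [hE]; norm_num) ιr
      (hι.comp fun t u e => Multiplicative.toAdd.injective
        (Cfsg.Agent.Lib.AutPSL.xr_injective le_rfl (by decide) e)) hcard hx
    obtain ⟨W, rfl⟩ := hθ w
    have hmem : ((W⁻¹ * x * W : P) : GL (Fin 3) K) ∈ Q := ⟨W⁻¹ * x * W, ⟨Cfsg.Agent.Lib.AutPSL.xr 0 1 t, by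
      rw [map_mul, map_mul, map_inv, hwt]
      show ι (Cfsg.Agent.Lib.AutPSL.xr 0 1 t) = _
      show _ = (θ W)⁻¹ * (θ W * ι (Cfsg.Agent.Lib.AutPSL.xr 0 1 t) * (θ W)⁻¹) * θ W
      group⟩, rfl⟩
    have h3 : θ6 ⟨_, hmem⟩ ^ 3 = 1 := hι (by
      rw [map_pow, map_one, hι6]
      show θ (W⁻¹ * x * W) ^ 3 = 1
      rw [map_mul, map_mul, map_inv]
      have := conj_pow (a := (θ W)⁻¹) (b := θ x) (i := 3)
      rw [inv_inv] at this
      rw [this, hx, mul_one, inv_mul_cancel])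
    have h4 := (three_elt hE θ6 hθ6 h6 (by norm_num) h3).1
    have he : (x : GL (Fin 3) K) = (W : GL (Fin 3) K) * ((W⁻¹ * x * W : P) : GL (Fin 3) K) * (W : GL (Fin 3) K)⁻¹ := by
      simp only [Subgroup.coe_mul, Subgroup.coe_inv]; group
    rw [he, conj_pow, show ((W⁻¹ * x * W : P) : GL (Fin 3) K) ^ 3 = 1 from h4, mul_one, mul_inv_cancel]
  rcases alt7_cases (θ g) with h2 | h3 | h5 | h6' | ⟨h4, v, hv⟩ | ⟨h7, v, hv⟩
  · refine hscal (n := 6) ?_ dvd_rfl
    have := congrArg (fun z : P => (z : GL (Fin 3) K)) (h.cube (z := g ^ 2) (by rw [map_pow, h2]))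
    simpa [← pow_mul] using this
  · exact hscal (cube g h3) (by norm_num)
  · obtain ⟨X, c, hc, hX, e1, e2, -, -⟩ := exists_split θ hθ h (n := 5) (by norm_num) h5
    have hX' : (X : GL (Fin 3) K)⁻¹ ^ 5 ^ 1 = 1 := by rw [pow_one, inv_pow, hX, inv_one]
    rw [e1, e2, mul_pow, tr3_unip (p := 5) (k := 1) (by rw [pow_one]; exact hX), tr3_unip (p := 5) hX',
      show (3 : K) ^ 5 = 3 by
        rw [show (3 : K) = ((3 : ℕ) : K) by norm_num, ← frobenius_def, map_natCast],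
      show c ^ 5 = c⁻¹ from eq_inv_of_mul_eq_one_left (by rw [← pow_succ, show c ^ (5 + 1) = (c ^ 3) ^ 2 by ring, hc, one_pow])]
  · refine hscal (n := 6) ?_ dvd_rfl
    have := cube (g ^ 2) (by rw [map_pow, ← pow_mul, h6'])
    simpa [← pow_mul] using this
  · obtain ⟨X, c, hc, hX, e1, e2, -, hconj⟩ := exists_split θ hθ h (n := 4) (by norm_num) h4
    obtain ⟨W, hW⟩ := hconj v 3 hv
    have hr : tr3 (X : GL (Fin 3) K)⁻¹ = tr3 (X : GL (Fin 3) K) := by
      rw [← eq_inv_of_mul_eq_one_left (show (X : GL (Fin 3) K) ^ 3 * (X : GL (Fin 3) K) = 1 by rw [← pow_succ, hX]),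
        ← hW, tr3_conj]
    rw [e1, e2, mul_pow, ← tr3_pow_char, pow_mod_of_pow_eq_one hX 5, hr,
      show c ^ 5 = c⁻¹ from eq_inv_of_mul_eq_one_left (by rw [← pow_succ, show c ^ (5 + 1) = (c ^ 3) ^ 2 by ring, hc, one_pow])]
    simp
  · obtain ⟨X, c, hc, hX, e1, e2, -, hconj⟩ := exists_split θ hθ h (n := 7) (by norm_num) h7
    obtain ⟨W, hW⟩ := hconj v 2 hv
    have hdbl : ∀ k, tr3 ((X : GL (Fin 3) K) ^ k) = tr3 ((X : GL (Fin 3) K) ^ ((2 * k) % 7)) := fun k => by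
      rw [← pow_mod_of_pow_eq_one hX (2 * k), pow_mul, ← hW, conj_pow, tr3_conj]
    have h56 : tr3 ((X : GL (Fin 3) K) ^ 5) = tr3 (X : GL (Fin 3) K)⁻¹ := by
      have a : tr3 ((X : GL (Fin 3) K) ^ 5) = tr3 ((X : GL (Fin 3) K) ^ 3) := (hdbl 5).trans (by rw [show 2 * 5 % 7 = 3 from rfl])
      have b : tr3 ((X : GL (Fin 3) K) ^ 3) = tr3 ((X : GL (Fin 3) K) ^ 6) := (hdbl 3).trans (by rw [show 2 * 3 % 7 = 6 from rfl])
      refine a.trans (b.trans (congrArg tr3 ?_))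
      exact eq_inv_of_mul_eq_one_left (by rw [← pow_succ, hX])
    rw [e1, e2, mul_pow, ← tr3_pow_char, h56,
      show c ^ 5 = c⁻¹ from eq_inv_of_mul_eq_one_left (by rw [← pow_succ, show c ^ (5 + 1) = (c ^ 3) ^ 2 by ring, hc, one_pow])]

end Cfsg.Agent.Lib.Mitchell3
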