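import Cfsg.Agent.Lib.Mitchell3.Homology
import Cfsg.Agent.Lib.DicksonId.Classify

/-!
Mitchell package: finite subgroups of `PSL(2, K)` of order prime to the characteristic, `K` locally
finite, and the action of the centraliser of a homology on its axis.
-/

set_option autoImplicit false
set_option linter.unusedSectionVars false

namespace Cfsg.Agent.Lib.Mitchell3

open Matrix Module
open Cfsg.Agent.Lib.Subspaces.Transvection
open Cfsg.Agent.Lib.DicksonFull (pslExt slExt slExt_apply pslExt_mk mem_center_iff_smul)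

variable {K : Type*} [Field K]

/-- Every finite subset lies in a finite subfield. -/
def LocFin (K : Type*) [Field K] : Prop := ∀ s : Finset K, ∃ F₁ : Subfield K, Finite F₁ ∧ ↑s ⊆ (F₁ : Set K)

theorem pslExt_injective {F E : Type*} [Field F] [Field E] (f : F →+* E) :
    Function.Injective (pslExt f) := by
  rw [injective_iff_map_eq_one]
  intro x hx
  obtain ⟨y, rfl⟩ := QuotientGroup.mk_surjective x
  rw [pslExt_mk, QuotientGroup.eq_one_iff] at hx
  obtain ⟨a, ha⟩ := (mem_center_iff_smul _).mp hx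
  refine (QuotientGroup.eq_one_iff _).mpr ((mem_center_iff_smul _).mpr
    ⟨(y : Matrix (Fin 2) (Fin 2) F) 0 0, ?_⟩)
  have h00 : f ((y : Matrix (Fin 2) (Fin 2) F) 0 0) = a := by
    rw [← slExt_apply f, ha]; simp
  ext i j
  apply f.injective
  rw [← slExt_apply f, ha, ← h00]
  fin_cases i <;> fin_cases j <;> simp

/-- The four kinds of finite `p'`-subgroups of `PSL(2, K)`. -/
theorem psl_two_cases (hloc : LocFin K) {p : ℕ} [Fact p.Prime] [CharP K p] (hp2 : p ≠ 2)
    (X : Subgroup (Matrix.ProjectiveSpecialLinearGroup (Fin 2) K)) [Finite X]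
    (hX : ¬ p ∣ Nat.card X) :
    (∃ C : Subgroup X, IsCyclic C ∧ C.index ≤ 2) ∨ Nat.card X = 12 ∨ Nat.card X = 60 ∨
      Nonempty (X ≃* Equiv.Perm (Fin 4)) := by
  classical
  haveI := Fintype.ofFinite X
  let lift : X → Matrix.SpecialLinearGroup (Fin 2) K := fun x =>
    (QuotientGroup.mk_surjective (x : Matrix.ProjectiveSpecialLinearGroup (Fin 2) K)).choose
  obtain ⟨F₁, hfin, hsub⟩ := hloc (Finset.univ.image fun y : X × Fin 2 × Fin 2 =>
    (lift y.1 : Matrix (Fin 2) (Fin 2) K) y.2.1 y.2.2)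
  haveI := hfin
  haveI : Fintype F₁ := Fintype.ofFinite _
  haveI : CharP F₁ p := RingHom.charP F₁.subtype F₁.subtype.injective p
  set f : F₁ →+* K := F₁.subtype with hf
  set Y : Subgroup (Matrix.ProjectiveSpecialLinearGroup (Fin 2) F₁) := X.comap (pslExt f) with hY
  have hmap : Y.map (pslExt f) = X := by
    refine le_antisymm (Subgroup.map_comap_le _ _) fun x hx => ?_
    have hent : ∀ i j, (lift ⟨x, hx⟩ : Matrix (Fin 2) (Fin 2) K) i j ∈ F₁ := fun i j =>
      hsub (Finset.mem_coe.mpr (Finset.mem_image.mpr ⟨(⟨x, hx⟩, i, j), Finset.mem_univ _, rfl⟩))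
    let M : Matrix (Fin 2) (Fin 2) F₁ := fun i j => ⟨_, hent i j⟩
    have hM : M.det = 1 := Subtype.ext (by
      have := (lift ⟨x, hx⟩).2
      rw [Matrix.det_fin_two] at this ⊢
      exact this)
    let MS : Matrix.SpecialLinearGroup (Fin 2) F₁ := ⟨M, hM⟩
    have he : pslExt f (MS : Matrix.ProjectiveSpecialLinearGroup (Fin 2) F₁) = x := by
      rw [pslExt_mk, show slExt f MS = lift ⟨x, hx⟩ from Subtype.ext rfl]
      exact (QuotientGroup.mk_surjective x).choose_spec
    exact ⟨(MS : Matrix.ProjectiveSpecialLinearGroup (Fin 2) F₁), Subgroup.mem_comap.mpr (he.symm ▸ hx), he⟩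
  let e : Y ≃* X := (Subgroup.equivMapOfInjective Y (pslExt f) (pslExt_injective f)).trans
    (MulEquiv.subgroupCongr hmap)
  have hc : Nat.card Y = Nat.card X := Nat.card_congr e.toEquiv
  have hYp : ¬ p ∣ Nat.card Y := hc ▸ hX
  by_cases hcyc : ∃ C : Subgroup Y, IsCyclic C ∧ C.index ≤ 2
  · obtain ⟨C, hC, hi⟩ := hcyc
    refine Or.inl ⟨C.map e.toMonoidHom, ?_, ?_⟩
    · exact isCyclic_of_surjective (C.equivMapOfInjective e.toMonoidHom e.injective).toMonoidHom
        (C.equivMapOfInjective e.toMonoidHom e.injective).surjective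
    · rwa [Subgroup.index_map_of_bijective e.bijective]
  rcases DicksonFull.coprime_cases Y hYp with h | h | h | h
  · exact absurd h hcyc
  · exact Or.inr (Or.inl (hc ▸ h))
  · have hN : ∀ r : ℕ, r.Prime → ∀ N : Subgroup Y, N.Normal → Nat.card N ≠ r := fun r hr N hN hcard => by
      haveI := hN
      haveI : Fact r.Prime := ⟨hr⟩
      exact hcyc (DicksonId.psl_cyclic_of_normal Y hYp N (isCyclic_of_prime_card hcard)
        (fun hb => by rw [hb, Subgroup.card_bot] at hcard; exact hr.ne_one hcard.symm))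
    obtain ⟨g⟩ := DicksonId.nonempty_perm_four h (hN 3 Nat.prime_three) (hN 2 Nat.prime_two)
    exact Or.inr (Or.inr (Or.inr ⟨e.symm.trans g⟩))
  · exact Or.inr (Or.inr (Or.inl (hc ▸ h)))

/-- The centraliser of `g` in `G`. -/
def cenG (G : Subgroup (GL (Fin 3) K)) (g : GL (Fin 3) K) : Subgroup (GL (Fin 3) K) :=
  G ⊓ Subgroup.centralizer {g}

theorem mem_cenG {G : Subgroup (GL (Fin 3) K)} {g x : GL (Fin 3) K} :
    x ∈ cenG G g ↔ x ∈ G ∧ Commute x g := by
  rw [cenG, Subgroup.mem_inf, Subgroup.mem_centralizer_singleton_iff]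
  rfl

theorem exists_glTwo_toPSL [IsAlgClosed K] :
    ∃ f : GL (Fin 2) K →* Matrix.ProjectiveSpecialLinearGroup (Fin 2) K,
      ∀ A, f A = 1 ↔ ∃ c : K, (A : Matrix (Fin 2) (Fin 2) K) = c • 1 := by
  classical
  have hs : ∀ A : GL (Fin 2) K, ∃ r : K, r ^ 2 = (A : Matrix (Fin 2) (Fin 2) K).det := fun A =>
    IsAlgClosed.exists_pow_nat_eq _ two_pos
  choose r hr using hs
  have hr0 : ∀ A, r A ≠ 0 := fun A e => by
    have h := hr A
    rw [e, zero_pow two_ne_zero] at h
    exact (Matrix.isUnit_iff_isUnit_det _).mp A.isUnit |>.ne_zero h.symm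
  let S : GL (Fin 2) K → Matrix.SpecialLinearGroup (Fin 2) K := fun A =>
    ⟨(r A)⁻¹ • (A : Matrix (Fin 2) (Fin 2) K), by
      rw [Matrix.det_smul, Fintype.card_fin, ← hr A, inv_pow, inv_mul_cancel₀ (pow_ne_zero _ (hr0 A))]⟩
  have hS : ∀ A, (S A : Matrix (Fin 2) (Fin 2) K) = (r A)⁻¹ • (A : Matrix (Fin 2) (Fin 2) K) :=
    fun _ => rfl
  refine ⟨MonoidHom.mk' (fun A => (S A : Matrix.ProjectiveSpecialLinearGroup (Fin 2) K))
    fun A B => ?_, fun A => ?_⟩
  · rw [← QuotientGroup.mk_mul, QuotientGroup.eq, mem_center_iff_smul]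
    have hd : (r (A * B)) ^ 2 = (r A * r B) ^ 2 := by
      rw [mul_pow, hr, hr, hr, Units.val_mul, Matrix.det_mul]
    rcases sq_eq_sq_iff_eq_or_eq_neg.mp hd with e | e
    · refine ⟨1, ?_⟩
      have h1 : S (A * B) = S A * S B := Subtype.ext (by
        rw [Matrix.SpecialLinearGroup.coe_mul, hS, hS, hS, Units.val_mul, Matrix.smul_mul, Matrix.mul_smul, smul_smul, e, mul_inv, mul_comm (r A)⁻¹])
      rw [h1, inv_mul_cancel, one_smul]
      rfl
    · refine ⟨-1, ?_⟩
      have h1 : (S A * S B : Matrix.SpecialLinearGroup (Fin 2) K) = -(S (A * B)) := Subtype.ext (by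
        rw [Matrix.SpecialLinearGroup.coe_neg]
        rw [Matrix.SpecialLinearGroup.coe_mul, hS, hS, hS, Units.val_mul, Matrix.smul_mul, Matrix.mul_smul, smul_smul, e, inv_neg, neg_smul, neg_neg, mul_inv,
          mul_comm (r A)⁻¹])
      rw [h1, mul_neg, inv_mul_cancel]
      simp
  · rw [MonoidHom.mk'_apply, QuotientGroup.eq_one_iff, mem_center_iff_smul]
    constructor
    · rintro ⟨c, hc⟩
      refine ⟨r A * c, ?_⟩
      rw [← smul_smul, ← hc]
      simp only [S]
      rw [smul_smul, mul_inv_cancel₀ (hr0 A), one_smul]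
    · rintro ⟨c, hc⟩
      exact ⟨(r A)⁻¹ * c, by simp only [S]; rw [hc, smul_smul]⟩

/-- The action of the centraliser of a homology on its axis. -/
theorem exists_axis_hom [IsAlgClosed K] {G : Subgroup (GL (Fin 3) K)} (hSL : InSL G)
    {g : GL (Fin 3) K} {a φ : Fin 3 → K} {l : K} (h : HomData g a φ l) :
    ∃ ρ : cenG G g →* Matrix.ProjectiveSpecialLinearGroup (Fin 2) K,
      ∀ x : cenG G g, ρ x = 1 ↔ (x : GL (Fin 3) K) ∈ homGrp G h.dot := by
  classical
  obtain ⟨f, hf⟩ := exists_glTwo_toPSL (K := K)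
  set W : Submodule K (Fin 3 → K) := LinearMap.ker (dotProductEquiv K (Fin 3) φ) with hW
  have hmW : ∀ w, w ∈ W ↔ φ ⬝ᵥ w = 0 := fun w => by
    rw [hW, LinearMap.mem_ker, dotProductEquiv_apply_apply]
  have hW2 : finrank K W = 2 := by
    have h1 := LinearMap.finrank_range_add_finrank_ker (dotProductEquiv K (Fin 3) φ)
    have h2 : LinearMap.range (dotProductEquiv K (Fin 3) φ) = ⊤ := by
      refine LinearMap.range_eq_top.mpr fun c => ⟨c • a, ?_⟩
      rw [map_smul, dotProductEquiv_apply_apply, h.dot, smul_eq_mul, mul_one]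
    rw [h2, finrank_top, finrank_self, finrank_fin_fun, ← hW] at h1
    omega
  let b : Basis (Fin 2) K W := Module.finBasisOfFinrankEq K W hW2
  have hpres : ∀ x : cenG G g, ∀ w ∈ W,
      ((x : GL (Fin 3) K) : Matrix (Fin 3) (Fin 3) K) *ᵥ w ∈ W := fun x w hw => by
    rw [hmW] at hw ⊢
    have h1 : (g : Matrix (Fin 3) (Fin 3) K) *ᵥ (((x : GL (Fin 3) K) : Matrix (Fin 3) (Fin 3) K) *ᵥ w) =
        l • (((x : GL (Fin 3) K) : Matrix (Fin 3) (Fin 3) K) *ᵥ w) := by
      rw [← gl_mul_mulVec, ← (mem_cenG.mp x.2).2.eq, gl_mul_mulVec, h.axis hw, mulVec_smul]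
    rw [h.mulVec_eq, add_eq_left, smul_eq_zero] at h1
    exact (mul_eq_zero.mp (h1.resolve_right h.ne_zero)).resolve_left h.diff_ne
  let R : cenG G g → (W →ₗ[K] W) := fun x =>
    (Matrix.toLin' ((x : GL (Fin 3) K) : Matrix (Fin 3) (Fin 3) K)).restrict
      (fun w hw => by rw [Matrix.toLin'_apply]; exact hpres x w hw)
  have hR : ∀ x w, (R x w : Fin 3 → K) =
      ((x : GL (Fin 3) K) : Matrix (Fin 3) (Fin 3) K) *ᵥ (w : Fin 3 → K) := fun x w => by
    simp [R]
  let A : cenG G g →* Matrix (Fin 2) (Fin 2) K :=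
    { toFun := fun x => LinearMap.toMatrix b b (R x)
      map_one' := by
        rw [show R 1 = LinearMap.id from LinearMap.ext fun w => Subtype.ext (by simp [hR]),
          LinearMap.toMatrix_id]
      map_mul' := fun x y => by
        rw [← LinearMap.toMatrix_comp]
        congr 1
        exact LinearMap.ext fun w => Subtype.ext (by simp [hR, gl_mul_mulVec]) }
  refine ⟨f.comp A.toHomUnits, fun x => ?_⟩
  rw [MonoidHom.comp_apply, hf]
  constructor
  · rintro ⟨c, hc⟩
    have hax : ∀ w, φ ⬝ᵥ w = 0 → ((x : GL (Fin 3) K) : Matrix (Fin 3) (Fin 3) K) *ᵥ w = c • w := by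
      intro w hw
      have e : R x = c • LinearMap.id := by
        apply (LinearMap.toMatrix b b).injective
        rw [map_smul, LinearMap.toMatrix_id, ← hc]
        rfl
      have := congrArg (fun T : W →ₗ[K] W => (T ⟨w, (hmW w).mpr hw⟩ : Fin 3 → K)) e
      simpa [hR] using this
    have hxa := h.comm_centre (mem_cenG.mp x.2).2
    generalize φ ⬝ᵥ (((x : GL (Fin 3) K) : Matrix (Fin 3) (Fin 3) K) *ᵥ a) = d at hxa
    have hM : ((x : GL (Fin 3) K) : Matrix (Fin 3) (Fin 3) K) = c • 1 + (d - c) • vecMulVec a φ := by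
      refine Matrix.mulVec_injective (funext fun w => ?_)
      have h0 : φ ⬝ᵥ (w - (φ ⬝ᵥ w) • a) = 0 := by
        rw [dotProduct_sub, dotProduct_smul, h.dot, smul_eq_mul, mul_one, sub_self]
      have := hax _ h0
      rw [mulVec_sub, mulVec_smul, hxa] at this
      rw [add_mulVec, smul_mulVec, smul_mulVec, one_mulVec, vecMulVec_mulVec, op_smul_eq_smul]
      linear_combination (norm := module) this
    have hd := hSL _ (mem_cenG.mp x.2).1
    have hc0 : c ≠ 0 := fun e => by
      rw [hM, e, zero_smul, zero_add, Matrix.det_fin_three] at hd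
      simp [vecMulVec_apply] at hd
      apply zero_ne_one (α := K)
      linear_combination hd
    rw [hM, show c • (1 : Matrix (Fin 3) (Fin 3) K) + (d - c) • vecMulVec a φ =
        c • (1 + vecMulVec (((d - c) / c) • a) φ) by
      rw [smul_add, smul_vecMulVec, smul_smul, mul_div_cancel₀ _ hc0], det_smul,
      vecMulVec_eq Unit, det_one_add_replicateCol_mul_replicateRow, dotProduct_smul, h.dot,
      Fintype.card_fin, smul_eq_mul] at hd
    refine ⟨(mem_cenG.mp x.2).1, c, hc0, ?_⟩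
    rw [hM, homMat, show (c ^ 2)⁻¹ = d by field_simp at hd ⊢; linear_combination -hd]
  · rintro ⟨-, c, -, hc⟩
    refine ⟨c, ?_⟩
    show LinearMap.toMatrix b b (R x) = c • 1
    rw [show R x = c • LinearMap.id from LinearMap.ext fun w => Subtype.ext (by
      rw [hR, hc, homMat_mulVec_axis ((hmW _).mp w.2)]; rfl), map_smul, LinearMap.toMatrix_id]

end Cfsg.Agent.Lib.Mitchell3
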