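import Cfsg.Agent.Lib.Mitchell3.Root
import Cfsg.Agent.Lib.Mitchell3.PGLTwo

/-!
Mitchell package: a perfect cover of `PSL(2, r)` by scalars of order dividing three is trivial unless
`r` is a power of three different from the characteristic.
-/

set_option autoImplicit false
set_option linter.unusedSectionVars false
set_option linter.style.haveILetI false

namespace Cfsg.Agent.Lib.Mitchell3

open Matrix

variable {K : Type*} [Field K] {P : Subgroup (GL (Fin 3) K)} [Finite P]
variable {E : Type} [Field E] [Fintype E]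
variable {p : ℕ} [Fact p.Prime] [CharP K p] {α : ℕ}

theorem cover_injective {T : Type*} [Group T] (π : P →* T) (h : Hyp p α π) (hperf : commutator P = ⊤)
    (φ : T →* Matrix.ProjectiveSpecialLinearGroup (Fin 2) E) (hφ : Function.Injective φ)
    {s : ℕ} [Fact s.Prime] [CharP E s] (hs : s ≠ 2) (hbad : s ≠ 3 ∨ s = p) : Function.Injective π := by
  classical
  refine (injective_iff_map_eq_one π).mpr fun z hz => ?_
  by_cases hp3 : p = 3
  · exact h.sc_eq_one hz Nat.prime_three (h.cube hz) (Or.inr hp3.symm)
  have hs3 : s ≠ 3 := fun e => hp3 (by rcases hbad with e' | e' <;> omega)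
  haveI : Fact (Nat.Prime 3) := ⟨Nat.prime_three⟩
  let S : Sylow 3 P := default
  set ψ : (S : Subgroup P) →* Matrix.ProjectiveSpecialLinearGroup (Fin 2) E :=
    φ.comp (π.comp (S : Subgroup P).subtype) with hψ
  have hloc : LocFin E := fun _ => ⟨⊤, inferInstance, by simp⟩
  haveI : Finite ψ.range := inferInstance
  have hpg : IsPGroup 3 ψ.range := (S.isPGroup').of_surjective ψ.rangeRestrict ψ.rangeRestrict_surjective
  have hnd : ¬ s ∣ Nat.card ψ.range := by
    obtain ⟨n, hn⟩ := IsPGroup.iff_card.mp hpg
    rw [hn]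
    exact fun hd => hs3 ((Nat.prime_dvd_prime_iff_eq Fact.out Nat.prime_three).mp ((Fact.out : s.Prime).dvd_of_dvd_pow hd))
  have hcyc : IsCyclic ψ.range := by
    obtain ⟨n, hn⟩ := IsPGroup.iff_card.mp hpg
    have hodd : ¬ 2 ∣ Nat.card ψ.range := by
      rw [hn]; exact fun hd => absurd ((Nat.prime_dvd_prime_iff_eq Nat.prime_two Nat.prime_three).mp
        (Nat.prime_two.dvd_of_dvd_pow hd)) (by norm_num)
    rcases psl_two_cases hloc hs ψ.range hnd with ⟨C, hC, hi⟩ | h1 | h1 | ⟨⟨e⟩⟩
    · have h1 : C.index = 1 := by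
        have := C.index_ne_zero_of_finite
        rcases (by omega : C.index = 1 ∨ C.index = 2) with e | e
        · exact e
        · exact absurd ((dvd_of_eq e.symm).trans C.index_dvd_card) hodd
      rw [Subgroup.index_eq_one.mp h1] at hC
      exact (Subgroup.topEquiv.isCyclic).mp hC
    · exact absurd (by rw [h1]; norm_num) hodd
    · exact absurd (by rw [h1]; norm_num) hodd
    · exact absurd (by rw [Nat.card_congr e.toEquiv, Nat.card_perm, Nat.card_fin]; decide) hodd
  have hab : ∀ a b : (S : Subgroup P), a * b = b * a := by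
    haveI : IsCyclic ψ.range := hcyc
    refine commutative_of_cyclic_center_quotient ψ.rangeRestrict fun x hx => ?_
    rw [MonoidHom.mem_ker] at hx
    have h1 : π (x : P) = 1 := hφ (by
      rw [map_one]; exact congrArg Subtype.val hx)
    exact Subgroup.mem_center_iff.mpr fun y => Subtype.ext ((h.central h1 (y : P)).eq.symm)
  letI : CommGroup (S : Subgroup P) := { (inferInstance : Group (S : Subgroup P)) with mul_comm := hab }
  have hzS : z ∈ (S : Subgroup P) := by
    have hn : (Subgroup.zpowers z).Normal := ⟨fun x hx g => by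
      obtain ⟨k, rfl⟩ := Subgroup.mem_zpowers_iff.mp hx
      rw [((h.central hz g).symm.zpow_right k).eq, mul_inv_cancel_right]
      exact Subgroup.zpow_mem_zpowers z k⟩
    haveI := hn
    have hzp : IsPGroup 3 (Subgroup.zpowers z) := by
      rintro ⟨x, hx⟩
      obtain ⟨k, rfl⟩ := Subgroup.mem_zpowers_iff.mp hx
      exact ⟨1, Subtype.ext (by
        rw [pow_one, Subgroup.coe_pow, ← zpow_natCast, ← _root_.zpow_mul, mul_comm, _root_.zpow_mul,
          zpow_natCast, h.cube hz, _root_.one_zpow]; rfl)⟩
    have hsup := hzp.to_sup_of_normal_left S.isPGroup'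
    have heq := S.is_maximal' hsup le_sup_right
    exact heq ▸ Subgroup.mem_sup_left (Subgroup.mem_zpowers z)
  haveI : (S : Subgroup P).FiniteIndex := inferInstance
  set τ := MonoidHom.transfer (MonoidHom.id (S : Subgroup P))
  have hτ : τ z = 1 := by
    have hker : commutator P ≤ τ.ker := Abelianization.commutator_subset_ker τ
    rw [hperf] at hker
    exact hker (Subgroup.mem_top z)
  have hidx : z ^ (S : Subgroup P).index = 1 := by
    have key : ∀ (k : ℕ) (g₀ : P), g₀⁻¹ * z ^ k * g₀ ∈ (S : Subgroup P) → g₀⁻¹ * z ^ k * g₀ = z ^ k :=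
      fun k g₀ _ => by rw [((h.central hz g₀⁻¹).symm.pow_right k).eq, inv_mul_cancel_right]
    have := MonoidHom.transfer_eq_pow (MonoidHom.id (S : Subgroup P)) z key
    rw [show MonoidHom.transfer (MonoidHom.id (S : Subgroup P)) z = 1 from hτ] at this
    exact (congrArg Subtype.val this).symm
  have h3z := h.cube hz
  have hco : Nat.Coprime 3 (S : Subgroup P).index :=
    (Nat.prime_three.coprime_iff_not_dvd).mpr S.not_dvd_index
  have h1 : orderOf z ∣ Nat.gcd 3 (S : Subgroup P).index :=
    Nat.dvd_gcd (orderOf_dvd_of_pow_eq_one h3z) (orderOf_dvd_of_pow_eq_one hidx)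
  rw [hco] at h1
  exact orderOf_eq_one_iff.mp (Nat.dvd_one.mp h1)

end Cfsg.Agent.Lib.Mitchell3
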