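import Cfsg.Agent.Lib.Mitchell3.PSLTwo

/-!
Mitchell package: real elements and small orders in `PSL(2, r)`.
-/

set_option autoImplicit false
set_option linter.unusedSectionVars false
set_option linter.style.haveILetI false

namespace Cfsg.Agent.Lib.Mitchell3

open Matrix

variable {E : Type} [Field E] [Fintype E]

local notation "SL2" => Matrix.SpecialLinearGroup (Fin 2) E

/-- The trace of an element of `SL 2`. -/
def tr2 (s : Matrix.SpecialLinearGroup (Fin 2) E) : E := (s : Matrix (Fin 2) (Fin 2) E).trace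

theorem conj_eq_inv_of_trace {s w : SL2} (hw : tr2 w = 0) (hws : tr2 (w * s) = 0) : w * s * w⁻¹ = s⁻¹ := by
  have h1 := sq_eq w
  have h2 := sq_eq (w * s)
  rw [show (w : Matrix (Fin 2) (Fin 2) E).trace = 0 from hw, zero_smul, zero_sub,
    ← Matrix.SpecialLinearGroup.coe_mul] at h1
  rw [show ((w * s : SL2) : Matrix (Fin 2) (Fin 2) E).trace = 0 from hws, zero_smul, zero_sub,
    ← Matrix.SpecialLinearGroup.coe_mul] at h2
  have h3 : w * s * (w * s) = w * w := Subtype.ext (h2.trans h1.symm)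
  calc w * s * w⁻¹ = (w * s * (w * s)) * s⁻¹ * (w * w)⁻¹ := by group
    _ = (w * w) * s⁻¹ * (w * w)⁻¹ := by rw [h3]
    _ = s⁻¹ := by
      have hc : ∀ t : SL2, (w * w) * t = t * (w * w) := fun t => Subtype.ext (by
        rw [Matrix.SpecialLinearGroup.coe_mul (w * w), Matrix.SpecialLinearGroup.coe_mul t, h1]
        simp)
      rw [hc, mul_inv_cancel_right]

/-- Outside the parabolic elements every element is real. -/
theorem sl_real (hodd : Odd (Fintype.card E)) (s : SL2) (h : tr2 s ^ 2 ≠ 4 ∨ IsSquare (-1 : E)) :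
    ∃ w : SL2, w * s * w⁻¹ = s⁻¹ := by
  classical
  have h2 : (2 : E) ≠ 0 := by
    intro e
    have hc : ringChar E = 2 :=
      ((Nat.prime_dvd_prime_iff_eq (CharP.char_is_prime E (ringChar E)) Nat.prime_two).mp
        (ringChar.dvd (by exact_mod_cast e)))
    exact Nat.not_even_iff_odd.mpr hodd (Nat.even_iff.mpr (FiniteField.even_card_iff_char_two.mp hc))
  obtain ⟨a, b, c, d, hs, hd⟩ : ∃ a b c d : E, (s : Matrix (Fin 2) (Fin 2) E) = !![a, b; c, d] ∧ a * d - b * c = 1 := by
    obtain ⟨A, hA⟩ := s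
    exact ⟨A 0 0, A 0 1, A 1 0, A 1 1, Matrix.eta_fin_two A, by rw [Matrix.det_fin_two] at hA; exact hA⟩
  have ht : tr2 s = a + d := by simp [tr2, hs, Matrix.trace_fin_two]
  -- a witness from the coordinates
  have mk : ∀ x y z : E, -(x * x) - y * z = 1 → x * (a - d) + y * c + z * b = 0 →
      ∃ w : SL2, w * s * w⁻¹ = s⁻¹ := by
    intro x y z h1 h3
    let w : SL2 := ⟨!![x, y; z, -x], by rw [Matrix.det_fin_two_of]; linear_combination h1⟩
    have hw : (w : Matrix (Fin 2) (Fin 2) E) = !![x, y; z, -x] := rfl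
    refine ⟨w, conj_eq_inv_of_trace ?_ ?_⟩
    · simp [tr2, hw, Matrix.trace_fin_two]
    · simp [tr2, hw, hs, Matrix.trace_fin_two, Matrix.mul_apply, Fin.sum_univ_two]
      linear_combination h3
  by_cases hb : b = 0
  · by_cases had : a = d
    · by_cases hc : c = 0
      · refine ⟨1, ?_⟩
        rw [one_mul, inv_one, mul_one]
        refine eq_inv_of_mul_eq_one_left (Subtype.ext ?_)
        rw [Matrix.SpecialLinearGroup.coe_mul, hs, Matrix.SpecialLinearGroup.coe_one]
        subst hb hc had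
        ext i j
        fin_cases i <;> fin_cases j <;> simp [Matrix.mul_apply, Fin.sum_univ_two] <;>
          linear_combination hd
      · obtain ⟨i, hi⟩ : IsSquare (-1 : E) := h.resolve_left (not_not.mpr (by
          rw [ht, ← had]; subst hb; linear_combination 4 * hd + 4 * a * had))
        exact mk i 0 0 (by linear_combination hi) (by rw [had]; ring)
    · by_cases hc : c = 0
      · exact mk 0 1 (-1) (by ring) (by rw [hb, hc]; ring)
      · have had' := sub_ne_zero_of_ne had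
        exact mk 1 (-(a - d) / c) (2 * c / (a - d)) (by field_simp; ring) (by rw [hb]; field_simp; ring)
  · set κ := ((a - d) ^ 2 + 4 * b * c) / (4 * b ^ 2) with hκ
    have hz : ∀ X y : E, -(X * X) + κ * (y * y) = 1 →
        ∃ w : SL2, w * s * w⁻¹ = s⁻¹ := by
      intro X y hXy
      have h4 : (4 : E) * b ^ 2 ≠ 0 := mul_ne_zero (by
        rw [show (4 : E) = 2 * 2 by norm_num]; exact mul_ne_zero h2 h2) (pow_ne_zero _ hb)
      have hk : κ * (4 * b ^ 2) = (a - d) ^ 2 + 4 * b * c := by rw [hκ, div_mul_cancel₀ _ h4]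
      refine mk (X + (a - d) * y / (2 * b)) y (-((X + (a - d) * y / (2 * b)) * (a - d) + y * c) / b) ?_
        (by field_simp; ring)
      apply mul_right_cancel₀ h4
      field_simp
      linear_combination 4 * ((4 * b ^ 2) * hXy - (y * y) * hk)
    by_cases hk0 : κ = 0
    · obtain ⟨i, hi⟩ : IsSquare (-1 : E) := h.resolve_left (not_not.mpr (by
        rw [hκ, div_eq_zero_iff] at hk0
        rcases hk0 with e | e
        · rw [ht]; linear_combination e + 4 * hd
        · exfalso
          rcases mul_eq_zero.mp e with e1 | e1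
          · exact h2 (pow_eq_zero_iff two_ne_zero |>.mp (by linear_combination e1 : (2 : E) ^ 2 = 0))
          · exact hb (pow_eq_zero_iff two_ne_zero |>.mp e1)))
      exact hz i 0 (by linear_combination hi)
    · have hc : Fintype.card E % 2 = 1 := Nat.odd_iff.mp hodd
      obtain ⟨X, y, hXy⟩ := FiniteField.exists_root_sum_quadratic
        (f := Polynomial.C (-1 : E) * Polynomial.X ^ 2 + Polynomial.C 0 * Polynomial.X + Polynomial.C (-1))
        (g := Polynomial.C κ * Polynomial.X ^ 2 + Polynomial.C 0 * Polynomial.X + Polynomial.C 0)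
        (Polynomial.degree_quadratic (neg_ne_zero.mpr one_ne_zero)) (Polynomial.degree_quadratic hk0) hc
      simp at hXy
      exact hz X y (by linear_combination hXy)

section Orders

local notation "PSL2" => Matrix.ProjectiveSpecialLinearGroup (Fin 2) E

theorem mk_pow_eq_one {s : SL2} {n : ℕ} {c : E} (h : (s : Matrix (Fin 2) (Fin 2) E) ^ n = c • 1) :
    (QuotientGroup.mk s : PSL2) ^ n = 1 := by
  rw [← QuotientGroup.mk_pow, QuotientGroup.eq_one_iff, Matrix.SpecialLinearGroup.mem_center_iff]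
  refine ⟨c, ?_, by rw [Matrix.SpecialLinearGroup.coe_pow, h, scalar_apply, smul_one_eq_diagonal]⟩
  have h1 := congrArg Matrix.det h
  rw [Matrix.det_pow, s.det_coe, one_pow, det_smul, det_one, mul_one] at h1
  exact h1.symm

theorem pow_two_of_trace {s : SL2} (h : tr2 s = 0) : (QuotientGroup.mk s : PSL2) ^ 2 = 1 :=
  mk_pow_eq_one (c := -1) (by
    rw [pow_two, sq_eq, show (s : Matrix (Fin 2) (Fin 2) E).trace = 0 from h, zero_smul, zero_sub, neg_smul,
      one_smul])

theorem pow_three_of_trace {s : SL2} (h : tr2 s ^ 2 = 1) : (QuotientGroup.mk s : PSL2) ^ 3 = 1 := by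
  set S := (s : Matrix (Fin 2) (Fin 2) E) with hS
  refine mk_pow_eq_one (c := -tr2 s) ?_
  have hsq : S * S = tr2 s • S - 1 := sq_eq s
  rw [pow_succ, pow_two, hsq, sub_mul, smul_mul_assoc, hsq, one_mul, smul_sub, smul_smul, ← pow_two, h]
  module

theorem pow_four_of_trace {s : SL2} (h : tr2 s ^ 2 = 2) : (QuotientGroup.mk s : PSL2) ^ 4 = 1 := by
  set S := (s : Matrix (Fin 2) (Fin 2) E) with hS
  refine mk_pow_eq_one (c := -1) ?_
  have hsq : S * S = tr2 s • S - 1 := sq_eq s
  rw [show S ^ 4 = (S * S) * (S * S) by rw [pow_succ, pow_succ, pow_two, mul_assoc, mul_assoc], hsq]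
  simp only [sub_mul, mul_sub, smul_mul_assoc, mul_smul_comm, one_mul, mul_one, smul_smul, hsq, smul_sub]
  match_scalars
  · linear_combination (tr2 s) * h
  · linear_combination -h

theorem pow_five_of_trace {s : SL2} (h : (tr2 s ^ 2) ^ 2 - 3 * tr2 s ^ 2 + 1 = 0) :
    (QuotientGroup.mk s : PSL2) ^ 5 = 1 := by
  set S := (s : Matrix (Fin 2) (Fin 2) E) with hS
  refine mk_pow_eq_one (c := -(tr2 s ^ 3 - 2 * tr2 s)) ?_
  have hsq : S * S = tr2 s • S - 1 := sq_eq s
  rw [show S ^ 5 = (S * S) * (S * S) * S by rw [pow_succ, pow_succ, pow_succ, pow_two, mul_assoc (S * S)], hsq]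
  simp only [sub_mul, mul_sub, smul_mul_assoc, mul_smul_comm, one_mul, mul_one, smul_smul, hsq, smul_sub]
  match_scalars
  · linear_combination h
  · ring

theorem pow_char_of_trace {r : ℕ} [Fact r.Prime] [CharP E r] (hr : r ≠ 2) {s : SL2} (h : tr2 s ^ 2 = 4) :
    (QuotientGroup.mk s : PSL2) ^ r = 1 := by
  set S := (s : Matrix (Fin 2) (Fin 2) E) with hS
  have hr' : 2 ≤ r := (Fact.out : r.Prime).two_le
  have h2 : (2 : E) ≠ 0 := fun e => hr ((Nat.prime_dvd_prime_iff_eq Fact.out Nat.prime_two).mp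
    ((CharP.cast_eq_zero_iff E r 2).mp (by exact_mod_cast e)))
  set c := tr2 s / 2 with hc
  set N := S - c • 1 with hN
  have hsq : S * S = tr2 s • S - 1 := sq_eq s
  have hN2 : N * N = 0 := by
    rw [hN]
    simp only [sub_mul, mul_sub, smul_mul_assoc, mul_smul_comm, one_mul, mul_one, smul_smul, hsq]
    match_scalars
    · rw [hc]; field_simp; ring
    · rw [hc]; field_simp; linear_combination h
  refine mk_pow_eq_one (c := c ^ r) ?_
  show S ^ r = _
  rw [show S = c • 1 + N by rw [hN]; abel,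
    add_pow_char_of_commute r ((Commute.one_left N).smul_left c), smul_pow, one_pow,
    show N ^ r = 0 by
      obtain ⟨k, rfl⟩ : ∃ k, r = 2 + k := ⟨r - 2, by omega⟩
      rw [pow_add, pow_two, hN2, zero_mul],
    add_zero]

end Orders

/-- The orders in `PSL(2, 7)`. -/
theorem psl7_cases (hE : Fintype.card E = 7) (x : Matrix.ProjectiveSpecialLinearGroup (Fin 2) E) :
    x ^ 7 = 1 ∨ ((x ^ 2 = 1 ∨ x ^ 3 = 1 ∨ x ^ 4 = 1) ∧ ∃ w, w * x * w⁻¹ = x⁻¹) := by
  haveI : Fact (Nat.Prime 7) := ⟨by norm_num⟩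
  haveI : CharP E 7 := charP_of_card_eq_prime_pow (f := 1) (by rw [hE]; norm_num)
  obtain ⟨s, rfl⟩ := QuotientGroup.mk_surjective x
  by_cases h4 : tr2 s ^ 2 = 4
  · exact Or.inl (pow_char_of_trace (by norm_num) h4)
  refine Or.inr ⟨?_, ?_⟩
  · have h8 : tr2 s = 0 ∨ tr2 s ^ 2 = 1 ∨ tr2 s ^ 2 = 2 := by
      have hpow : tr2 s ^ 7 = tr2 s := by
        have := FiniteField.pow_card (tr2 s)
        rwa [hE] at this
      have h7 : (7 : E) = 0 := CharP.cast_eq_zero E 7
      have : tr2 s * ((tr2 s ^ 2 - 1) * ((tr2 s ^ 2 - 2) * (tr2 s ^ 2 - 4))) = 0 := by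
        linear_combination hpow + (-tr2 s ^ 5 + 2 * tr2 s ^ 3 - tr2 s) * h7
      rcases mul_eq_zero.mp this with e | e
      · exact Or.inl e
      rcases mul_eq_zero.mp e with e | e
      · exact Or.inr (Or.inl (sub_eq_zero.mp e))
      rcases mul_eq_zero.mp e with e | e
      · exact Or.inr (Or.inr (sub_eq_zero.mp e))
      · exact absurd (sub_eq_zero.mp e) h4
    rcases h8 with e | e | e
    · exact Or.inl (pow_two_of_trace e)
    · exact Or.inr (Or.inl (pow_three_of_trace e))
    · exact Or.inr (Or.inr (pow_four_of_trace e))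
  · obtain ⟨w, hw⟩ := sl_real (by rw [hE]; decide) s (Or.inl h4)
    exact ⟨QuotientGroup.mk w, by rw [← QuotientGroup.mk_inv, ← QuotientGroup.mk_mul, ← QuotientGroup.mk_mul, hw, QuotientGroup.mk_inv]⟩

/-- Every element of `PSL(2, r)`, `r ≡ 1 (mod 4)`, is real; in general the non-parabolic ones are. -/
theorem psl_real {r : ℕ} [Fact r.Prime] [CharP E r] (hr : r ≠ 2) (hodd : Odd (Fintype.card E))
    (x : Matrix.ProjectiveSpecialLinearGroup (Fin 2) E) (h : IsSquare (-1 : E) ∨ x ^ r ≠ 1) :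
    ∃ w, w * x * w⁻¹ = x⁻¹ := by
  obtain ⟨s, rfl⟩ := QuotientGroup.mk_surjective x
  obtain ⟨w, hw⟩ := sl_real hodd s (h.symm.imp_left fun h1 e => h1 (pow_char_of_trace hr e))
  exact ⟨QuotientGroup.mk w, by rw [← QuotientGroup.mk_inv, ← QuotientGroup.mk_mul, ← QuotientGroup.mk_mul, hw, QuotientGroup.mk_inv]⟩

/-- The orders in `PSL(2, 9)`. -/
theorem psl9_cases (hE : Fintype.card E = 9) (x : Matrix.ProjectiveSpecialLinearGroup (Fin 2) E) :
    (x ^ 3 = 1 ∨ x ^ 2 = 1 ∨ x ^ 4 = 1 ∨ x ^ 5 = 1) ∧ ∃ w, w * x * w⁻¹ = x⁻¹ := by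
  haveI : Fact (Nat.Prime 3) := ⟨Nat.prime_three⟩
  haveI : CharP E 3 := charP_of_card_eq_prime_pow (f := 2) (by rw [hE]; norm_num)
  have h3 : (3 : E) = 0 := CharP.cast_eq_zero E 3
  refine ⟨?_, psl_real (r := 3) (by norm_num) (by rw [hE]; decide) x (Or.inl ?_)⟩
  · obtain ⟨s, rfl⟩ := QuotientGroup.mk_surjective x
    have hpow : tr2 s ^ 9 = tr2 s := by
      have := FiniteField.pow_card (tr2 s)
      rwa [hE] at this
    have : tr2 s * ((tr2 s ^ 2 - 4) * ((tr2 s ^ 2 - 2) * ((tr2 s ^ 2) ^ 2 - 3 * tr2 s ^ 2 + 1))) = 0 := by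
      linear_combination hpow + (-3 * tr2 s ^ 7 + 9 * tr2 s ^ 5 - 10 * tr2 s ^ 3 + 3 * tr2 s) * h3
    rcases mul_eq_zero.mp this with e | e
    · exact Or.inr (Or.inl (pow_two_of_trace e))
    rcases mul_eq_zero.mp e with e | e
    · exact Or.inl (pow_char_of_trace (by norm_num) (sub_eq_zero.mp e))
    rcases mul_eq_zero.mp e with e | e
    · exact Or.inr (Or.inr (Or.inl (pow_four_of_trace (sub_eq_zero.mp e))))
    · exact Or.inr (Or.inr (Or.inr (pow_five_of_trace e)))
  · exact FiniteField.isSquare_neg_one_iff.mpr (by rw [hE]; decide)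

end Cfsg.Agent.Lib.Mitchell3
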