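import Cfsg.Agent.Lib.Mitchell3.Setup
import Cfsg.Prelude.Def_GeometricClasses

/-!
Mitchell package: traces of elements of determinant one in three dimensions.
-/

set_option autoImplicit false
set_option linter.unusedSectionVars false
set_option linter.style.haveILetI false

namespace Cfsg.Agent.Lib.Mitchell3

open Matrix

variable {K : Type*} [Field K]

/-- The trace. -/
def tr3 (g : GL (Fin 3) K) : K := (g : Matrix (Fin 3) (Fin 3) K).trace

theorem ch3 {R : Type*} [CommRing R] (M : Matrix (Fin 3) (Fin 3) R) :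
    M * M * M = M.trace • (M * M) - M.adjugate.trace • M + M.det • 1 := by
  rw [Matrix.adjugate_fin_three, Matrix.det_fin_three]
  ext i j
  fin_cases i <;> fin_cases j <;>
    simp [Matrix.mul_apply, Fin.sum_univ_three, Matrix.trace_fin_three] <;> ring

theorem trace_mul_self {R : Type*} [CommRing R] (M : Matrix (Fin 3) (Fin 3) R) :
    (M * M).trace = M.trace ^ 2 - 2 * M.adjugate.trace := by
  rw [Matrix.adjugate_fin_three]
  simp [Matrix.mul_apply, Fin.sum_univ_three, Matrix.trace_fin_three]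
  ring

theorem adjugate_eq_inv {g : GL (Fin 3) K} (hd : (g : Matrix (Fin 3) (Fin 3) K).det = 1) :
    (g : Matrix (Fin 3) (Fin 3) K).adjugate = ((g⁻¹ : GL (Fin 3) K) : Matrix (Fin 3) (Fin 3) K) := by
  rw [Matrix.coe_units_inv, Matrix.inv_def, hd, Ring.inverse_one, one_smul]

theorem ch_gl {g : GL (Fin 3) K} (hd : (g : Matrix (Fin 3) (Fin 3) K).det = 1) :
    (g : Matrix (Fin 3) (Fin 3) K) * g * g =
      tr3 g • ((g : Matrix (Fin 3) (Fin 3) K) * g) - tr3 g⁻¹ • (g : Matrix (Fin 3) (Fin 3) K) + 1 := by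
  rw [ch3, adjugate_eq_inv hd, hd, one_smul]
  rfl

theorem tr3_sq {g : GL (Fin 3) K} (hd : (g : Matrix (Fin 3) (Fin 3) K).det = 1) :
    tr3 (g * g) = tr3 g ^ 2 - 2 * tr3 g⁻¹ := by
  show ((g * g : GL (Fin 3) K) : Matrix (Fin 3) (Fin 3) K).trace = _
  rw [Units.val_mul, trace_mul_self, adjugate_eq_inv hd]
  rfl

theorem tr3_one : tr3 (1 : GL (Fin 3) K) = 3 := by simp [tr3]

theorem tr3_conj (w g : GL (Fin 3) K) : tr3 (w * g * w⁻¹) = tr3 g := by
  show ((w * g * w⁻¹ : GL (Fin 3) K) : Matrix (Fin 3) (Fin 3) K).trace = _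
  rw [Units.val_mul, Units.val_mul, Matrix.trace_units_conj]
  rfl

theorem tr3_smul {z g : GL (Fin 3) K} {c : K} (hz : (z : Matrix (Fin 3) (Fin 3) K) = c • 1) :
    tr3 (z * g) = c * tr3 g := by
  show ((z * g : GL (Fin 3) K) : Matrix (Fin 3) (Fin 3) K).trace = _
  rw [Units.val_mul, hz, smul_mul_assoc, one_mul, trace_smul]
  rfl

/-- The trace of a `p`-th power. -/
theorem trace_pow_char {p : ℕ} [hp : Fact p.Prime] [CharP K p] (M : Matrix (Fin 3) (Fin 3) K) :
    (M ^ p).trace = M.trace ^ p := by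
  have hexp : Polynomial.expand K p (M ^ p).charpoly = M.charpoly ^ p := by
    rw [Matrix.charpoly, Matrix.charpoly]
    rw [AlgHom.map_det, ← Matrix.det_pow]
    congr 1
    rw [show M.charmatrix = Matrix.scalar (Fin 3) (Polynomial.X : Polynomial K) -
        Polynomial.C.mapMatrix M from rfl,
      sub_pow_char_of_commute p ((Matrix.scalar_commute _ (fun _ => Commute.all _ _) _)),
      ← map_pow, ← map_pow]
    ext i j
    simp only [AlgHom.mapMatrix_apply, Matrix.map_apply, Matrix.charmatrix_apply, Matrix.sub_apply,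
      Matrix.scalar_apply, RingHom.mapMatrix_apply, map_sub, Polynomial.expand_C]
    by_cases hij : i = j <;> simp [hij]
  rw [← Polynomial.map_frobenius_expand, Polynomial.map_expand] at hexp
  have h2 := Polynomial.expand_injective hp.out.pos hexp
  rw [Matrix.trace_eq_neg_charpoly_coeff, Matrix.trace_eq_neg_charpoly_coeff, h2, Polynomial.coeff_map,
    frobenius_def, neg_pow, neg_one_pow_char, neg_one_mul]

theorem tr3_pow_char {p : ℕ} [Fact p.Prime] [CharP K p] (g : GL (Fin 3) K) :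
    tr3 (g ^ p) = tr3 g ^ p := by
  show ((g ^ p : GL (Fin 3) K) : Matrix (Fin 3) (Fin 3) K).trace = _
  rw [Units.val_pow_eq_pow_val, trace_pow_char]
  rfl

theorem tr3_pow_char_pow {p : ℕ} [Fact p.Prime] [CharP K p] (g : GL (Fin 3) K) (k : ℕ) :
    tr3 (g ^ p ^ k) = tr3 g ^ p ^ k := by
  induction k with
  | zero => simp
  | succ k ih => rw [pow_succ, pow_mul, tr3_pow_char, ih, ← pow_mul]

/-- Unipotent elements have trace three. -/
theorem tr3_unip {p : ℕ} [hp : Fact p.Prime] [CharP K p] {g : GL (Fin 3) K} {k : ℕ} (hg : g ^ p ^ k = 1) :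
    tr3 g = 3 := by
  have h := tr3_pow_char_pow (p := p) g k
  rw [hg, tr3_one] at h
  have h3 : (3 : K) ^ p ^ k = 3 := by
    rw [show (3 : K) = ((3 : ℕ) : K) by norm_num, ← iterateFrobenius_def, map_natCast]
  have h0 : (tr3 g - 3) ^ p ^ k = 0 := by rw [sub_pow_char_pow, ← h, h3, sub_self]
  exact sub_eq_zero.mp (pow_eq_zero_iff (pow_ne_zero _ hp.out.ne_zero) |>.mp h0)

section Small

variable {g : GL (Fin 3) K} (hd : (g : Matrix (Fin 3) (Fin 3) K).det = 1)
include hd

theorem tr3_invol (h2 : g * g = 1) (hne : g ≠ 1) : tr3 g = -1 := by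
  have hinv : g⁻¹ = g := inv_eq_of_mul_eq_one_right h2
  have h := ch_gl hd
  rw [hinv, ← Units.val_mul, h2, Units.val_one, one_mul] at h
  have hz : (tr3 g + 1) • ((1 : Matrix (Fin 3) (Fin 3) K) - g) = 0 := by
    rw [← sub_eq_zero.mpr h.symm]; module
  rcases smul_eq_zero.mp hz with e | e
  · exact eq_neg_of_add_eq_zero_left e
  · exact absurd (Units.ext (sub_eq_zero.mp e).symm) hne

theorem tr3_order_three (h3 : g * g * g = 1) (hne : g ≠ 1) (hr : tr3 g⁻¹ = tr3 g) : tr3 g = 0 := by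
  have h := ch_gl hd
  rw [hr, ← Units.val_mul, ← Units.val_mul, h3, Units.val_one, Units.val_mul] at h
  have hz : tr3 g • ((g : Matrix (Fin 3) (Fin 3) K) * g - g) = 0 := by
    rw [← sub_eq_zero.mpr h.symm]; module
  refine (smul_eq_zero.mp hz).resolve_right fun e => hne ?_
  have e' : g * g = g := Units.ext (sub_eq_zero.mp e)
  exact mul_eq_left.mp e'

theorem tr3_order_four (h4 : (g * g) * (g * g) = 1) (hne : g * g ≠ 1) (hr : tr3 g⁻¹ = tr3 g) :
    tr3 g = 1 := by
  have hd2 : ((g * g : GL (Fin 3) K) : Matrix (Fin 3) (Fin 3) K).det = 1 := by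
    rw [Units.val_mul, det_mul, hd, one_mul]
  have h := tr3_sq hd
  rw [tr3_invol hd2 h4 hne, hr] at h
  have hz : (tr3 g - 1) ^ 2 = 0 := by linear_combination -h
  exact sub_eq_zero.mp (pow_eq_zero_iff two_ne_zero |>.mp hz)

/-- An element conjugate to a non-trivial scalar multiple of itself. -/
theorem twisted {w : GL (Fin 3) K} {ω : K} (hω : ω ≠ 1)
    (hw : ((w * g * w⁻¹ : GL (Fin 3) K) : Matrix (Fin 3) (Fin 3) K) = ω • (g : Matrix (Fin 3) (Fin 3) K)) :
    tr3 g = 0 ∧ tr3 g⁻¹ = 0 ∧ g * g * g = 1 := by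
  have hω0 : ω ≠ 0 := fun e => by
    rw [e, zero_smul] at hw
    exact (w * g * w⁻¹).ne_zero hw
  have h1 : tr3 g = 0 := by
    have h := tr3_conj w g
    rw [tr3, hw, trace_smul, smul_eq_mul] at h
    have : (ω - 1) * tr3 g = 0 := by rw [sub_mul, one_mul]; exact sub_eq_zero.mpr h
    exact (mul_eq_zero.mp this).resolve_left (sub_ne_zero_of_ne hω)
  have h2 : tr3 g⁻¹ = 0 := by
    have e : ((w * g⁻¹ * w⁻¹ : GL (Fin 3) K) : Matrix (Fin 3) (Fin 3) K) =
        ω⁻¹ • ((g⁻¹ : GL (Fin 3) K) : Matrix (Fin 3) (Fin 3) K) := by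
      have e1 : (w * g * w⁻¹) * (w * g⁻¹ * w⁻¹) = 1 := by group
      have e2 := congrArg Units.val e1
      rw [Units.val_mul, hw, smul_mul_assoc, Units.val_one] at e2
      have e3 := congrArg (fun X => ω⁻¹ • ((((g⁻¹ : GL (Fin 3) K)) : Matrix (Fin 3) (Fin 3) K) * X)) e2
      simp only [mul_smul_comm, smul_smul, inv_mul_cancel₀ hω0, one_smul, ← mul_assoc, ← Units.val_mul,
        inv_mul_cancel, Units.val_one, one_mul, mul_one] at e3
      exact e3
    have h := tr3_conj w g⁻¹
    rw [tr3, e, trace_smul, smul_eq_mul] at h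
    have : (ω⁻¹ - 1) * tr3 g⁻¹ = 0 := by rw [sub_mul, one_mul]; exact sub_eq_zero.mpr h
    exact (mul_eq_zero.mp this).resolve_left (sub_ne_zero_of_ne (by simpa using hω))
  refine ⟨h1, h2, Units.ext ?_⟩
  rw [Units.val_mul, Units.val_mul, ch_gl hd, h1, h2, zero_smul, zero_smul, sub_zero, zero_add, Units.val_one]

/-- Four equal traces of the powers of an element of order dividing five. -/
theorem eq_one_of_five_traces (h3 : (3 : K) ≠ 0) (h5 : (5 : K) ≠ 0) (hg : g ^ 5 = 1)
    (t2 : tr3 (g * g) = tr3 g) (t3 : tr3 (g * g * g) = tr3 g) (t4 : tr3 g⁻¹ = tr3 g) : g = 1 := by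
  have e2 := tr3_sq hd
  rw [t2, t4] at e2
  have e3 : tr3 (g * g * g) = tr3 g * tr3 (g * g) - tr3 g * tr3 g + 3 := by
    show ((g * g * g : GL (Fin 3) K) : Matrix (Fin 3) (Fin 3) K).trace = _
    rw [Units.val_mul, Units.val_mul, ch_gl hd, t4, trace_add, trace_sub, trace_smul, trace_smul, trace_one,
      Fintype.card_fin]
    simp [tr3]
  rw [t3, t2, sub_self, zero_add] at e3
  set N : Matrix (Fin 3) (Fin 3) K := (g : Matrix (Fin 3) (Fin 3) K) - 1 with hN
  have hgN : (g : Matrix (Fin 3) (Fin 3) K) = 1 + N := by rw [hN]; abel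
  have hN3 : N * N * N = 0 := by
    have h := ch_gl hd
    rw [t4, e3, ← sub_eq_zero] at h
    rw [← h, hN]
    simp only [sub_mul, mul_sub, one_mul, mul_one]
    module
  have h' : (1 + N) ^ 5 = 1 := by rw [← hgN, ← Units.val_pow_eq_pow_val, hg, Units.val_one]
  have e : (1 + N) ^ 5 = 1 + (5 : K) • N + (10 : K) • (N * N) := by
    have : (1 + N) ^ 5 = 1 + 5 * N + 10 * (N * N) + N * N * N * (10 + 5 * N + N * N) := by noncomm_ring
    rw [this, hN3, zero_mul, add_zero, Algebra.smul_def, Algebra.smul_def, map_ofNat, map_ofNat]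
  rw [e, add_assoc, add_eq_left] at h'
  have hN2 : N * N = 0 := by
    have h2 := congrArg (fun M => M * N) h'
    simp only [add_mul, smul_mul_assoc, zero_mul, hN3, smul_zero, add_zero] at h2
    exact (smul_eq_zero.mp h2).resolve_left h5
  rw [hN2, smul_zero, add_zero] at h'
  exact Units.ext (by rw [hgN, (smul_eq_zero.mp h').resolve_left h5, add_zero, Units.val_one])

end Small

/-- Traces in the field with `p ^ d` elements bound the degree when no proper subfield realises. -/
theorem degree_dvd {F : Type*} [Field F] [Fintype F] {p α d : ℕ} [Fact p.Prime] [CharP F p]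
    (hF : Fintype.card F = p ^ α) {Q : Subgroup (GL (Fin 3) F)}
    (hreal : ∀ F₀ : Subfield F, (∀ x ∈ Q, tr3 x ∈ F₀) → F₀ = ⊤)
    (htr : ∀ x ∈ Q, tr3 x ^ p ^ d = tr3 x) : α ∣ d := by
  classical
  set F₀ := (iterateFrobenius F p d).eqLocusField (RingHom.id F)
  have hmem : ∀ x, x ∈ F₀ ↔ x ^ p ^ d = x := fun x => by
    show iterateFrobenius F p d x = RingHom.id F x ↔ _
    rw [iterateFrobenius_def]; rfl
  have htop := hreal F₀ fun x hx => (hmem _).mpr (htr x hx)
  have hfix : ∀ t : F, t ^ p ^ d = t := fun t => (hmem t).mp (htop ▸ Subfield.mem_top t)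
  have hp : p.Prime := Fact.out
  have hα : α ≠ 0 := by
    rintro rfl
    have := Fintype.one_lt_card (α := F)
    rw [hF, pow_zero] at this
    exact lt_irrefl _ this
  have hit : ∀ (m : ℕ) (t : F), t ^ p ^ (α * m) = t := fun m t => by
    induction m with
    | zero => simp
    | succ m ih => rw [Nat.mul_succ, pow_add, pow_mul, ih, ← hF, FiniteField.pow_card]
  have hrem : ∀ t : F, t ^ p ^ (d % α) = t := fun t => by
    conv_rhs => rw [← hfix t, ← Nat.div_add_mod d α, pow_add, pow_mul, hit]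
  refine Nat.dvd_of_mod_eq_zero ?_
  by_contra hne
  have hlt : d % α < α := Nat.mod_lt _ (Nat.pos_of_ne_zero hα)
  have hpos : 1 < p ^ (d % α) := Nat.one_lt_pow hne hp.one_lt
  have hle : (Finset.univ : Finset F) ⊆
      (Polynomial.X ^ p ^ (d % α) - Polynomial.X : Polynomial F).roots.toFinset := fun t _ => by
    rw [Multiset.mem_toFinset, Polynomial.mem_roots (FiniteField.X_pow_card_sub_X_ne_zero F hpos)]
    simp [hrem t]
  have h1 := (Finset.card_le_card hle).trans ((Multiset.toFinset_card_le _).trans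
    (Polynomial.card_roots' _))
  rw [Finset.card_univ, hF, FiniteField.X_pow_card_sub_X_natDegree_eq F hpos] at h1
  exact absurd (Nat.pow_le_pow_iff_right hp.one_lt |>.mp h1) (by omega)

end Cfsg.Agent.Lib.Mitchell3
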