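import Cfsg.Agent.Lib.Mitchell3.RootCases
import Cfsg.Agent.Lib.Mitchell3.Trace
import Cfsg.Agent.Lib.Mitchell3.Cover
import Cfsg.Agent.Lib.Mitchell3.PSLElts
import Cfsg.Agent.Lib.Mitchell3.AltElts
import Cfsg.Agent.Lib.Linear.SmallIso.PSL9

/-!
Mitchell package: the traces of the transvection-free cores with socle `PSL(2, r)` and `A₇`.
-/

set_option autoImplicit false
set_option linter.unusedSectionVars false
set_option linter.style.haveILetI false

namespace Cfsg.Agent.Lib.Mitchell3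

open Matrix

variable {K : Type*} [Field K] {P : Subgroup (GL (Fin 3) K)}
variable {p : ℕ} [Fact p.Prime] [CharP K p] {α : ℕ}

/-- `g ^ p` has the trace of `g`, or of its inverse, expressed for the value of the trace. -/
theorem tr3_pow_eq {g : GL (Fin 3) K} {h : GL (Fin 3) K} (he : tr3 (g ^ p) = tr3 h) :
    tr3 g ^ p = tr3 h := (tr3_pow_char g).symm.trans he

theorem pow_mod_of_pow_eq_one {G : Type*} [Monoid G] {g : G} {n : ℕ} (h : g ^ n = 1) (k : ℕ) :
    g ^ k = g ^ (k % n) := pow_eq_pow_mod k h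

section Gen

variable {T : Type*} [Group T] (θ : P →* T) (hθ : Function.Surjective θ) (h : Hyp p α θ)
include hθ h

/-- An element of order prime to three is a scalar times an exact lift. -/
theorem exists_split {g : P} {n : ℕ} (hn : n % 3 ≠ 0) (hg : θ g ^ n = 1) :
    ∃ (X : P) (c : K), c ^ 3 = 1 ∧ (X : GL (Fin 3) K) ^ n = 1 ∧
      tr3 (g : GL (Fin 3) K) = c * tr3 (X : GL (Fin 3) K) ∧
      tr3 (g : GL (Fin 3) K)⁻¹ = c⁻¹ * tr3 (X : GL (Fin 3) K)⁻¹ ∧
      ((X : GL (Fin 3) K) = 1 → θ g = 1) ∧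
      ∀ (v : T) (j : ℕ), v * θ g * v⁻¹ = θ g ^ j → ∃ W : GL (Fin 3) K,
        W * (X : GL (Fin 3) K) * W⁻¹ = (X : GL (Fin 3) K) ^ j := by
  obtain ⟨X, hX, hXn, hXc⟩ := exists_lift (π := θ) h.sl h.ker (y := θ g) ⟨g, rfl⟩ hn hg
  have hz : θ (g * X⁻¹) = 1 := by rw [map_mul, map_inv, hX, mul_inv_cancel]
  obtain ⟨c, hc⟩ := (h.ker _).mp hz
  have hc3 : c ^ 3 = 1 := by
    have e := congrArg (fun z : P => ((z : GL (Fin 3) K) : Matrix (Fin 3) (Fin 3) K)) (h.cube hz)
    simp only [Subgroup.coe_pow, Units.val_pow_eq_pow_val, hc, smul_pow, one_pow, Subgroup.coe_one,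
      Units.val_one] at e
    simpa using congrFun (congrFun e 0) 0
  have hc0 : c ≠ 0 := fun e => by simp [e] at hc3
  have hge : (g : GL (Fin 3) K) = ((g * X⁻¹ : P) : GL (Fin 3) K) * (X : GL (Fin 3) K) := by
    rw [← Subgroup.coe_mul, inv_mul_cancel_right]
  refine ⟨X, c, hc3, by rw [← Subgroup.coe_pow, hXn, Subgroup.coe_one], ?_, ?_, ?_, fun v j hv => ?_⟩
  · conv_lhs => rw [hge]
    exact tr3_smul hc
  · have hinv : ((((g * X⁻¹ : P) : GL (Fin 3) K))⁻¹ : GL (Fin 3) K).val = c⁻¹ • 1 := by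
      refine Matrix.coe_units_inv _ |>.trans (Matrix.inv_eq_right_inv ?_)
      rw [hc, smul_mul_smul_comm, mul_inv_cancel₀ hc0, one_smul, one_mul]
    conv_lhs => rw [hge, _root_.mul_inv_rev, ← (sc_commute ⟨c⁻¹, hinv⟩ _).eq]
    exact tr3_smul hinv
  · intro e
    rw [← hX, show X = 1 from Subtype.ext e, map_one]
  · obtain ⟨W, rfl⟩ := hθ v
    exact ⟨W, by simpa using congrArg (fun z : P => (z : GL (Fin 3) K)) (hXc W j hv)⟩

end Gen

section PSL

variable {E : Type} [Field E] [Fintype E]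

/-- An element of `s`-power order is conjugate into the root group, `|E| = s ^ b`. -/
theorem exists_conj_root {G : Type*} [Group G] [Finite G] {s : ℕ} [Fact s.Prime] {b : ℕ}
    (hE : Fintype.card E = s ^ b) [CharP E s] (ι : Multiplicative E →* G) (hι : Function.Injective ι)
    (hcard : ¬ s ∣ Nat.card G / s ^ b) {x : G} (hx : x ^ s = 1) :
    ∃ (w : G) (t : E), x = w * ι (Multiplicative.ofAdd t) * w⁻¹ := by
  have hci : Nat.card ι.range = s ^ b := by
    rw [← Nat.card_congr (MonoidHom.ofInjective hι).toEquiv, Nat.card_congr Multiplicative.toAdd,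
      Nat.card_eq_fintype_card, hE]
  have hdvd : s ^ b ∣ Nat.card G := hci ▸ Subgroup.card_subgroup_dvd_card _
  have hfac : (Nat.card G).factorization s = b := by
    obtain ⟨m, hm⟩ := hdvd
    have hs := (Fact.out : s.Prime)
    have hm0 : m ≠ 0 := fun e => by
      rw [e, mul_zero] at hm; exact Nat.card_pos.ne' hm
    rw [hm, Nat.mul_div_cancel_left m (pow_pos hs.pos b)] at hcard
    rw [hm, Nat.factorization_mul (pow_ne_zero _ hs.ne_zero) hm0, Finsupp.add_apply,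
      Nat.factorization_eq_zero_of_not_dvd hcard, add_zero, hs.factorization_pow, Finsupp.single_eq_same]
  let S : Sylow s G := Sylow.ofCard ι.range (by rw [hci, hfac])
  have hxp : IsPGroup s (Subgroup.zpowers x) := by
    rintro ⟨z, hz⟩
    obtain ⟨k, rfl⟩ := Subgroup.mem_zpowers_iff.mp hz
    exact ⟨1, Subtype.ext (by
      rw [pow_one, Subgroup.coe_pow, ← zpow_natCast, ← _root_.zpow_mul, mul_comm, _root_.zpow_mul,
        zpow_natCast, hx, _root_.one_zpow]; rfl)⟩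
  obtain ⟨Q, hQ⟩ := hxp.exists_le_sylow
  obtain ⟨w, rfl⟩ := MulAction.exists_smul_eq G S Q
  have hxQ := hQ (Subgroup.mem_zpowers x)
  rw [Sylow.coe_subgroup_smul, Subgroup.mem_pointwise_smul_iff_inv_smul_mem] at hxQ
  have : w⁻¹ * x * w ∈ ι.range := by
    simpa [S, Sylow.coe_ofCard, MulAut.smul_def, MulAut.conj_inv_apply] using hxQ
  obtain ⟨t, ht⟩ := this
  refine ⟨w, t.toAdd, ?_⟩
  show x = w * ι t * w⁻¹
  rw [ht]; group

theorem exists_conj_xr {s : ℕ} [Fact s.Prime] [CharP E s] (hs : s ≠ 2) {b : ℕ} (hE : Fintype.card E = s ^ b)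
    {x : Matrix.ProjectiveSpecialLinearGroup (Fin 2) E} (hx : x ^ s = 1) :
    ∃ (w : Matrix.ProjectiveSpecialLinearGroup (Fin 2) E) (t : E),
      x = w * Cfsg.Agent.Lib.AutPSL.xr 0 1 t * w⁻¹ := by
  let ι : Multiplicative E →* Matrix.ProjectiveSpecialLinearGroup (Fin 2) E :=
    MonoidHom.mk' (fun t => Cfsg.Agent.Lib.AutPSL.xr 0 1 t.toAdd) fun t u => by
      rw [toAdd_mul, Cfsg.Agent.Lib.AutPSL.xr_add (by decide)]
  refine exists_conj_root hE ι (fun t u e => ?_) ?_ hx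
  · exact Multiplicative.toAdd.injective (Cfsg.Agent.Lib.AutPSL.xr_injective le_rfl (by decide) e)
  · have hodd : Odd (Fintype.card E) := by rw [hE]; exact ((Fact.out : s.Prime).odd_of_ne_two hs).pow
    have h := Cfsg.Agent.Lib.Linear.two_mul_card_PSL_two_of_odd (F := E) hodd
    rw [hE] at h
    intro hd
    have hsp := (Fact.out : s.Prime)
    have h2 : s ∣ (s ^ b - 1) * (s ^ b + 1) := by
      have h3 : 2 * Nat.card (Matrix.ProjectiveSpecialLinearGroup (Fin 2) E) / s ^ b =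
          (s ^ b - 1) * (s ^ b + 1) := by
        rw [h, mul_assoc, Nat.mul_div_cancel_left _ (pow_pos hsp.pos b)]
      have hdv : s ^ b ∣ Nat.card (Matrix.ProjectiveSpecialLinearGroup (Fin 2) E) :=
        (Nat.Coprime.pow_left b ((Nat.coprime_primes hsp Nat.prime_two).mpr hs)).dvd_of_dvd_mul_left
          (h ▸ Dvd.intro _ (mul_assoc _ _ _).symm)
      rw [Nat.mul_div_assoc 2 hdv] at h3
      exact h3 ▸ Dvd.dvd.mul_left hd 2
    have hb : b ≠ 0 := by
      rintro rfl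
      have := Fintype.one_lt_card (α := E)
      rw [hE, pow_zero] at this
      exact lt_irrefl _ this
    have hsb : s ∣ s ^ b := dvd_pow_self s hb
    rcases hsp.dvd_mul.mp h2 with e | e
    · exact hsp.not_dvd_one (by
        have := Nat.dvd_sub hsb e
        rwa [Nat.sub_sub_self (Nat.one_le_pow _ _ hsp.pos)] at this)
    · exact hsp.not_dvd_one ((Nat.dvd_add_right hsb).mp e)

variable (θ : P →* Matrix.ProjectiveSpecialLinearGroup (Fin 2) E) (hθ : Function.Surjective θ) (h : Hyp p α θ)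
include hθ h

/-- The projective conjugation action. -/
noncomputable def piOf (θ : P →* Matrix.ProjectiveSpecialLinearGroup (Fin 2) E) :
    P →* MulAut (Matrix.ProjectiveSpecialLinearGroup (Fin 2) E) := MulAut.conj.comp θ

theorem hyp_piOf : Hyp p α (piOf θ) :=
  ⟨h.sl, h.tf, fun x => by
    rw [← h.ker]
    show MulAut.conj (θ x) = 1 ↔ θ x = 1
    rw [← map_one (MulAut.conj : Matrix.ProjectiveSpecialLinearGroup (Fin 2) E →* _), conj_psl_injective.eq_iff],
    h.fix⟩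

theorem piOf_range : (piOf θ).range = Cfsg.Inn (Matrix.ProjectiveSpecialLinearGroup (Fin 2) E) := by
  rw [piOf, MonoidHom.range_comp, MonoidHom.range_eq_top.mpr hθ, ← MonoidHom.range_eq_map]

variable [Finite P] [IsAlgClosed K]

/-- Case `PSL(2, p ^ b)` or `PSL(2, 5)`: all traces are self-dual. -/
theorem selfdual (hperf : commutator P = ⊤) {s : ℕ} [Fact s.Prime] [CharP E s] (hs : s ≠ 2)
    (hcase : s = p ∨ Fintype.card E = 5) :
    ∀ g : P, tr3 (g : GL (Fin 3) K)⁻¹ = tr3 (g : GL (Fin 3) K) := by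
  have hbad : s ≠ 3 ∨ s = p := by
    rcases hcase with e | e
    · exact Or.inr e
    · refine Or.inl fun e3 => ?_
      subst e3
      obtain ⟨k, -, hk⟩ := FiniteField.card E 3
      rw [e] at hk
      have : 3 ∣ 5 := hk ▸ dvd_pow_self 3 k.ne_zero
      omega
  have hinj := cover_injective θ h hperf (MonoidHom.id _) (fun _ _ e => e) hs hbad
  have hodd : Odd (Fintype.card E) := by
    obtain ⟨k, -, hk⟩ := FiniteField.card E s
    rw [hk]; exact ((Fact.out : s.Prime).odd_of_ne_two hs).pow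
  intro g
  have hor : (s = p ∧ θ g ^ s = 1) ∨ (IsSquare (-1 : E) ∨ θ g ^ s ≠ 1) := by
    rcases hcase with e | e
    · by_cases hg : θ g ^ s = 1
      · exact Or.inl ⟨e, hg⟩
      · exact Or.inr (Or.inr hg)
    · exact Or.inr (Or.inl (FiniteField.isSquare_neg_one_iff.mpr (by rw [e]; decide)))
  rcases hor with ⟨e, hg⟩ | hr
  · have hgp : (g : GL (Fin 3) K) ^ p ^ 1 = 1 := by
      rw [pow_one, ← Subgroup.coe_pow, show g ^ p = 1 from hinj (by rw [map_pow, ← e, hg, map_one]),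
        Subgroup.coe_one]
    rw [tr3_unip hgp, tr3_unip (g := (g : GL (Fin 3) K)⁻¹) (by rw [inv_pow, hgp, inv_one])]
  · obtain ⟨w, hw⟩ := psl_real hs hodd (θ g) hr
    obtain ⟨W, rfl⟩ := hθ w
    have e : W * g * W⁻¹ = g⁻¹ := hinj (by rw [map_mul, map_mul, map_inv, map_inv, hw])
    have e' := congrArg (fun z : P => (z : GL (Fin 3) K)) e
    simp only [Subgroup.coe_mul, Subgroup.coe_inv] at e'
    rw [← e', tr3_conj]

/-- Case `PSL(2, 7)` in cross characteristic. -/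
theorem traces_seven (hperf : commutator P = ⊤) (hE : Fintype.card E = 7) (hp7 : p ≠ 7) (hp2 : p ≠ 2) :
    Function.Injective θ ∧
    ((p % 7 = 1 ∨ p % 7 = 2 ∨ p % 7 = 4) → ∀ g : P, tr3 (g : GL (Fin 3) K) ^ p = tr3 (g : GL (Fin 3) K)) ∧
    ((p % 7 = 3 ∨ p % 7 = 5 ∨ p % 7 = 6) →
      ∀ g : P, tr3 (g : GL (Fin 3) K) ^ p = tr3 (g : GL (Fin 3) K)⁻¹) := by
  haveI : Fact (Nat.Prime 7) := ⟨by norm_num⟩
  haveI : CharP E 7 := charP_of_card_eq_prime_pow (f := 1) (by rw [hE]; norm_num)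
  have hinj := cover_injective θ h hperf (MonoidHom.id _) (fun _ _ e => e) (s := 7) (by norm_num)
    (Or.inl (by norm_num))
  have conjE : ∀ (g : P) (j : ℕ) (w : Matrix.ProjectiveSpecialLinearGroup (Fin 2) E),
      w * θ g * w⁻¹ = θ g ^ j → tr3 ((g : GL (Fin 3) K) ^ j) = tr3 (g : GL (Fin 3) K) := by
    intro g j w hw
    obtain ⟨W, rfl⟩ := hθ w
    have e : W * g * W⁻¹ = g ^ j := hinj (by rw [map_mul, map_mul, map_inv, map_pow, hw])
    rw [← Subgroup.coe_pow, ← e, Subgroup.coe_mul, Subgroup.coe_mul, Subgroup.coe_inv, tr3_conj]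
  have hinv : ∀ (g : P), θ g ^ 7 ≠ 1 → tr3 (g : GL (Fin 3) K) ^ p = tr3 (g : GL (Fin 3) K) ∧
      tr3 (g : GL (Fin 3) K)⁻¹ = tr3 (g : GL (Fin 3) K) := by
    intro g hg
    obtain ⟨hord, w, hw⟩ := (psl7_cases hE (θ g)).resolve_left hg
    obtain ⟨W, rfl⟩ := hθ w
    have e : W * g * W⁻¹ = g⁻¹ := hinj (by rw [map_mul, map_mul, map_inv, map_inv, hw])
    have e' := congrArg (fun z : P => (z : GL (Fin 3) K)) e
    simp only [Subgroup.coe_mul, Subgroup.coe_inv] at e'
    have hr : tr3 (g : GL (Fin 3) K)⁻¹ = tr3 (g : GL (Fin 3) K) := by rw [← e', tr3_conj]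
    refine ⟨?_, hr⟩
    have hgn : ∀ {n : ℕ}, θ g ^ n = 1 → (g : GL (Fin 3) K) ^ n = 1 := fun {n} hn => by
      rw [← Subgroup.coe_pow, show g ^ n = 1 from hinj (by rw [map_pow, hn, map_one]), Subgroup.coe_one]
    rw [← tr3_pow_char]
    have hodd : p % 2 = 1 := Nat.odd_iff.mp ((Fact.out : p.Prime).odd_of_ne_two hp2)
    have fin : ∀ {n : ℕ}, θ g ^ n = 1 → (p % n = 1 ∨ p % n + 1 = n) →
        tr3 ((g : GL (Fin 3) K) ^ p) = tr3 (g : GL (Fin 3) K) := by
      intro n hn hpn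
      rw [pow_mod_of_pow_eq_one (hgn hn) p]
      rcases hpn with e1 | e1
      · rw [e1, pow_one]
      · have : (g : GL (Fin 3) K) ^ (p % n) = (g : GL (Fin 3) K)⁻¹ :=
          eq_inv_of_mul_eq_one_left (by rw [← pow_succ, e1, hgn hn])
        rw [this, hr]
    rcases hord with h2 | h3 | h4
    · exact fin h2 (Or.inl hodd)
    · by_cases hp3 : p = 3
      · subst hp3
        have h31 : (g : GL (Fin 3) K) ^ 3 ^ 1 = 1 := by rw [pow_one]; exact hgn h3
        rw [hgn h3, tr3_one, tr3_unip h31]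
      · refine fin h3 ?_
        have : p % 3 ≠ 0 := fun e => hp3 ((Nat.prime_dvd_prime_iff_eq Nat.prime_three Fact.out).mp
          (Nat.dvd_of_mod_eq_zero e)).symm
        omega
    · exact fin h4 (by omega)
  have hseven : ∀ (g : P), θ g ^ 7 = 1 →
      tr3 ((g : GL (Fin 3) K) ^ 4) = tr3 (g : GL (Fin 3) K) ∧
      tr3 ((g : GL (Fin 3) K) ^ 2) = tr3 (g : GL (Fin 3) K) ∧ (g : GL (Fin 3) K) ^ 7 = 1 := by
    intro g hg
    have hg7 : g ^ 7 = 1 := hinj (by rw [map_pow, hg, map_one])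
    obtain ⟨w, t, hx⟩ := exists_conj_xr (s := 7) (b := 1) (by norm_num) (by rw [hE, pow_one]) hg
    let a : Eˣ := Units.mk0 2 (fun e => by
      have := (CharP.cast_eq_zero_iff E 7 2).mp (by exact_mod_cast e)
      omega)
    have ht : (tor a) (Cfsg.Agent.Lib.AutPSL.xr 0 1 t) = Cfsg.Agent.Lib.AutPSL.xr 0 1 t ^ 4 := by
      rw [tor, conjAut_dg_xr, inv_inv]
      have e4 : ∀ n : ℕ, Cfsg.Agent.Lib.AutPSL.xr 0 1 t ^ n =
          Cfsg.Agent.Lib.AutPSL.xr (n := 2) 0 1 ((n : E) * t) := fun n => by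
        induction n with
        | zero =>
          rw [pow_zero, Nat.cast_zero, zero_mul]
          exact (Cfsg.Agent.Lib.AutPSL.rootElt_zero _ _).symm
        | succ n ih =>
          rw [pow_succ, ih, ← Cfsg.Agent.Lib.AutPSL.xr_add (by decide), Nat.cast_succ, add_mul, one_mul]
      rw [e4]
      congr 1
      simp [a]; ring
    obtain ⟨v, hv⟩ := tor_mem_inn a
    have h4 : (w * v * w⁻¹) * θ g * (w * v * w⁻¹)⁻¹ = θ g ^ 4 := by
      rw [hx, conj_pow, ← ht, ← hv]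
      show _ = w * MulAut.conj v (Cfsg.Agent.Lib.AutPSL.xr 0 1 t) * w⁻¹
      rw [MulAut.conj_apply]
      group
    have e4 := conjE g 4 _ h4
    refine ⟨e4, ?_, by rw [← Subgroup.coe_pow, hg7, Subgroup.coe_one]⟩
    have e16 : θ (g ^ 4) ^ 4 = θ g ^ 2 := by
      rw [map_pow, ← pow_mul, show 4 * 4 = 7 * 2 + 2 from rfl, pow_add, pow_mul, hg, one_pow, one_mul]
    have h44 : (w * v * w⁻¹) * θ (g ^ 4) * (w * v * w⁻¹)⁻¹ = θ (g ^ 4) ^ 4 := by
      rw [map_pow, ← conj_pow, h4]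
    have e44 := conjE (g ^ 4) 4 _ h44
    rw [Subgroup.coe_pow, ← pow_mul] at e44
    rw [pow_mod_of_pow_eq_one (by rw [← Subgroup.coe_pow, hg7, Subgroup.coe_one] : (g : GL (Fin 3) K) ^ 7 = 1) (4 * 4),
      e4] at e44
    exact e44
  refine ⟨hinj, fun hc g => ?_, fun hc g => ?_⟩
  · by_cases hg : θ g ^ 7 = 1
    · obtain ⟨h4, h2, h7⟩ := hseven g hg
      rw [← tr3_pow_char, pow_mod_of_pow_eq_one h7 p]
      rcases hc with e | e | e <;> rw [e]
      · rw [pow_one]
      · exact h2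
      · exact h4
    · exact (hinv g hg).1
  · by_cases hg : θ g ^ 7 = 1
    · obtain ⟨-, -, h7⟩ := hseven g hg
      obtain ⟨h4, h2, -⟩ := hseven g⁻¹ (by rw [map_inv, inv_pow, hg, inv_one])
      rw [← tr3_pow_char, pow_mod_of_pow_eq_one h7 p]
      rw [Subgroup.coe_inv] at h4 h2
      have hi : ∀ k m, k + m = 7 → (g : GL (Fin 3) K) ^ k = ((g : GL (Fin 3) K)⁻¹) ^ m := fun k m hkm => by
        rw [inv_pow]; exact eq_inv_of_mul_eq_one_left (by rw [← pow_add, hkm, h7])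
      rcases hc with e | e | e <;> rw [e]
      · rw [hi 3 4 rfl, h4]
      · rw [hi 5 2 rfl, h2]
      · rw [hi 6 1 rfl, pow_one]
    · exact (hinv g hg).1.trans (hinv g hg).2.symm

end PSL

end Cfsg.Agent.Lib.Mitchell3
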