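import Cfsg.Agent.Lib.Mitchell3.RootCases

/-!
Mitchell package: the groups with socle `PSL(2, r)` in the transvection-free case, with the conditions on
the field.
-/

set_option autoImplicit false
set_option linter.unusedSectionVars false
set_option linter.style.haveILetI false

namespace Cfsg.Agent.Lib.Mitchell3

open Matrix Module
open Cfsg.Agent.Lib.AutPSL (conjAut fieldAut conjAut_toGL)

variable {K : Type*} [Field K] [IsAlgClosed K] {P : Subgroup (GL (Fin 3) K)}
variable {E : Type} [Field E] [Fintype E]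
variable {p : ℕ} [Fact p.Prime] [CharP K p] {α : ℕ}

theorem natCast_surjective_prime {r : ℕ} [Fact r.Prime] [CharP E r] (hE : Fintype.card E = r) (t : E) :
    ∃ n : ℕ, n < r ∧ (n : E) = t := by
  classical
  have hinj : Function.Injective fun n : Fin r => ((n : ℕ) : E) := fun a b e =>
    Fin.ext (Nat.ModEq.eq_of_lt_of_lt ((CharP.natCast_eq_natCast E r).mp e) a.2 b.2)
  obtain ⟨n, hn⟩ := ((Fintype.bijective_iff_injective_and_card _).mpr
    ⟨hinj, by rw [Fintype.card_fin, hE]⟩).surjective t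
  exact ⟨n, n.2, hn⟩

variable {π : P →* MulAut (Matrix.ProjectiveSpecialLinearGroup (Fin 2) E)} (h : Hyp p α π)
  (hInn : Cfsg.Inn (Matrix.ProjectiveSpecialLinearGroup (Fin 2) E) ≤ π.range)
include h hInn

theorem exists_sq_ne_one (h3 : 3 < Fintype.card E) : ∃ a : Eˣ, (a : E) ^ 2 ≠ 1 := by
  classical
  by_contra hc
  push Not at hc
  have hle : (Finset.univ : Finset Eˣ).card ≤ 2 := by
    refine (Finset.card_le_card (t := {1, -1}) fun b _ => ?_).trans Finset.card_le_two
    have := hc b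
    rw [← one_pow 2, sq_eq_sq_iff_eq_or_eq_neg] at this
    rcases this with e | e
    · simp [show b = 1 from Units.ext (by simpa using e)]
    · simp [show b = -1 from Units.ext (by simpa using e)]
  rw [Finset.card_univ, Fintype.card_units] at hle
  omega

/-- Five and seven elements. -/
theorem prime_case (σ : Sec π) {r : ℕ} [hr : Fact r.Prime] [CharP E r] (hE : Fintype.card E = r)
    (h5 : 5 ≤ r) (hrp : r ≠ p) :
    π.range = Cfsg.Inn (Matrix.ProjectiveSpecialLinearGroup (Fin 2) E) ∧ (p ^ α) ^ (r / 2) % r = 1 := by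
  have hp : p.Prime := Fact.out
  have hrK : (r : K) ≠ 0 := fun e =>
    hrp ((Nat.prime_dvd_prime_iff_eq hp hr.out).mp ((CharP.cast_eq_zero_iff K p r).mp e)).symm
  have hodd : Odd (Fintype.card E) := by rw [hE]; exact hr.out.odd_of_ne_two (by omega)
  have hbad : r ≠ 3 ∨ r = p := Or.inl (by omega)
  set X : GL (Fin 3) K := (σ.S 1 : GL (Fin 3) K) with hXdef
  have hX : X ^ r = 1 := by rw [hXdef, ← Subgroup.coe_pow, σ.pow_char h, Subgroup.coe_one]
  have hconj : ∀ (W : P) (n : ℕ), (∀ t, π W * uE t * (π W)⁻¹ = uE ((n : E) * t)) → Good X n := by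
    intro W n hW
    have hc := σ.conj h hbad hW 1
    rw [← nsmul_eq_mul, σ.map_nsmul h] at hc
    refine good_of_conj (g := (W : GL (Fin 3) K)) ?_
    simpa using congrArg (fun z : P => (z : GL (Fin 3) K)) hc
  have hsqgood : ∀ j : ℕ, ∀ b : Eˣ, (j : E) = (b : E) ^ 2 → Good X j := by
    intro j b hb
    obtain ⟨W, hW⟩ := exists_torLift h hInn b
    exact hconj W j fun t => by rw [hW, tor_uE, hb]
  have hcontra : ∀ f : ℕ, (f : E) ≠ 0 → Good X f →
      (∀ b : Eˣ, (f : E) ≠ (b : E) ^ 2) → False := by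
    intro f hf0 hg hns
    refine not_all_good hr.out h5 hrK hX (σ.ne_one h) fun j hj1 hj2 => ?_
    have hj0 : (j : E) ≠ 0 := fun e => by
      rw [CharP.cast_eq_zero_iff E r] at e
      exact absurd (Nat.le_of_dvd (by omega) e) (by omega)
    by_cases hjs : IsSquare (Units.mk0 (j : E) hj0)
    · obtain ⟨b, hb⟩ := hjs
      refine ⟨j, Nat.mod_eq_of_lt hj2, hsqgood j b ?_⟩
      rw [pow_two, ← Units.val_mul, ← hb, Units.val_mk0]
    · have hfs : ¬ IsSquare (Units.mk0 (f : E) hf0) := fun ⟨b, hb⟩ => hns b (by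
        rw [pow_two, ← Units.val_mul, ← hb, Units.val_mk0])
      obtain ⟨b, hb⟩ := isSquare_mul_inv hodd hjs hfs
      obtain ⟨n, -, hn⟩ := natCast_surjective_prime hE ((b : E) ^ 2)
      refine ⟨n * f, ?_, (hsqgood n b hn).mul hg⟩
      have : ((n * f : ℕ) : E) = (j : E) := by
        rw [Nat.cast_mul, hn, pow_two, ← Units.val_mul, ← hb, Units.val_mul,
          Units.val_inv_eq_inv_val, Units.val_mk0, Units.val_mk0, inv_mul_cancel_right₀ hf0]
      have hmod : n * f % r = j % r := (CharP.natCast_eq_natCast E r).mp this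
      rw [hmod, Nat.mod_eq_of_lt hj2]
  refine ⟨eq_inn hInn fun d τ hm => ⟨ringEquiv_prime hE τ, ?_⟩, ?_⟩
  · by_contra hd
    obtain rfl := ringEquiv_prime hE τ
    obtain ⟨n, -, hn⟩ := natCast_surjective_prime hE (d : E)
    obtain ⟨W, hW⟩ := hm
    refine hcontra n (hn ▸ d.ne_zero) (hconj W n fun t => by rw [hW, twist_uE, hn]; rfl) fun b hb => hd
      ⟨b, Units.ext (by rw [Units.val_mul, ← pow_two, ← hb, hn])⟩
  · have hq0 : ((p ^ α : ℕ) : E) ≠ 0 := fun e => by
      rw [CharP.cast_eq_zero_iff E r] at e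
      exact hrp ((Nat.prime_dvd_prime_iff_eq hr.out hp).mp (hr.out.dvd_of_dvd_pow e))
    obtain ⟨b, hb⟩ : ∃ b : Eˣ, ((p ^ α : ℕ) : E) = (b : E) ^ 2 := by
      by_contra hc
      push Not at hc
      exact hcontra _ hq0 (good_frob (p := p) (α := α) fun i j => h.fix _ (σ.S 1).2 i j) hc
    have h1 : (((p ^ α) ^ (r / 2) : ℕ) : E) = ((1 : ℕ) : E) := by
      rw [Nat.cast_pow, hb, ← pow_mul, Nat.cast_one]
      have h2 : 2 * (r / 2) = Fintype.card E - 1 := by
        rw [hE]
        obtain ⟨k, hk⟩ := hr.out.odd_of_ne_two (by omega)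
        omega
      rw [h2]
      exact FiniteField.pow_card_sub_one_eq_one _ b.ne_zero
    have h3 : (p ^ α) ^ (r / 2) % r = 1 % r := (CharP.natCast_eq_natCast E r).mp h1
    rw [Nat.one_mod_eq_one.mpr (by omega)] at h3
    exact h3

/-- Nine elements in cross characteristic. -/
theorem nine_case (hE : Fintype.card E = 9) (hp : p ≠ 3) (hab : ¬ AbRoot π) :
    (p = 5 ∧ (π.range = Cfsg.Inn (Matrix.ProjectiveSpecialLinearGroup (Fin 2) E) ∨
      ((Cfsg.Inn (Matrix.ProjectiveSpecialLinearGroup (Fin 2) E)).subgroupOf π.range).index = 2)) ∨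
    (p ≠ 5 ∧ (p ^ α) ^ 2 % 5 = 1 ∧
      π.range = Cfsg.Inn (Matrix.ProjectiveSpecialLinearGroup (Fin 2) E)) := by
  classical
  have hno : ∀ d : Eˣ, twist d (1 : E ≃+* E) ∈ π.range → IsSquare d := fun d hd => by
    by_contra hns
    exact hab (abRoot_of_nonsquare h hInn hE hns hd)
  -- automorphisms without field part in the range are inner
  have hlin : ∀ g : GL (Fin 2) E, (conjAut g : MulAut _) ∈ π.range →
      (conjAut g : MulAut _) ∈ Cfsg.Inn (Matrix.ProjectiveSpecialLinearGroup (Fin 2) E) := by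
    intro g hg
    set d := GeneralLinearGroup.det g with hd
    have h2 : twist d (1 : E ≃+* E) * (conjAut g)⁻¹ ∈
        Cfsg.Inn (Matrix.ProjectiveSpecialLinearGroup (Fin 2) E) := by
      rw [twist, map_one, mul_one, ← map_inv, ← map_mul]
      exact conjAut_mem_inn.mpr (by
        rw [map_mul, det_dg, map_inv, mul_one, ← hd, mul_inv_cancel]; exact IsSquare.one)
    have h3 := π.range.mul_mem (hInn h2) hg
    rw [inv_mul_cancel_right] at h3
    exact conjAut_mem_inn.mpr (hd ▸ hno d h3)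
  by_cases hp5 : p = 5
  · refine Or.inl ⟨hp5, ?_⟩
    by_cases hall : π.range ≤ Cfsg.Inn (Matrix.ProjectiveSpecialLinearGroup (Fin 2) E)
    · exact Or.inl (le_antisymm hall hInn)
    obtain ⟨β, hβ, hβn⟩ := SetLike.not_le_iff_exists.mp hall
    refine Or.inr (Subgroup.index_eq_two_iff.mpr ⟨⟨β, hβ⟩, fun γ => ?_⟩)
    rw [Subgroup.mem_subgroupOf, Subgroup.mem_subgroupOf]
    by_cases hγ : (γ : MulAut (Matrix.ProjectiveSpecialLinearGroup (Fin 2) E)) ∈ Cfsg.Inn (Matrix.ProjectiveSpecialLinearGroup (Fin 2) E)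
    · refine Or.inr ⟨hγ, fun e => hβn ?_⟩
      have := Subgroup.mul_mem _ (Subgroup.inv_mem _ hγ) e
      simpa using this
    · refine Or.inl ⟨?_, hγ⟩
      obtain ⟨g, σ₁, γ₁, hγ₁, he1⟩ := Cfsg.Agent.Lib.AutPSL.exists_decomp (le_refl 2) (γ : MulAut (Matrix.ProjectiveSpecialLinearGroup (Fin 2) E))
      obtain ⟨g', σ₂, γ₂, hγ₂, he2⟩ := Cfsg.Agent.Lib.AutPSL.exists_decomp (le_refl 2) β
      obtain rfl : γ₁ = 1 := hγ₁.resolve_right fun h => absurd h.1 (by decide)
      obtain rfl : γ₂ = 1 := hγ₂.resolve_right fun h => absurd h.1 (by decide)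
      rw [mul_one] at he1 he2
      have hs1 : σ₁ ≠ 1 := fun e => hγ (by
        rw [he1, e, map_one, mul_one]; exact hlin g (by
          have := γ.2
          rwa [he1, e, map_one, mul_one] at this))
      have hs2 : σ₂ ≠ 1 := fun e => hβn (by
        rw [he2, e, map_one, mul_one]; exact hlin g' (by
          have := hβ
          rwa [he2, e, map_one, mul_one] at this))
      have hprod : (γ : MulAut (Matrix.ProjectiveSpecialLinearGroup (Fin 2) E)) * β = conjAut (g * Cfsg.Agent.Lib.AutPSL.mapGL σ₁ g') := by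
        rw [he1, he2, map_mul (conjAut), mul_assoc, ← mul_assoc (fieldAut σ₁),
          Cfsg.Agent.Lib.AutPSL.fieldAut_conjAut, mul_assoc, ← map_mul fieldAut,
          (ringEquiv_nine hE hs1).2 σ₂ hs2, map_one, mul_one]
      show (γ : MulAut (Matrix.ProjectiveSpecialLinearGroup (Fin 2) E)) * β ∈ _
      rw [hprod]
      exact hlin _ (hprod ▸ π.range.mul_mem γ.2 hβ)
  refine Or.inr ⟨hp5, ?_⟩
  obtain ⟨y, w, hy, hw⟩ := exists_five hE
  have hyc : (MulAut.conj y : MulAut (Matrix.ProjectiveSpecialLinearGroup (Fin 2) E)) ^ 5 = 1 := by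
    rw [← map_pow, ← hy, pow_orderOf_eq_one, map_one]
  obtain ⟨X, hXy, hX5, hXc⟩ := exists_lift (π := π) h.sl h.ker
    (y := MulAut.conj y) (hInn ⟨y, rfl⟩) (s := 5) (by norm_num) hyc
  have hX : (X : GL (Fin 3) K) ^ 5 = 1 := by rw [← Subgroup.coe_pow, hX5, Subgroup.coe_one]
  have hXne : (X : GL (Fin 3) K) ≠ 1 := fun e => by
    have h1 : MulAut.conj y = 1 := by rw [← hXy, show X = 1 from Subtype.ext e, map_one]
    rw [← map_one (MulAut.conj : Matrix.ProjectiveSpecialLinearGroup (Fin 2) E →* _)] at h1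
    rw [conj_psl_injective h1, orderOf_one] at hy
    exact absurd hy (by norm_num)
  have h5K : ((5 : ℕ) : K) ≠ 0 := fun e => hp5 ((Nat.prime_dvd_prime_iff_eq (Fact.out : p.Prime)
    (by norm_num)).mp ((CharP.cast_eq_zero_iff K p 5).mp e))
  have hgood : ∀ (W : P) (j : ℕ), π W * MulAut.conj y * (π W)⁻¹ = MulAut.conj (y ^ j) →
      Good (X : GL (Fin 3) K) j := by
    intro W j hW
    refine good_of_conj (g := (W : GL (Fin 3) K)) ?_
    have := hXc W j (by rw [hW, map_pow])
    simpa using congrArg (fun z : P => (z : GL (Fin 3) K)) this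
  have g4 : Good (X : GL (Fin 3) K) 4 := by
    obtain ⟨W, hW⟩ := hInn (⟨w, rfl⟩ : MulAut.conj w ∈ Cfsg.Inn _)
    refine hgood W 4 ?_
    rw [hW, ← map_inv, ← map_mul, ← map_mul, hw]
  have hbadk : ∀ k : ℕ, Good (X : GL (Fin 3) K) k → k % 5 ≠ 2 ∧ k % 5 ≠ 3 := by
    intro k hk
    have hmk : ∀ m, Good (X : GL (Fin 3) K) m → k % 5 = 2 ∨ k % 5 = 3 → False := by
      intro m _ hk23
      refine not_all_good (by norm_num : Nat.Prime 5) le_rfl h5K hX hXne fun j hj1 hj5 => ?_
      interval_cases j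
      · exact ⟨4 * 4, by norm_num, g4.mul g4⟩
      · rcases hk23 with e | e
        · exact ⟨k, e, hk⟩
        · exact ⟨4 * k, by omega, g4.mul hk⟩
      · rcases hk23 with e | e
        · exact ⟨4 * k, by omega, g4.mul hk⟩
        · exact ⟨k, e, hk⟩
      · exact ⟨4, by norm_num, g4⟩
    exact ⟨fun e => hmk k hk (Or.inl e), fun e => hmk k hk (Or.inr e)⟩
  constructor
  · have hq := hbadk _ (good_frob (p := p) (α := α) fun i j => h.fix _ X.2 i j)
    have hq0 : p ^ α % 5 ≠ 0 := fun e => hp5 ((Nat.prime_dvd_prime_iff_eq (by norm_num)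
      (Fact.out : p.Prime)).mp ((by norm_num : Nat.Prime 5).dvd_of_dvd_pow (Nat.dvd_of_mod_eq_zero e))).symm
    rw [Nat.pow_mod]
    rcases (by omega : p ^ α % 5 = 1 ∨ p ^ α % 5 = 4) with e | e <;> rw [e]
  · refine eq_inn hInn fun d τ hm => ?_
    have hτ : τ = 1 := by
      by_contra hτ
      obtain ⟨w', k, hk⟩ := exists_five_power hE (twist d τ) hy
      have hmem : (MulAut.conj w')⁻¹ * twist d τ ∈ π.range :=
        π.range.mul_mem (π.range.inv_mem (hInn ⟨w', rfl⟩)) hm
      obtain ⟨W, hW⟩ := hmem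
      have himg : ((MulAut.conj w')⁻¹ * twist d τ : MulAut _) y = y ^ k := by
        rw [MulAut.mul_apply, hk, MulAut.conj_inv_apply]; group
      have hgk : Good (X : GL (Fin 3) K) k := hgood W k (by
        rw [hW, ← himg]
        ext z
        simp [MulAut.conj_apply])
      have hk0 : k % 5 ≠ 0 := fun e => by
        have h1 : y ^ k = 1 := by rw [← pow_mod_orderOf, hy, e, pow_zero]
        rw [h1, ← map_one ((MulAut.conj w')⁻¹ * twist d τ : MulAut _)] at himg
        rw [(MulEquiv.injective _) himg, orderOf_one] at hy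
        exact absurd hy (by norm_num)
      have hk5 := hbadk k hgk
      have hform : ((MulAut.conj w')⁻¹ * twist d τ : MulAut (Matrix.ProjectiveSpecialLinearGroup (Fin 2) E)) ∈
          {β | ∃ g, β = conjAut g * fieldAut τ} := by
        obtain ⟨s, hs⟩ := QuotientGroup.mk_surjective w'
        refine ⟨(Matrix.SpecialLinearGroup.toGL s)⁻¹ * dg d 1, ?_⟩
        rw [twist, map_mul, map_inv, conjAut_toGL, hs, mul_assoc]
      obtain ⟨g, hg⟩ := hform
      have hsl := semilinear_five hE (g := g) hτ hy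
      rw [← hg, himg] at hsl
      rcases (by omega : k % 5 = 1 ∨ k % 5 = 4) with e | e
      · exact hsl.1 (by rw [← pow_mod_orderOf, hy, e, pow_one])
      · refine hsl.2 (eq_inv_of_mul_eq_one_left ?_)
        rw [← pow_mod_orderOf, hy, e, ← pow_succ, show 4 + 1 = 5 from rfl, ← hy, pow_orderOf_eq_one]
    subst hτ
    exact ⟨rfl, hno d hm⟩

/-- The identification over `PSL(2, r)`. -/
theorem ident_psl (hodd : Odd (Fintype.card E)) (h3 : 3 < Fintype.card E) (hp2 : p ≠ 2) :
    (∃ b, Fintype.card E = p ^ b ∧ b ∣ α ∧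
      (π.range = Cfsg.Inn (Matrix.ProjectiveSpecialLinearGroup (Fin 2) E) ∨
        π.range = (conjAut : GL (Fin 2) E →* _).range)) ∨
    (Fintype.card E = 5 ∧ p ≠ 5 ∧ (p ^ α) ^ 2 % 5 = 1 ∧
      π.range = Cfsg.Inn (Matrix.ProjectiveSpecialLinearGroup (Fin 2) E)) ∨
    (Fintype.card E = 7 ∧ p ≠ 7 ∧ (p ^ α) ^ 3 % 7 = 1 ∧
      π.range = Cfsg.Inn (Matrix.ProjectiveSpecialLinearGroup (Fin 2) E)) ∨
    (Fintype.card E = 9 ∧ p ≠ 3 ∧ p ^ α % 3 = 1 ∧
      ((p = 5 ∧ (π.range = Cfsg.Inn (Matrix.ProjectiveSpecialLinearGroup (Fin 2) E) ∨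
        ((Cfsg.Inn (Matrix.ProjectiveSpecialLinearGroup (Fin 2) E)).subgroupOf π.range).index = 2)) ∨
      (p ≠ 5 ∧ (p ^ α) ^ 2 % 5 = 1 ∧
        π.range = Cfsg.Inn (Matrix.ProjectiveSpecialLinearGroup (Fin 2) E)))) := by
  classical
  obtain ⟨k, hs, hk⟩ := FiniteField.card E (ringChar E)
  haveI := ringChar.charP E
  generalize hr : ringChar E = s at *
  haveI := Fact.mk hs
  by_cases hab : AbRoot π
  swap
  · obtain ⟨h9, hp3, hq⟩ := nine_of_nonab h hInn (s := s) h3 hab
    exact Or.inr (Or.inr (Or.inr ⟨h9, hp3, hq, nine_case h hInn h9 hp3 hab⟩))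
  obtain ⟨a, ha⟩ := exists_sq_ne_one h hInn h3
  obtain ⟨σ⟩ := nonempty_sec h hInn hab ha
  by_cases hsp : s = p
  · subst hsp
    obtain ⟨hfix, htw⟩ := σ.defining h hInn hp2
    refine Or.inl ⟨k, hk, ?_, eq_inn_or_inndiag hodd hInn htw⟩
    -- periodicity of the Frobenius
    have hit : ∀ (m : ℕ) (t : E), t ^ s ^ ((k : ℕ) * m) = t := fun m t => by
      induction m with
      | zero => simp
      | succ m ih => rw [Nat.mul_succ, pow_add, pow_mul, ih, ← hk, FiniteField.pow_card]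
    have hrem : ∀ t : E, t ^ s ^ (α % k) = t := fun t => by
      conv_rhs => rw [← hfix t, ← Nat.div_add_mod α k, pow_add, pow_mul, hit]
    refine Nat.dvd_of_mod_eq_zero ?_
    by_contra hne
    have hlt : α % k < k := Nat.mod_lt _ k.pos
    have hpos : 1 < s ^ (α % k) := Nat.one_lt_pow hne hs.one_lt
    have hle : (Finset.univ : Finset E) ⊆
        (Polynomial.X ^ s ^ (α % k) - Polynomial.X : Polynomial E).roots.toFinset := fun t _ => by
      rw [Multiset.mem_toFinset, Polynomial.mem_roots (FiniteField.X_pow_card_sub_X_ne_zero E hpos)]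
      simp [hrem t]
    have h1 := (Finset.card_le_card hle).trans ((Multiset.toFinset_card_le _).trans
      (Polynomial.card_roots' _))
    rw [Finset.card_univ, hk, FiniteField.X_pow_card_sub_X_natDegree_eq E hpos] at h1
    exact absurd (Nat.pow_le_pow_iff_right hs.one_lt |>.mp h1) (by omega)
  have hsK : (s : K) ≠ 0 := fun e =>
    hsp ((Nat.prime_dvd_prime_iff_eq (Fact.out : p.Prime) hs).mp ((CharP.cast_eq_zero_iff K p s).mp e)).symm
  have h7 := Sec.card_le h hInn σ hsK
  have hcases : Fintype.card E = 5 ∨ Fintype.card E = 7 := by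
    obtain ⟨m, hm⟩ := hodd
    omega
  have hks : (k : ℕ) = 1 ∧ (s = 5 ∨ s = 7) := by
    have hpr : (s ^ (k : ℕ)).Prime := by rcases hcases with e | e <;> rw [← hk, e] <;> norm_num
    have h1 := hpr.eq_one_of_pow
    rw [h1, pow_one] at hk
    omega
  rw [hks.1, pow_one] at hk
  rcases hks.2 with rfl | rfl
  · obtain ⟨h1, h2⟩ := prime_case h hInn σ hk le_rfl hsp
    exact Or.inr (Or.inl ⟨hk, fun e => hsp e.symm, h2, h1⟩)
  · obtain ⟨h1, h2⟩ := prime_case h hInn σ hk (by norm_num) hsp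
    exact Or.inr (Or.inr (Or.inl ⟨hk, fun e => hsp e.symm, h2, h1⟩))

end Cfsg.Agent.Lib.Mitchell3
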