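import Cfsg.Agent.Lib.Mitchell3.Root
import Cfsg.Agent.Lib.Alternating.Aut

/-!
Mitchell package: the alternating group of degree seven occurs in characteristic five over fields of square
order only, and without its outer automorphism.
-/

set_option autoImplicit false
set_option linter.unusedSectionVars false
set_option linter.style.haveILetI false

namespace Cfsg.Agent.Lib.Mitchell3

open Matrix Module Equiv

variable {K : Type*} [Field K] [IsAlgClosed K] {P : Subgroup (GL (Fin 3) K)}
variable {p : ℕ} [Fact p.Prime] [CharP K p] {α : ℕ}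

theorem seven_all_good {x : GL (Fin 3) K} (g2 : Good x 2) {f : ℕ} (hf : f % 7 = 3 ∨ f % 7 = 5 ∨ f % 7 = 6)
    (gf : Good x f) : ∀ j, 1 ≤ j → j < 7 → ∃ i, i % 7 = j ∧ Good x i := by
  have g4 : Good x (2 * 2) := g2.mul g2
  have g8 : Good x (2 * 2 * 2) := g4.mul g2
  intro j h1 h7
  by_cases hj : j = 1 ∨ j = 2 ∨ j = 4
  · rcases hj with rfl | rfl | rfl
    · exact ⟨_, by norm_num, g8⟩
    · exact ⟨_, by norm_num, g2⟩
    · exact ⟨_, by norm_num, g4⟩
  have hor : f % 7 = j ∨ (2 * f) % 7 = j ∨ (2 * 2 * f) % 7 = j := by omega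
  rcases hor with e | e | e
  · exact ⟨_, e, gf⟩
  · exact ⟨_, e, g2.mul gf⟩
  · exact ⟨_, e, g4.mul gf⟩

/-- The identification over the alternating group of degree seven. -/
theorem ident_alt (π : P →* MulAut (alternatingGroup (Fin 7))) (h : Hyp p α π)
    (hInn : Cfsg.Inn (alternatingGroup (Fin 7)) ≤ π.range) :
    p = 5 ∧ Even α ∧ π.range = Cfsg.Inn (alternatingGroup (Fin 7)) := by
  classical
  have hp : p.Prime := Fact.out
  -- conjugation by an even permutation is inner
  have heven : ∀ g : Perm (Fin 7), g ∈ alternatingGroup (Fin 7) →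
      (MulAut.conjNormal g : MulAut (alternatingGroup (Fin 7))) ∈ π.range := fun g hg => by
    refine hInn ⟨⟨g, hg⟩, ?_⟩
    ext x
    simp
  have hcj : Function.Injective (MulAut.conj : alternatingGroup (Fin 7) →* _) := by
    refine (injective_iff_map_eq_one _).mpr fun z hz => ?_
    have h1 : z ∈ Subgroup.center (alternatingGroup (Fin 7)) := Subgroup.mem_center_iff.mpr fun x => by
      have := MulEquiv.congr_fun hz x
      rw [MulAut.conj_apply, MulAut.one_apply, mul_inv_eq_iff_eq_mul] at this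
      exact this.symm
    rwa [alternatingGroup.center_eq_bot (by simp), Subgroup.mem_bot] at h1
  -- eigenvalues of a lift
  have hlift : ∀ (y : alternatingGroup (Fin 7)) (s : ℕ), s.Prime → s % 3 ≠ 0 → orderOf y = s →
      ∃ X : P, (X : GL (Fin 3) K) ^ s = 1 ∧ (X : GL (Fin 3) K) ≠ 1 ∧
        ∀ (g : Perm (Fin 7)) (j : ℕ), (MulAut.conjNormal g : MulAut (alternatingGroup (Fin 7))) ∈ π.range →
          g * (y : Perm (Fin 7)) * g⁻¹ = (y : Perm (Fin 7)) ^ j → Good (X : GL (Fin 3) K) j := by
    intro y s hs hs3 hy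
    have hyc : (MulAut.conj y : MulAut (alternatingGroup (Fin 7))) ^ s = 1 := by
      rw [← map_pow, ← hy, pow_orderOf_eq_one, map_one]
    obtain ⟨X, hXy, hXs, hXc⟩ := exists_lift (π := π) h.sl h.ker (y := MulAut.conj y) (hInn ⟨y, rfl⟩) hs3 hyc
    refine ⟨X, by rw [← Subgroup.coe_pow, hXs, Subgroup.coe_one], fun e => ?_, fun g j hg he => ?_⟩
    · have h1 : MulAut.conj y = 1 := by rw [← hXy, show X = 1 from Subtype.ext e, map_one]
      rw [← map_one (MulAut.conj : alternatingGroup (Fin 7) →* _)] at h1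
      rw [hcj h1, orderOf_one] at hy
      exact hs.ne_one hy.symm
    · obtain ⟨W, hW⟩ := hg
      refine good_of_conj (g := (W : GL (Fin 3) K)) ?_
      have := hXc W j (by
        rw [hW, ← map_pow]
        have e : (MulAut.conjNormal g : MulAut (alternatingGroup (Fin 7))) y = y ^ j :=
          Subtype.ext (by rw [MulAut.conjNormal_apply, he]; simp)
        rw [← e]
        ext x
        simp [MulAut.conj_apply])
      simpa using congrArg (fun z : P => (z : GL (Fin 3) K)) this
  have hKne : ∀ {s : ℕ}, s.Prime → s ≠ p → (s : K) ≠ 0 := fun hs hne e =>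
    hne ((Nat.prime_dvd_prime_iff_eq hp hs).mp ((CharP.cast_eq_zero_iff K p _).mp e)).symm
  have hp5 : p = 5 := by
    by_contra hne
    obtain ⟨X, hX, hX1, hgood⟩ := hlift
      ⟨c[0, 1, 2, 3, 4], by rw [Equiv.Perm.mem_alternatingGroup]; decide⟩ 5 (by norm_num) (by norm_num)
      (by
        haveI : Fact (Nat.Prime 5) := ⟨by norm_num⟩
        exact orderOf_eq_prime (Subtype.ext (by rw [Subgroup.coe_pow]; exact Equiv.ext (by decide +kernel)))
          (fun e => absurd (congrArg (fun z : alternatingGroup (Fin 7) => (z : Perm (Fin 7)) 0) e) (by decide)))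
    have g2 := hgood (c[1, 2, 4, 3] * c[5, 6]) 2
      (heven _ (by rw [Equiv.Perm.mem_alternatingGroup]; decide)) (Equiv.ext (by decide))
    refine not_all_good (by norm_num : Nat.Prime 5) le_rfl (hKne (by norm_num) (Ne.symm hne)) hX hX1
      fun j h1 h5 => ?_
    interval_cases j
    · exact ⟨2 * 2 * (2 * 2), by norm_num, (g2.mul g2).mul (g2.mul g2)⟩
    · exact ⟨2, by norm_num, g2⟩
    · exact ⟨2 * 2 * 2, by norm_num, (g2.mul g2).mul g2⟩
    · exact ⟨2 * 2, by norm_num, g2.mul g2⟩
  subst hp5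
  obtain ⟨X, hX, hX1, hgood⟩ := hlift
    ⟨c[0, 1, 2, 3, 4, 5, 6], by rw [Equiv.Perm.mem_alternatingGroup]; decide⟩ 7 (by norm_num) (by norm_num)
    (by
      haveI : Fact (Nat.Prime 7) := ⟨by norm_num⟩
      exact orderOf_eq_prime (Subtype.ext (by rw [Subgroup.coe_pow]; exact Equiv.ext (by decide +kernel)))
          (fun e => absurd (congrArg (fun z : alternatingGroup (Fin 7) => (z : Perm (Fin 7)) 0) e) (by decide)))
  have g2 := hgood (c[1, 2, 4] * c[3, 6, 5]) 2
    (heven _ (by rw [Equiv.Perm.mem_alternatingGroup]; decide)) (Equiv.ext (by decide))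
  have h7K := hKne (s := 7) (by norm_num) (by norm_num)
  have hbad : ∀ f, Good (X : GL (Fin 3) K) f → ¬ (f % 7 = 3 ∨ f % 7 = 5 ∨ f % 7 = 6) := fun f gf hf =>
    not_all_good (by norm_num : Nat.Prime 7) (by norm_num) h7K hX hX1 (seven_all_good g2 hf gf)
  refine ⟨rfl, ?_, le_antisymm (fun β hβ => ?_) hInn⟩
  · have hq := hbad _ (good_frob (p := 5) (α := α) fun i j => h.fix _ X.2 i j)
    rw [Nat.even_iff]
    by_contra hodd
    obtain ⟨m, hm⟩ : ∃ m, α = 2 * m + 1 := ⟨α / 2, by omega⟩
    apply hq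
    rw [hm, pow_succ, pow_mul, Nat.mul_mod, Nat.pow_mod]
    have h3 : ∀ m : ℕ, 4 ^ m % 7 = 1 ∨ 4 ^ m % 7 = 4 ∨ 4 ^ m % 7 = 2 := fun m => by
      induction m with
      | zero => norm_num
      | succ m ih => rw [pow_succ, Nat.mul_mod]; rcases ih with e | e | e <;> rw [e] <;> norm_num
    rcases h3 m with e | e | e <;> norm_num [e]
  · obtain ⟨g, rfl⟩ := Cfsg.Agent.Lib.Alternating.conjNormal_surjective (α := Fin 7)
      (by norm_num) (by norm_num) β
    by_cases hg : g ∈ alternatingGroup (Fin 7)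
    · exact ⟨⟨g, hg⟩, by ext x; simp⟩
    exfalso
    have hmem : (c[1, 3, 2, 6, 4, 5] : Perm (Fin 7)) * g⁻¹ ∈ alternatingGroup (Fin 7) := by
      rw [Equiv.Perm.mem_alternatingGroup] at hg ⊢
      rcases Int.units_eq_one_or (Perm.sign g) with e | e
      · exact absurd e hg
      · rw [map_mul, map_inv, e]; decide
    have h1 := π.range.mul_mem (heven _ hmem) hβ
    rw [← map_mul, inv_mul_cancel_right] at h1
    exact hbad 3 (hgood _ 3 h1 (Equiv.ext (by decide))) (Or.inl rfl)

end Cfsg.Agent.Lib.Mitchell3
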