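import Cfsg.Agent.Lib.Mitchell3.Reduce
import Cfsg.Agent.Lib.Mitchell3.Ident
import Cfsg.Agent.Lib.Mitchell3.IdentAlt
import Cfsg.Agent.Lib.Linear.SmallIso.PSL9

/-!
Mitchell package: the irreducible transvection-free subgroups of `PSL(3, q)`, `q` odd, without abelian normal
subgroups.
-/

set_option autoImplicit false
set_option linter.unusedSectionVars false
set_option linter.style.haveILetI false

namespace Cfsg.Agent.Lib.Mitchell3

open Matrix
open Cfsg.Agent.Lib.PrimeDim.Basic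
open Cfsg.Agent.Lib.AutPSL (conjAut)

universe u v

/-- Transport of automorphisms along an isomorphism. -/
def autCongr {N : Type*} {T : Type*} [Group N] [Group T] (e : N ≃* T) : MulAut N →* MulAut T where
  toFun a := e.symm.trans (a.trans e)
  map_one' := MulEquiv.ext fun x => by simp
  map_mul' a b := MulEquiv.ext fun x => by simp

theorem autCongr_injective {N : Type*} {T : Type*} [Group N] [Group T] (e : N ≃* T) :
    Function.Injective (autCongr e) := fun a b h => MulEquiv.ext fun x => by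
  have := MulEquiv.congr_fun h (e x)
  simpa [autCongr] using this

section Faithful

variable {H : Type*} [Group H] (N : Subgroup H) [N.Normal]

theorem conjNormal_injective (hc : ∀ h : H, (∀ n ∈ N, h * n = n * h) → h = 1) :
    Function.Injective (MulAut.conjNormal : H →* MulAut N) := by
  refine (injective_iff_map_eq_one _).mpr fun h hh => hc h fun n hn => ?_
  have := congrArg Subtype.val (MulEquiv.congr_fun hh ⟨n, hn⟩)
  rw [MulAut.conjNormal_apply, MulAut.one_apply, mul_inv_eq_iff_eq_mul] at this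
  exact this

theorem inn_le_range {T : Type*} [Group T] (e : N ≃* T) :
    Cfsg.Inn T ≤ ((autCongr e).comp MulAut.conjNormal).range := by
  rintro _ ⟨t, rfl⟩
  refine ⟨(e.symm t : H), MulEquiv.ext fun x => ?_⟩
  show e (MulAut.conjNormal (e.symm t : H) (e.symm x)) = MulAut.conj t x
  have h1 : (MulAut.conjNormal (e.symm t : H) (e.symm x) : N) = e.symm t * e.symm x * (e.symm t)⁻¹ :=
    Subtype.ext (by rw [MulAut.conjNormal_apply]; rfl)
  rw [h1]
  simp

end Faithful

/-- The last five cases. -/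
def SmallCases (p α : ℕ) (H : Type*) [Group H] : Prop :=
    (∃ (K : Type) (_ : Field K) (_ : Fintype K) (β : ℕ), Fintype.card K = p ^ β ∧ β ∣ α ∧ p ^ β ≠ 3 ∧ (Nonempty (H ≃* Matrix.ProjectiveSpecialLinearGroup (Fin 2) K) ∨ Nonempty (H ≃* (GL (Fin 2) K ⧸ Subgroup.center (GL (Fin 2) K))))) ∨
    ((p ^ α % 10 = 1 ∨ p ^ α % 10 = 9) ∧ ∃ (K : Type) (_ : Field K) (_ : Fintype K), Fintype.card K = 5 ∧ Nonempty (H ≃* Matrix.ProjectiveSpecialLinearGroup (Fin 2) K)) ∨
    ((p ^ α) ^ 3 % 7 = 1 ∧ ∃ (K : Type) (_ : Field K) (_ : Fintype K), Fintype.card K = 7 ∧ Nonempty (H ≃* Matrix.ProjectiveSpecialLinearGroup (Fin 2) K)) ∨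
    (p = 5 ∧ Even α ∧ (Nonempty (H ≃* ↥(alternatingGroup (Fin 6))) ∨ Nonempty (H ≃* ↥(alternatingGroup (Fin 7))) ∨
      ∃ L : Subgroup H, L.index = 2 ∧ Nonempty (↥L ≃* ↥(alternatingGroup (Fin 6))))) ∨
    ((p ^ α % 30 = 1 ∨ p ^ α % 30 = 19) ∧ Nonempty (H ≃* ↥(alternatingGroup (Fin 6))))

theorem psl_inn_equiv {E : Type} [Field E] [Fintype E] :
    Nonempty (Matrix.ProjectiveSpecialLinearGroup (Fin 2) E ≃*
      Cfsg.Inn (Matrix.ProjectiveSpecialLinearGroup (Fin 2) E)) :=
  ⟨MonoidHom.ofInjective conj_psl_injective⟩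

theorem pgl_range_equiv {E : Type} [Field E] [Fintype E] :
    Nonempty ((GL (Fin 2) E ⧸ Subgroup.center (GL (Fin 2) E)) ≃*
      (conjAut : GL (Fin 2) E →* MulAut (Matrix.ProjectiveSpecialLinearGroup (Fin 2) E)).range) := by
  have hk : (conjAut : GL (Fin 2) E →* MulAut (Matrix.ProjectiveSpecialLinearGroup (Fin 2) E)).ker =
      Subgroup.center (GL (Fin 2) E) := by
    ext g
    rw [MonoidHom.mem_ker]
    constructor
    · intro hg
      exact (Cfsg.Agent.Lib.AutPSL.eq_one_of_conj_field le_rfl (g := g) (σ := 1)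
        (by rw [hg, map_one, mul_one])).1
    · exact Cfsg.Agent.Lib.AutPSL.conjAut_eq_one_of_center
  exact ⟨(QuotientGroup.quotientMulEquivOfEq hk.symm).trans
    (QuotientGroup.quotientKerEquivRange _)⟩

theorem sq_mod_five {x : ℕ} (h : x ^ 2 % 5 = 1) : x % 5 = 1 ∨ x % 5 = 4 := by
  rw [Nat.pow_mod] at h
  have : x % 5 < 5 := Nat.mod_lt _ (by norm_num)
  rcases (by omega : x % 5 = 0 ∨ x % 5 = 1 ∨ x % 5 = 2 ∨ x % 5 = 3 ∨ x % 5 = 4) with e | e | e | e | e <;>
    rw [e] at h <;> omega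

/-- The irreducible transvection-free case. -/
theorem tf_cases {F : Type u} [Field F] [Fintype F] {p α : ℕ} [Fact p.Prime] [CharP F p] (hp : p ≠ 2)
    (hF : Fintype.card F = p ^ α) {P : Subgroup (GL (Fin 3) F)} (hSL : InSL P) (hTF : IsTF P)
    (hirr : Irred P) {H : Type v} [Group H] [Finite H] [Nontrivial H] (f : P →* H)
    (hf : Function.Surjective f) (hker : ∀ x, f x = 1 ↔ IsSc (x : GL (Fin 3) F))
    (hab : ∀ N : Subgroup H, N.Normal → (∀ x ∈ N, ∀ y ∈ N, x * y = y * x) → N = ⊥) :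
    SmallCases p α H := by
  classical
  have hpp : p.Prime := Fact.out
  have hodd : p ^ α % 2 = 1 := Nat.odd_iff.mp (hpp.odd_of_ne_two hp).pow
  obtain ⟨N, hN, hcent, hknown⟩ := exists_socle hp hSL hTF hirr f hf hker hab
  haveI := hN
  set K := AlgebraicClosure F
  haveI : CharP K p := charP_of_injective_algebraMap (algebraMap F K).injective p
  let eP : P ≃* P.map (baseChange K) := P.equivMapOfInjective _ (baseChange_injective K)
  -- the general machinery
  have setup : ∀ (T : Type) [Group T] (e : N ≃* T),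
      ∃ π : P.map (baseChange K) →* MulAut T, Hyp p α π ∧ Cfsg.Inn T ≤ π.range ∧ Nonempty (H ≃* π.range) := by
    intro T _ e
    let ψ : H →* MulAut T := (autCongr e).comp MulAut.conjNormal
    have hψ : Function.Injective ψ := (autCongr_injective e).comp (conjNormal_injective N hcent)
    let g : P.map (baseChange K) →* H := f.comp eP.symm.toMonoidHom
    have hg : Function.Surjective g := hf.comp eP.symm.surjective
    have hrange : (ψ.comp g).range = ψ.range := by
      rw [MonoidHom.range_comp, MonoidHom.range_eq_top.mpr hg, ← MonoidHom.range_eq_map]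
    refine ⟨ψ.comp g, ⟨baseChange_inSL hSL, baseChange_tf hTF, fun x => ?_, ?_⟩, ?_, ?_⟩
    · obtain ⟨y, rfl⟩ := eP.surjective x
      show ψ (f (eP.symm (eP y))) = 1 ↔ IsSc (baseChange K (y : GL (Fin 3) F))
      rw [eP.symm_apply_apply, baseChange_isSc, ← hker, map_eq_one_iff ψ hψ]
    · rintro _ ⟨y, -, rfl⟩ i j
      exact baseChange_fix hF y i j
    · rw [hrange]; exact inn_le_range N e
    · rw [hrange]; exact ⟨MonoidHom.ofInjective hψ⟩
  rcases hknown with ⟨E, fE, fiE, hoddE, h3, ⟨e⟩⟩ | hA7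
  swap
  · obtain ⟨e⟩ := hA7
    obtain ⟨π, hh, hInn, ⟨eH⟩⟩ := setup _ e
    obtain ⟨hp5, hev, hr⟩ := ident_alt π hh hInn
    refine Or.inr (Or.inr (Or.inr (Or.inl ⟨hp5, hev, Or.inr (Or.inl ?_)⟩)))
    rw [hr] at eH
    have hcj : Function.Injective (MulAut.conj : alternatingGroup (Fin 7) →* _) := by
      refine (injective_iff_map_eq_one _).mpr fun z hz => ?_
      have h1 : z ∈ Subgroup.center (alternatingGroup (Fin 7)) := Subgroup.mem_center_iff.mpr fun x => by
        have := MulEquiv.congr_fun hz x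
        rw [MulAut.conj_apply, MulAut.one_apply, mul_inv_eq_iff_eq_mul] at this
        exact this.symm
      rwa [alternatingGroup.center_eq_bot (by simp), Subgroup.mem_bot] at h1
    exact ⟨eH.trans (MonoidHom.ofInjective hcj).symm⟩
  letI := fE
  letI := fiE
  obtain ⟨π, hh, hInn, ⟨eH⟩⟩ := setup _ e
  obtain ⟨einn⟩ := psl_inn_equiv (E := E)
  have toPSL : π.range = Cfsg.Inn (Matrix.ProjectiveSpecialLinearGroup (Fin 2) E) →
      Nonempty (H ≃* Matrix.ProjectiveSpecialLinearGroup (Fin 2) E) := fun hr =>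
    ⟨eH.trans ((MulEquiv.subgroupCongr hr).trans einn.symm)⟩
  rcases ident_psl hh hInn hoddE h3 hp with ⟨b, hb, hbα, hr⟩ | ⟨h5, -, hq, hr⟩ | ⟨h7, -, hq, hr⟩ |
    ⟨h9, -, hq3, hr⟩
  · refine Or.inl ⟨E, fE, fiE, b, hb, hbα, by omega, ?_⟩
    rcases hr with hr | hr
    · exact Or.inl (toPSL hr)
    · obtain ⟨epgl⟩ := pgl_range_equiv (E := E)
      exact Or.inr ⟨eH.trans ((MulEquiv.subgroupCongr hr).trans epgl.symm)⟩
  · refine Or.inr (Or.inl ⟨?_, E, fE, fiE, h5, toPSL hr⟩)
    have h14 := sq_mod_five hq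
    omega
  · exact Or.inr (Or.inr (Or.inl ⟨hq, E, fE, fiE, h7, toPSL hr⟩))
  obtain ⟨e6⟩ := Cfsg.Agent.Lib.Linear.SmallIso.nonempty_psl_two_nine h9
  rcases hr with ⟨hp5, hr⟩ | ⟨hp5, hq5, hr⟩
  · subst hp5
    have hev : Even α := by
      rw [Nat.even_iff]
      by_contra hne
      obtain ⟨m, hm⟩ : ∃ m, α = 2 * m + 1 := ⟨α / 2, by omega⟩
      have h25 : ∀ j : ℕ, (5 ^ 2) ^ j % 3 = 1 := fun j => by
        induction j with
        | zero => rfl
        | succ j ih =>
          rw [pow_succ, Nat.mul_mod, ih]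
          norm_num
      rw [hm, pow_succ, pow_mul, Nat.mul_mod, h25] at hq3
      omega
    refine Or.inr (Or.inr (Or.inr (Or.inl ⟨rfl, hev, ?_⟩)))
    rcases hr with hr | hr
    · exact Or.inl ((toPSL hr).map fun e' => e'.trans e6)
    · refine Or.inr (Or.inr ?_)
      set L := (Cfsg.Inn (Matrix.ProjectiveSpecialLinearGroup (Fin 2) E)).subgroupOf π.range
      refine ⟨L.comap eH.toMonoidHom, by rw [Subgroup.index_comap_of_surjective _ eH.surjective]; exact hr, ⟨?_⟩⟩
      exact (((eH.subgroupMap (L.comap eH.toMonoidHom)).trans (MulEquiv.subgroupCongr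
        (Subgroup.map_comap_eq_self_of_surjective eH.surjective L))).trans
        (Subgroup.subgroupOfEquivOfLe hInn)).trans (einn.symm.trans e6)
  · refine Or.inr (Or.inr (Or.inr (Or.inr ⟨?_, (toPSL hr).map fun e' => e'.trans e6⟩)))
    have h14 := sq_mod_five hq5
    omega

end Cfsg.Agent.Lib.Mitchell3
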