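import Cfsg.Agent.Lib.Mitchell3.Dihedral
import Cfsg.Agent.Lib.PrimeDim.Basic

/-!
Mitchell package: from an irreducible transvection-free group over a finite field without normal abelian
subgroups in the projective image to the simple socle and its type.
-/

set_option autoImplicit false
set_option linter.unusedSectionVars false
set_option linter.style.haveILetI false

namespace Cfsg.Agent.Lib.Mitchell3

open Matrix Module
open Cfsg.Agent.Lib.Subspaces.Transvection
open Cfsg.Agent.Lib.PrimeDim.Basic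
open scoped commutatorElement
open Cfsg.Agent.Lib.GorensteinWalter (IsKnownD)

section Groups

variable {H : Type*} [Group H]

/-- Without elementary abelian normal subgroups there are no abelian ones. -/
theorem no_abelian [Finite H]
    (hN : ∀ N : Subgroup H, N.Normal → IsMulCommutative ↥N → (∃ r : ℕ, r.Prime ∧ ∀ x ∈ N, x ^ r = 1) → N = ⊥)
    (N : Subgroup H) (hn : N.Normal) (hc : ∀ x ∈ N, ∀ y ∈ N, x * y = y * x) : N = ⊥ := by
  by_contra hne
  have h1 : 1 < Nat.card N := Subgroup.one_lt_card_iff_ne_bot N |>.mpr hne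
  obtain ⟨r, hr, hrd⟩ := Nat.exists_prime_and_dvd (show Nat.card N ≠ 1 by omega)
  haveI := Fact.mk hr
  obtain ⟨z, hz⟩ := exists_prime_orderOf_dvd_card' r hrd
  let M : Subgroup H :=
    { carrier := {x | x ∈ N ∧ x ^ r = 1}
      one_mem' := ⟨N.one_mem, one_pow r⟩
      mul_mem' := fun {a b} ha hb => ⟨N.mul_mem ha.1 hb.1, by
        rw [(show Commute a b from hc a ha.1 b hb.1).mul_pow, ha.2, hb.2, one_mul]⟩
      inv_mem' := fun {a} ha => ⟨N.inv_mem ha.1, by rw [inv_pow, ha.2, inv_one]⟩ }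
  have hM : M.Normal := ⟨fun x hx g => ⟨hn.conj_mem x hx.1 g, by rw [conj_pow, hx.2, mul_one, mul_inv_cancel]⟩⟩
  have hMc : IsMulCommutative ↥M := ⟨⟨fun a b => Subtype.ext (hc a a.2.1 b b.2.1)⟩⟩
  have hb := hN M hM hMc ⟨r, hr, fun x hx => hx.2⟩
  have hzM : (z : H) ∈ M := ⟨z.2, by rw [← Subgroup.coe_pow, ← hz, pow_orderOf_eq_one, Subgroup.coe_one]⟩
  rw [hb, Subgroup.mem_bot] at hzM
  rw [show z = 1 from Subtype.ext hzM, orderOf_one] at hz
  exact hr.ne_one hz.symm

/-- A solvable group without abelian normal subgroups is trivial. -/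
theorem not_solvable [Nontrivial H]
    (hab : ∀ N : Subgroup H, N.Normal → (∀ x ∈ N, ∀ y ∈ N, x * y = y * x) → N = ⊥) :
    ¬ Group.IsSolvable H := by
  intro hs
  obtain ⟨n, hn⟩ := hs.solvable
  induction n with
  | zero =>
    rw [derivedSeries_zero] at hn
    exact top_ne_bot hn
  | succ n ih =>
    refine ih (hab _ (derivedSeries_normal H n) fun x hx y hy => ?_)
    have h1 : ⁅x, y⁆ ∈ derivedSeries H (n + 1) := by
      rw [derivedSeries_succ]; exact Subgroup.commutator_mem_commutator hx hy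
    rw [hn, Subgroup.mem_bot] at h1
    exact commutatorElement_eq_one_iff_mul_comm.mp h1

/-- `N` is normalised by `h`. -/
def NormBy (N : Subgroup H) (h : H) : Prop := ∀ x ∈ N, h * x * h⁻¹ ∈ N

theorem commutator_conj_mem {A B : Subgroup H} {h : H} (hA : NormBy A h) (hB : NormBy B h) :
    NormBy ⁅A, B⁆ h := by
  intro x hx
  have : (⁅A, B⁆).map (MulAut.conj h).toMonoidHom ≤ ⁅A, B⁆ := by
    rw [Subgroup.map_commutator]
    refine Subgroup.commutator_mono ?_ ?_
    · rintro _ ⟨a, ha, rfl⟩; exact hA a ha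
    · rintro _ ⟨b, hb, rfl⟩; exact hB b hb
  exact this ⟨x, hx, rfl⟩

end Groups

section Preimage

variable {F : Type*} [Field F] {P : Subgroup (GL (Fin 3) F)} {H : Type*} [Group H] {f : P →* H}

/-- The derived subgroup of the preimage. -/
def dPre (f : P →* H) (N : Subgroup H) : Subgroup (GL (Fin 3) F) :=
  (⁅N.comap f, N.comap f⁆).map P.subtype

theorem dPre_le (N : Subgroup H) : dPre f N ≤ P := Subgroup.map_subtype_le _

variable (hf : Function.Surjective f) (hker : ∀ x, f x = 1 ↔ IsSc (x : GL (Fin 3) F))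
include hf hker

theorem fker_commute {z : P} (hz : f z = 1) (x : P) : Commute z x :=
  Subtype.ext (sc_commute ((hker z).mp hz) (x : GL (Fin 3) F)).eq

/-- An element centralising `N` modulo the scalars centralises the derived preimage. -/
theorem commute_dPre {N : Subgroup H} {x : P} (hx : ∀ n ∈ N, f x * n = n * f x) {g : GL (Fin 3) F}
    (hg : g ∈ dPre f N) : Commute (x : GL (Fin 3) F) g := by
  obtain ⟨d, hd, rfl⟩ := hg
  have hle : ⁅N.comap f, N.comap f⁆ ≤ Subgroup.centralizer {x} := by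
    rw [Subgroup.commutator_le]
    intro a ha b hb
    rw [Subgroup.mem_centralizer_singleton_iff]
    have hz : ∀ c : P, c ∈ N.comap f → f (x * c * x⁻¹ * c⁻¹) = 1 := fun c hc => by
      rw [map_mul, map_mul, map_mul, map_inv, map_inv, hx _ hc, mul_inv_cancel_right, mul_inv_cancel]
    have ea : x * a * x⁻¹ = (x * a * x⁻¹ * a⁻¹) * a := (inv_mul_cancel_right _ _).symm
    have eb : x * b * x⁻¹ = (x * b * x⁻¹ * b⁻¹) * b := (inv_mul_cancel_right _ _).symm
    have key : x * ⁅a, b⁆ * x⁻¹ = ⁅a, b⁆ := by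
      rw [conjugate_commutatorElement, ea, eb]
      generalize hza : x * a * x⁻¹ * a⁻¹ = za
      generalize hzb : x * b * x⁻¹ * b⁻¹ = zb
      have ca := fker_commute hf hker (hza ▸ hz a ha)
      have cb := fker_commute hf hker (hzb ▸ hz b hb)
      simp only [commutatorElement_def, _root_.mul_inv_rev]
      rw [← mul_assoc (za * a) zb, mul_assoc za a, ← (cb a).eq,
        show za * (zb * a) * b * (a⁻¹ * za⁻¹) * (b⁻¹ * zb⁻¹) =
          za * (zb * a * b * a⁻¹) * za⁻¹ * (b⁻¹ * zb⁻¹) by group,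
        (ca _).eq, mul_inv_cancel_right,
        show zb * a * b * a⁻¹ * (b⁻¹ * zb⁻¹) = zb * (a * b * a⁻¹ * b⁻¹) * zb⁻¹ by group,
        (cb _).eq, mul_inv_cancel_right]
    first | exact (mul_inv_eq_iff_eq_mul.mp key) | exact (mul_inv_eq_iff_eq_mul.mp key).symm
  have := Subgroup.mem_centralizer_singleton_iff.mp (hle hd)
  show (x : GL (Fin 3) F) * (d : GL (Fin 3) F) = (d : GL (Fin 3) F) * (x : GL (Fin 3) F)
  first
    | exact congrArg Subtype.val this
    | exact (congrArg Subtype.val this).symm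

theorem map_dPre (N : Subgroup H) (hN : ⁅N, N⁆ = N) :
    (⁅N.comap f, N.comap f⁆).map f = N := by
  rw [Subgroup.map_commutator, Subgroup.map_comap_eq_self_of_surjective hf, hN]

theorem dPre_perfect (N : Subgroup H) (hN : ⁅N, N⁆ = N) : ⁅dPre f N, dPre f N⁆ = dPre f N := by
  rw [dPre, ← Subgroup.map_commutator]
  congr 1
  set Q := N.comap f with hQ
  refine le_antisymm (Subgroup.commutator_mono (by
    rw [Subgroup.commutator_le]; exact fun a ha b hb =>
      Q.mul_mem (Q.mul_mem (Q.mul_mem ha hb) (Q.inv_mem ha)) (Q.inv_mem hb)) (by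
    rw [Subgroup.commutator_le]; exact fun a ha b hb =>
      Q.mul_mem (Q.mul_mem (Q.mul_mem ha hb) (Q.inv_mem ha)) (Q.inv_mem hb))) ?_
  rw [Subgroup.commutator_le]
  intro a ha b hb
  have split : ∀ c ∈ Q, ∃ d ∈ ⁅Q, Q⁆, f (c * d⁻¹) = 1 := fun c hc => by
    have : f c ∈ (⁅Q, Q⁆).map f := by rw [map_dPre hf hker N hN]; exact hc
    obtain ⟨d, hd, he⟩ := this
    exact ⟨d, hd, by rw [map_mul, map_inv, he, mul_inv_cancel]⟩
  obtain ⟨a', ha', hza⟩ := split a ha
  obtain ⟨b', hb', hzb⟩ := split b hb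
  have e : ⁅a, b⁆ = ⁅a', b'⁆ := by
    rw [← inv_mul_cancel_right a a', ← inv_mul_cancel_right b b']
    generalize a * a'⁻¹ = za at hza
    generalize b * b'⁻¹ = zb at hzb
    have ca := fker_commute hf hker hza
    have cb := fker_commute hf hker hzb
    simp only [commutatorElement_def, _root_.mul_inv_rev]
    rw [← mul_assoc (za * a') zb, mul_assoc za a', ← (cb a').eq,
      show za * (zb * a') * b' * (a'⁻¹ * za⁻¹) * (b'⁻¹ * zb⁻¹) =
        za * (zb * a' * b' * a'⁻¹) * za⁻¹ * (b'⁻¹ * zb⁻¹) by group,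
      (ca _).eq, mul_inv_cancel_right,
      show zb * a' * b' * a'⁻¹ * (b'⁻¹ * zb⁻¹) = zb * (a' * b' * a'⁻¹ * b'⁻¹) * zb⁻¹ by group,
      (cb _).eq, mul_inv_cancel_right]
  rw [e]
  exact Subgroup.commutator_mem_commutator ha' hb'

theorem dPre_ne_bot (N : Subgroup H) (hN : ⁅N, N⁆ = N) (hne : N ≠ ⊥) : dPre f N ≠ ⊥ := by
  intro e
  rw [dPre, Subgroup.map_eq_bot_iff_of_injective _ P.subtype_injective] at e
  apply hne
  rw [← map_dPre hf hker N hN, e, Subgroup.map_bot]

theorem dPre_normalizedBy (N : Subgroup H) {M : Subgroup (GL (Fin 3) F)} (hM : M ≤ P)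
    (hn : ∀ (x : GL (Fin 3) F) (hx : x ∈ M), NormBy N (f ⟨x, hM hx⟩)) : NormalizedBy M (dPre f N) := by
  rintro x hx _ ⟨d, hd, rfl⟩
  have hQ : NormBy (N.comap f) (⟨x, hM hx⟩ : P) := fun c hc => by
    rw [Subgroup.mem_comap, map_mul, map_mul, map_inv]
    exact hn x hx _ hc
  exact ⟨_, commutator_conj_mem hQ hQ d hd, rfl⟩

end Preimage

variable {F : Type*} [Field F]

/-- A perfect non-trivial subgroup normalised by an irreducible one is absolutely irreducible. -/
theorem perfect_absIrred [Finite F] {M D : Subgroup (GL (Fin 3) F)} (hM : Irred M) (hMD : NormalizedBy M D)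
    (hD : ⁅D, D⁆ = D) (hne : D ≠ ⊥) :
    Irred D ∧ Cfsg.Geo.ActsAbsolutelyIrreducibly (Cfsg.Geo.matrixSet D) := by
  have hcomm : ¬ ∀ x ∈ D, ∀ y ∈ D, x * y = y * x := fun hc => hne (by
    rw [← hD, eq_bot_iff, Subgroup.commutator_le]
    intro a ha b hb
    rw [Subgroup.mem_bot, commutatorElement_eq_one_iff_mul_comm]
    exact hc a ha b hb)
  have hirr : Irred D := by
    rcases clifford (by rw [Fintype.card_fin]; exact Nat.prime_three) hM hMD with h | h | ⟨_, -, -, h, -⟩
    · exact absurd (fun x hx y _ => (sc_commute (isSc_iff.mpr (h hx)) y).eq) hcomm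
    · exact h
    · exact absurd h hcomm
  refine ⟨hirr, (abs_or_field (by rw [Fintype.card_fin]; exact Nat.prime_three) hirr).resolve_right ?_⟩
  rintro ⟨hC, -, hdim⟩
  apply hcomm
  set C := commutant D
  let e0 : Fin 3 → F := Pi.single 0 1
  have he0 : e0 ≠ 0 := by simp [e0]
  let φ : C →ₗ[F] (Fin 3 → F) :=
    { toFun := fun k => (k : Matrix (Fin 3) (Fin 3) F) *ᵥ e0
      map_add' := fun a b => by simp [add_mulVec]
      map_smul' := fun c a => by simp [smul_mulVec] }
  have hinj : Function.Injective φ := by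
    refine LinearMap.ker_eq_bot.mp (eq_bot_iff.mpr fun k hk => ?_)
    rw [LinearMap.mem_ker] at hk
    by_contra h0
    have hu := isUnit_of_mem_commutant hirr k.2 (fun e => h0 (Submodule.mem_bot F |>.mpr (Subtype.ext e)))
    exact he0 ((Matrix.mulVec_injective_iff_isUnit.mpr hu) (by simpa [φ] using hk))
  have hdim' : Module.finrank F C = Module.finrank F (Fin 3 → F) := by
    rw [finrank_fin_fun]; exact hdim.trans (Fintype.card_fin 3)
  have hsurj := (LinearMap.injective_iff_surjective_of_finrank_eq_finrank hdim').mp hinj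
  have hmem : ∀ x ∈ D, (x : Matrix (Fin 3) (Fin 3) F) ∈ C := by
    intro x hx
    obtain ⟨k, hk⟩ := hsurj ((x : Matrix (Fin 3) (Fin 3) F) *ᵥ e0)
    convert k.2
    refine Matrix.mulVec_injective (funext fun v => ?_)
    obtain ⟨l, rfl⟩ := hsurj v
    show (x : Matrix (Fin 3) (Fin 3) F) *ᵥ ((l : Matrix (Fin 3) (Fin 3) F) *ᵥ e0) =
      (k : Matrix (Fin 3) (Fin 3) F) *ᵥ ((l : Matrix (Fin 3) (Fin 3) F) *ᵥ e0)
    rw [mulVec_mulVec, (mem_commutant.mp l.2 x hx), ← mulVec_mulVec]
    rw [mulVec_mulVec (M := (k : Matrix (Fin 3) (Fin 3) F)), hC _ k.2 _ l.2, ← mulVec_mulVec]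
    congr 1
    exact hk.symm
  intro x hx y hy
  exact Units.ext (hC _ (hmem x hx) _ (hmem y hy))

section Closure

variable (K : Type*) [Field K] [Algebra F K]

/-- Extension of scalars. -/
noncomputable def baseChange : GL (Fin 3) F →* GL (Fin 3) K :=
  Matrix.GeneralLinearGroup.map (algebraMap F K)

theorem coe_baseChange (g : GL (Fin 3) F) :
    (baseChange K g : Matrix (Fin 3) (Fin 3) K) = (g : Matrix (Fin 3) (Fin 3) F).map (algebraMap F K) := rfl

theorem baseChange_injective : Function.Injective (baseChange K (F := F)) := fun a b e =>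
  Units.ext (Matrix.map_injective (algebraMap F K).injective (congrArg Units.val e))

variable {K}

theorem baseChange_isSc {g : GL (Fin 3) F} : IsSc (baseChange K g) ↔ IsSc g := by
  constructor
  · rintro ⟨c, hc⟩
    refine ⟨(g : Matrix (Fin 3) (Fin 3) F) 0 0, Matrix.map_injective (algebraMap F K).injective ?_⟩
    show (g : Matrix (Fin 3) (Fin 3) F).map (algebraMap F K) = _
    have h0 := congrFun (congrFun hc 0) 0
    simp [coe_baseChange] at h0
    rw [← coe_baseChange, hc, ← h0]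
    ext i j
    by_cases hij : i = j
    · subst hij; simp
    · simp [hij]
  · rintro ⟨c, hc⟩
    refine ⟨algebraMap F K c, ?_⟩
    rw [coe_baseChange, hc]
    ext i j
    by_cases hij : i = j
    · subst hij; simp
    · simp [hij]

theorem baseChange_inSL {P : Subgroup (GL (Fin 3) F)} (hP : InSL P) : InSL (P.map (baseChange K)) := by
  rintro _ ⟨g, hg, rfl⟩
  rw [coe_baseChange, ← RingHom.mapMatrix_apply, ← RingHom.map_det, hP g hg, map_one]

theorem baseChange_tf {P : Subgroup (GL (Fin 3) F)} (hP : IsTF P) : IsTF (P.map (baseChange K)) := by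
  intro v φ h0 hmem
  obtain ⟨g, hg, hgv⟩ := hmem
  set N := (g : Matrix (Fin 3) (Fin 3) F) - 1 with hN
  have hNK : N.map (algebraMap F K) = vecMulVec v φ := by
    rw [hN, Matrix.map_sub _ (map_sub (algebraMap F K)), ← coe_baseChange, hgv, coe_tv h0,
      Matrix.map_one _ (map_zero (algebraMap F K)) (map_one (algebraMap F K)), add_sub_cancel_left]
  by_cases hN0 : N = 0
  · rw [← hgv, show g = 1 from Units.ext (sub_eq_zero.mp hN0), map_one]
  obtain ⟨i₀, j₀, h00⟩ : ∃ i j, N i j ≠ 0 := by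
    by_contra hc
    push Not at hc
    exact hN0 (Matrix.ext hc)
  have hent : ∀ i j, algebraMap F K (N i j) = v i * φ j := fun i j => by
    have := congrFun (congrFun hNK i) j
    simpa [vecMulVec_apply] using this
  set u : Fin 3 → F := fun i => N i j₀
  set ψ : Fin 3 → F := fun j => N i₀ j / N i₀ j₀
  have hfac : N = vecMulVec u ψ := by
    ext i j
    rw [vecMulVec_apply, ← mul_div_assoc, eq_div_iff h00]
    apply (algebraMap F K).injective
    rw [map_mul, map_mul, hent, hent, hent, hent]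
    ring
  have hψ : ψ ⬝ᵥ u = 0 := by
    apply (algebraMap F K).injective
    rw [map_zero, dotProduct, map_sum]
    have hsum : φ ⬝ᵥ v = 0 := h0
    simp only [u, ψ, map_mul, map_div₀, hent]
    calc ∑ x, v i₀ * φ x / (v i₀ * φ j₀) * (v x * φ j₀)
        = (v i₀ * φ j₀ / (v i₀ * φ j₀)) * ∑ x, φ x * v x := by
          rw [Finset.mul_sum]; exact Finset.sum_congr rfl fun x _ => by ring
      _ = 0 := by rw [show ∑ x, φ x * v x = 0 from hsum, mul_zero]
  have hg1 : g = tv u ψ := Units.ext (by rw [coe_tv hψ, ← hfac, hN]; abel)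
  rw [← hgv, hg1, hP u ψ hψ (hg1 ▸ hg), map_one]

theorem baseChange_fix {p α : ℕ} [Fintype F] (hF : Fintype.card F = p ^ α) (g : GL (Fin 3) F) (i j : Fin 3) :
    (baseChange K g : Matrix (Fin 3) (Fin 3) K) i j ^ p ^ α = (baseChange K g : Matrix (Fin 3) (Fin 3) K) i j := by
  rw [coe_baseChange, Matrix.map_apply, ← map_pow, ← hF, FiniteField.pow_card]

end Closure

theorem locFin_algebraicClosure [Finite F] : LocFin (AlgebraicClosure F) := by
  intro s
  haveI : FiniteDimensional F (IntermediateField.adjoin F (s : Set (AlgebraicClosure F))) :=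
    IntermediateField.finiteDimensional_adjoin fun x _ => Algebra.IsIntegral.isIntegral x
  exact ⟨(IntermediateField.adjoin F (s : Set (AlgebraicClosure F))).toSubfield,
    Module.finite_of_finite F (M := IntermediateField.adjoin F (s : Set (AlgebraicClosure F))),
    IntermediateField.subset_adjoin F _⟩

/-- A perfect transvection-free group with non-abelian simple central quotient is of known type. -/
theorem known_of_perfect [Fintype F] {p : ℕ} [Fact p.Prime] [CharP F p] (hp : p ≠ 2)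
    {D : Subgroup (GL (Fin 3) F)} (hSL : InSL D) (hTF : IsTF D) {T : Type*} [Group T] (g : D →* T)
    (hg : Function.Surjective g) (hker : ∀ x, g x = 1 ↔ IsSc (x : GL (Fin 3) F))
    (hs : IsSimpleGroup T) (hnc : ¬ IsMulCommutative T) : IsKnownD T := by
  set K := AlgebraicClosure F
  haveI : CharP K p := charP_of_injective_algebraMap (algebraMap F K).injective p
  let e : D ≃* D.map (baseChange K) := D.equivMapOfInjective _ (baseChange_injective K)
  let g' : D.map (baseChange K) →* T := g.comp e.symm.toMonoidHom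
  have hg' : Function.Surjective g' := hg.comp e.symm.surjective
  have hk' : g'.ker = scIn (D.map (baseChange K)) := by
    ext y
    obtain ⟨x, rfl⟩ := e.surjective y
    rw [MonoidHom.mem_ker, mem_scIn]
    show g (e.symm (e x)) = 1 ↔ IsSc (baseChange K (x : GL (Fin 3) F))
    rw [e.symm_apply_apply, hker, baseChange_isSc]
  let q : (D.map (baseChange K)) ⧸ scIn (D.map (baseChange K)) ≃* T :=
    (QuotientGroup.quotientMulEquivOfEq hk'.symm).trans (QuotientGroup.quotientKerEquivOfSurjective g' hg')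
  haveI : Finite (D.map (baseChange K)) := Finite.of_equiv _ e.toEquiv
  haveI := hs
  have hc : Ctx (D.map (baseChange K)) :=
    { fin := inferInstance
      loc := locFin_algebraicClosure
      two := fun e2 => hp ((Nat.prime_dvd_prime_iff_eq (Fact.out : p.Prime) Nat.prime_two).mp
        ((CharP.cast_eq_zero_iff K p 2).mp (by exact_mod_cast e2)))
      sl := baseChange_inSL hSL
      tf := baseChange_tf hTF
      simple := by
        haveI : Nontrivial ((D.map (baseChange K)) ⧸ scIn (D.map (baseChange K))) := q.toEquiv.nontrivial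
        exact IsSimpleGroup.isSimpleGroup_of_surjective q.symm.toMonoidHom q.symm.surjective
      nonab := fun hc => hnc ⟨⟨fun a b => q.symm.injective (by
        rw [map_mul, map_mul]; exact hc.is_comm.comm _ _)⟩⟩ }
  rcases hc.known (p := p) with ⟨E, fE, fiE, h1, h2, ⟨e1⟩⟩ | h7
  · exact Or.inl ⟨E, fE, fiE, h1, h2, ⟨q.symm.trans e1⟩⟩
  · exact Or.inr (h7.map fun e1 => q.symm.trans e1)

/-- The socle of a projective irreducible transvection-free group. -/
theorem exists_socle [Fintype F] {p : ℕ} [Fact p.Prime] [CharP F p] (hp : p ≠ 2)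
    {P : Subgroup (GL (Fin 3) F)} (hSL : InSL P) (hTF : IsTF P) (hirr : Irred P)
    {H : Type*} [Group H] [Finite H] [Nontrivial H] (f : P →* H) (hf : Function.Surjective f)
    (hker : ∀ x, f x = 1 ↔ IsSc (x : GL (Fin 3) F))
    (hab : ∀ N : Subgroup H, N.Normal → (∀ x ∈ N, ∀ y ∈ N, x * y = y * x) → N = ⊥) :
    ∃ N : Subgroup H, N.Normal ∧ (∀ h : H, (∀ n ∈ N, h * n = n * h) → h = 1) ∧ IsKnownD N := by
  classical
  obtain ⟨N, ⟨hNn, hN0⟩, hNmin⟩ := WellFounded.has_min (wellFounded_lt (α := Subgroup H))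
    {N | N.Normal ∧ N ≠ ⊥} ⟨⊤, inferInstance, top_ne_bot⟩
  have hNmin' : ∀ M : Subgroup H, M.Normal → M ≤ N → M ≠ ⊥ → M = N := fun M h1 h2 h3 => by
    by_contra hne
    exact hNmin M ⟨h1, h3⟩ (lt_of_le_of_ne h2 hne)
  have hNnc : ¬ ∀ x ∈ N, ∀ y ∈ N, x * y = y * x := fun h => hN0 (hab N hNn h)
  have hperf : ∀ M : Subgroup H, M ≤ N → (∀ a ∈ M, ∀ b ∈ M, ∀ x : H, x = ⁅a, b⁆ → x ∈ M) :=
    fun M _ a ha b hb x hx => hx ▸ M.mul_mem (M.mul_mem (M.mul_mem ha hb) (M.inv_mem ha)) (M.inv_mem hb)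
  have hNN : ⁅N, N⁆ = N := by
    haveI := hNn
    refine hNmin' _ inferInstance ?_ ?_
    · rw [Subgroup.commutator_le]; exact fun a ha b hb => hperf N le_rfl a ha b hb _ rfl
    · intro e
      refine hNnc fun x hx y hy => commutatorElement_eq_one_iff_mul_comm.mp ?_
      have h1 := Subgroup.commutator_mem_commutator hx hy
      rwa [e, Subgroup.mem_bot] at h1
  obtain ⟨T, ⟨hT0, hTN, hTn⟩, hTmin⟩ := WellFounded.has_min (wellFounded_lt (α := Subgroup H))
    {T | T ≠ ⊥ ∧ T ≤ N ∧ ∀ n ∈ N, NormBy T n} ⟨N, hN0, le_rfl, fun n hn x hx =>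
      N.mul_mem (N.mul_mem hn hx) (N.inv_mem hn)⟩
  have hTmin' : ∀ M : Subgroup H, M ≤ T → (∀ n ∈ N, NormBy M n) → M ≠ ⊥ → M = T := fun M h1 h2 h3 => by
    by_contra hne
    exact hTmin M ⟨h3, h1.trans hTN, h2⟩ (lt_of_le_of_ne h1 hne)
  -- distinct conjugates commute
  have hcj : ∀ g h : H, (∀ x ∈ T, g⁻¹ * h * x * (g⁻¹ * h)⁻¹ ∈ T) ∨
      ∀ x ∈ T, ∀ y ∈ T, (g * x * g⁻¹) * (h * y * h⁻¹) = (h * y * h⁻¹) * (g * x * g⁻¹) := by
    intro g h
    set k := g⁻¹ * h
    set T' := T.map (MulAut.conj k).toMonoidHom with hT'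
    by_cases hle : T' ≤ T
    · exact Or.inl fun x hx => hle ⟨x, hx, rfl⟩
    refine Or.inr fun x hx y hy => ?_
    have hT'n : ∀ n ∈ N, NormBy T' n := by
      rintro n hn _ ⟨z, hz, rfl⟩
      refine ⟨(k⁻¹ * n * k) * z * (k⁻¹ * n * k)⁻¹, hTn _ (by
        have := hNn.conj_mem n hn k⁻¹; rwa [inv_inv] at this) z hz, ?_⟩
      simp only [MulEquiv.coe_toMonoidHom, MulAut.conj_apply]
      group
    have hbot : T ⊓ T' = ⊥ := by
      by_contra hne
      refine hle ?_
      have he := hTmin' (T ⊓ T') inf_le_left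
        (fun n hn z hz => ⟨hTn n hn z hz.1, hT'n n hn z hz.2⟩) hne
      have hcard : Nat.card T' ≤ Nat.card T :=
        (Nat.card_congr (T.equivMapOfInjective _ (MulEquiv.injective _)).toEquiv).symm.le
      exact (Subgroup.eq_of_le_of_card_ge (inf_eq_left.mp he) hcard).ge
    have hT'N : T' ≤ N := by
      rintro _ ⟨z, hz, rfl⟩
      exact hNn.conj_mem z (hTN hz) k
    have hw : k * y * k⁻¹ ∈ T' := ⟨y, hy, rfl⟩
    have h1 : x * (k * y * k⁻¹) * x⁻¹ * (k * y * k⁻¹)⁻¹ ∈ T ⊓ T' := by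
      refine ⟨?_, T'.mul_mem (hT'n x (hTN hx) _ hw) (T'.inv_mem hw)⟩
      have := T.mul_mem hx (hTn _ (hT'N hw) _ (T.inv_mem hx))
      simpa [mul_assoc] using this
    rw [hbot, Subgroup.mem_bot, mul_inv_eq_one, mul_inv_eq_iff_eq_mul] at h1
    have h2 := congrArg (fun z => g * z * g⁻¹) h1
    simp only [k] at h2
    calc g * x * g⁻¹ * (h * y * h⁻¹) = g * (x * (g⁻¹ * h * y * (g⁻¹ * h)⁻¹)) * g⁻¹ := by group
      _ = g * ((g⁻¹ * h * y * (g⁻¹ * h)⁻¹) * x) * g⁻¹ := h2
      _ = h * y * h⁻¹ * (g * x * g⁻¹) := by group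
  -- `T` is not abelian
  have hTnc : ¬ ∀ x ∈ T, ∀ y ∈ T, x * y = y * x := by
    intro hc
    set S : Set H := {z | ∃ g : H, ∃ x ∈ T, g * x * g⁻¹ = z} with hS
    have hSn : (Subgroup.closure S).Normal := ⟨fun z hz k => by
      have hle : (Subgroup.closure S).map (MulAut.conj k).toMonoidHom ≤ Subgroup.closure S := by
        rw [MonoidHom.map_closure, Subgroup.closure_le]
        rintro _ ⟨_, ⟨g, x, hx, rfl⟩, rfl⟩
        exact Subgroup.subset_closure ⟨k * g, x, hx, by simp only [MulEquiv.coe_toMonoidHom, MulAut.conj_apply]; group⟩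
      exact hle ⟨z, hz, rfl⟩⟩
    have heq : Subgroup.closure S = N := by
      refine hNmin' _ hSn ?_ fun e => hT0 (eq_bot_iff.mpr fun x hx => ?_)
      · rw [Subgroup.closure_le]
        rintro _ ⟨g, x, hx, rfl⟩
        exact hNn.conj_mem x (hTN hx) g
      · rw [← e]; exact Subgroup.subset_closure ⟨1, x, hx, by group⟩
    apply hNnc
    have hpair : ∀ a ∈ S, ∀ b ∈ S, a * b = b * a := by
      rintro _ ⟨g, x, hx, rfl⟩ _ ⟨h, y, hy, rfl⟩
      rcases hcj g h with h1 | h1
      · have h2 := hc x hx _ (h1 y hy)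
        calc g * x * g⁻¹ * (h * y * h⁻¹) = g * (x * (g⁻¹ * h * y * (g⁻¹ * h)⁻¹)) * g⁻¹ := by group
          _ = g * ((g⁻¹ * h * y * (g⁻¹ * h)⁻¹) * x) * g⁻¹ := by rw [h2]
          _ = h * y * h⁻¹ * (g * x * g⁻¹) := by group
      · exact h1 x hx y hy
    intro x hx y hy
    have := Subgroup.closure_le_centralizer_centralizer S
    rw [← heq] at hx hy
    haveI := Subgroup.isMulCommutative_closure hpair
    have := (inferInstance : IsMulCommutative (Subgroup.closure S)).is_comm.comm ⟨x, hx⟩ ⟨y, hy⟩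
    exact congrArg Subtype.val this
  have hTT : ⁅T, T⁆ = T := by
    refine hTmin' _ ?_ (fun n hn => commutator_conj_mem (hTn n hn) (hTn n hn)) fun e => hTnc fun x hx y hy => ?_
    · rw [Subgroup.commutator_le]; exact fun a ha b hb => hperf T hTN a ha b hb _ rfl
    · have h1 := Subgroup.commutator_mem_commutator hx hy
      rw [e, Subgroup.mem_bot] at h1
      exact commutatorElement_eq_one_iff_mul_comm.mp h1
  -- absolute irreducibility
  have hDN := perfect_absIrred hirr
    (dPre_normalizedBy hf hker N le_rfl fun x hx z hz => hNn.conj_mem z hz _)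
    (dPre_perfect hf hker N hNN) (dPre_ne_bot hf hker N hNN hN0)
  have hDT := perfect_absIrred hDN.1
    (dPre_normalizedBy hf hker T (dPre_le N) fun x hx => by
      obtain ⟨d, hd, rfl⟩ := hx
      have : f d ∈ N := by rw [← map_dPre hf hker N hNN]; exact ⟨d, hd, rfl⟩
      exact hTn _ this)
    (dPre_perfect hf hker T hTT) (dPre_ne_bot hf hker T hTT hT0)
  have hcent : ∀ h : H, (∀ n ∈ T, h * n = n * h) → h = 1 := by
    intro h hh
    obtain ⟨x, rfl⟩ := hf h
    refine (hker x).mpr ?_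
    exact hDT.2.2 _ fun s hs => by
      obtain ⟨g, hg, rfl⟩ := mem_matrixSet.mp hs
      exact congrArg Units.val (commute_dPre hf hker hh hg).eq
  have hTnorm : T.Normal := ⟨fun x hx g => by
    rcases hcj 1 g with h1 | h1
    · simpa using h1 x hx
    · exfalso
      have h2 : ∀ y ∈ T, g * y * g⁻¹ = 1 := fun y hy => hcent _ fun n hn => by
        have := h1 n hn y hy
        simpa using this.symm
      apply hT0
      rw [eq_bot_iff]
      intro y hy
      simpa using h2 y hy⟩
  obtain rfl : T = N := hNmin' T hTnorm hTN hT0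
  refine ⟨T, hTnorm, hcent, ?_⟩
  haveI : Nontrivial T := (Subgroup.nontrivial_iff_ne_bot T).mpr hT0
  have hsimple : IsSimpleGroup T := ⟨fun A hA => by
    by_cases hA0 : A = ⊥
    · exact Or.inl hA0
    refine Or.inr (Subgroup.map_injective T.subtype_injective ?_)
    rw [← MonoidHom.range_eq_map, Subgroup.range_subtype]
    refine hTmin' _ (Subgroup.map_subtype_le A) ?_ ?_
    · rintro n hn _ ⟨a, ha, rfl⟩
      exact ⟨_, hA.conj_mem a ha ⟨n, hn⟩, rfl⟩
    · rwa [Ne, Subgroup.map_eq_bot_iff_of_injective _ T.subtype_injective]⟩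
  have hnc : ¬ IsMulCommutative T := fun hc => hTnc fun x hx y hy =>
    congrArg Subtype.val (hc.is_comm.comm ⟨x, hx⟩ ⟨y, hy⟩)
  let g : dPre f T →* T :=
    ((f.comp (Subgroup.inclusion (dPre_le T))).codRestrict T fun d => by
      obtain ⟨d₀, hd₀, he⟩ := d.2
      have : Subgroup.inclusion (dPre_le T) d = d₀ := Subtype.ext he.symm
      show f (Subgroup.inclusion (dPre_le T) d) ∈ T
      rw [this, ← map_dPre hf hker T hTT]
      exact ⟨d₀, hd₀, rfl⟩)
  refine known_of_perfect hp (D := dPre f T) (fun x hx => hSL x (dPre_le T hx))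
    (fun v φ h0 hm => hTF v φ h0 (dPre_le T hm)) g ?_ (fun x => ?_) hsimple hnc
  · rintro ⟨t, ht⟩
    have ht' : t ∈ (⁅T.comap f, T.comap f⁆).map f := by rw [map_dPre hf hker T hTT]; exact ht
    obtain ⟨d, hd, rfl⟩ := ht'
    exact ⟨⟨d, d, hd, rfl⟩, Subtype.ext rfl⟩
  · rw [Subtype.ext_iff]
    exact hker (Subgroup.inclusion (dPre_le T) x)

end Cfsg.Agent.Lib.Mitchell3
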