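import Cfsg.Agent.Lib.Mitchell3.CoreCover
import Cfsg.Agent.Lib.Mitchell3.Reduce
import Cfsg.Agent.Lib.Mitchell3.Main5711
import Cfsg.Agent.Lib.Mitchell96.TraceForms
import Cfsg.Agent.Lib.Linear.SmallIso.PSL7

/-!
Mitchell package: the transvection-free cores in odd characteristic.
-/

set_option autoImplicit false
set_option linter.unusedSectionVars false
set_option linter.style.haveILetI false

namespace Cfsg.Agent.Lib.Mitchell3

open Matrix

universe u

variable {F : Type u} [Field F] [Fintype F]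

/-- The central quotient of a core. -/
abbrev coreQuot (P : Subgroup (GL (Fin 3) F)) : Type u :=
  P ⧸ (Cfsg.Geo.scalars (Fin 3) F).subgroupOf P

/-- The outcomes for a transvection-free core. -/
def OddCases (p α : ℕ) (P : Subgroup (GL (Fin 3) F)) : Prop :=
  (∀ x ∈ P, tr3 x⁻¹ = tr3 x) ∨
  (Nonempty (coreQuot P ≃* Matrix.ProjectiveSpecialLinearGroup (Fin 3) (ZMod 2)) ∧
    (((p % 7 = 1 ∨ p % 7 = 2 ∨ p % 7 = 4) ∧ ∀ x ∈ P, tr3 x ^ p = tr3 x) ∨
      ((p % 7 = 3 ∨ p % 7 = 5 ∨ p % 7 = 6) ∧ ∀ x ∈ P, tr3 x ^ p = tr3 x⁻¹))) ∨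
  (Nonempty (coreQuot P ≃* alternatingGroup (Fin 6)) ∧ p ≠ 3 ∧
    ((p % 3 = 1 ∧ (p % 5 = 1 ∨ p % 5 = 4)) → ∀ x ∈ P, tr3 x ^ p = tr3 x) ∧
    (∀ x ∈ P, tr3 x ^ p ^ 2 = tr3 x) ∧
    ((p % 3 = 2 ∧ (p % 5 = 1 ∨ p % 5 = 4 ∨ p = 5)) → ∀ x ∈ P, tr3 x ^ p = tr3 x⁻¹) ∧
    ((p % 5 = 2 ∨ p % 5 = 3) → ¬ ∀ x ∈ P, tr3 x ^ p = tr3 x⁻¹) ∧
    ((p % 5 = 2 ∨ p % 5 = 3) → α ≠ 1)) ∨
  (Nonempty (coreQuot P ≃* alternatingGroup (Fin 7)) ∧ p = 5 ∧ ∀ x ∈ P, tr3 x ^ p = tr3 x⁻¹)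

theorem odd_cases {p α : ℕ} [Fact p.Prime] [CharP F p] (hp : p ≠ 2) (hF : Fintype.card F = p ^ α)
    {H P : Subgroup (GL (Fin 3) F)} (hR : Cfsg.Geo.IsResidualCore H P) (hSL : InSL P) (hTF : IsTF P) :
    OddCases p α P := by
  classical
  haveI := hR.simple
  let g : P →* coreQuot P := QuotientGroup.mk' _
  have hg : Function.Surjective g := QuotientGroup.mk'_surjective _
  have hker : ∀ x, g x = 1 ↔ IsSc (x : GL (Fin 3) F) := fun x => by
    show ((x : coreQuot P)) = 1 ↔ _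
    rw [QuotientGroup.eq_one_iff, Subgroup.mem_subgroupOf, isSc_iff]
  have hknown := known_of_perfect hp hSL hTF g hg hker hR.simple hR.nonabelian
  set K := AlgebraicClosure F
  haveI : CharP K p := charP_of_injective_algebraMap (algebraMap F K).injective p
  let eP : P ≃* P.map (baseChange K) := P.equivMapOfInjective _ (baseChange_injective K)
  haveI : Finite (P.map (baseChange K)) := Finite.of_equiv _ eP.toEquiv
  have hperf : commutator (P.map (baseChange K)) = ⊤ := by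
    apply Subgroup.map_injective (P.map (baseChange K)).subtype_injective
    rw [Subgroup.map_subtype_commutator, ← Subgroup.map_commutator, hR.perfect, ← MonoidHom.range_eq_map,
      Subgroup.range_subtype]
  -- the model
  have setup : ∀ {T : Type} [Group T] (e : coreQuot P ≃* T),
      ∃ θ : P.map (baseChange K) →* T, Function.Surjective θ ∧ Hyp p α θ := by
    intro T _ e
    refine ⟨e.toMonoidHom.comp (g.comp eP.symm.toMonoidHom), e.surjective.comp (hg.comp eP.symm.surjective),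
      baseChange_inSL hSL, baseChange_tf hTF, fun x => ?_, ?_⟩
    · obtain ⟨y, rfl⟩ := eP.surjective x
      show e (g (eP.symm (eP y))) = 1 ↔ IsSc (baseChange K (y : GL (Fin 3) F))
      rw [eP.symm_apply_apply, baseChange_isSc, ← hker, map_eq_one_iff e e.injective]
    · rintro _ ⟨y, -, rfl⟩ i j
      exact baseChange_fix hF y i j
  -- traces
  have htr : ∀ x : GL (Fin 3) F, tr3 (baseChange K x) = algebraMap F K (tr3 x) := fun x => by
    simp [tr3, coe_baseChange, Matrix.trace, Matrix.diag, map_sum]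
  have back : ∀ {n : ℕ}, (∀ y : P.map (baseChange K), tr3 (y : GL (Fin 3) K) ^ n = tr3 (y : GL (Fin 3) K)) →
      ∀ x ∈ P, tr3 x ^ n = tr3 x := fun {n} h x hx => by
    have := h ⟨_, ⟨x, hx, rfl⟩⟩
    rw [htr, ← map_pow] at this
    exact (algebraMap F K).injective this
  have back' : ∀ {n : ℕ}, (∀ y : P.map (baseChange K), tr3 (y : GL (Fin 3) K) ^ n = tr3 (y : GL (Fin 3) K)⁻¹) →
      ∀ x ∈ P, tr3 x ^ n = tr3 x⁻¹ := fun {n} h x hx => by
    have := h ⟨_, ⟨x, hx, rfl⟩⟩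
    rw [← map_inv, htr, htr, ← map_pow] at this
    exact (algebraMap F K).injective this
  rcases hknown with ⟨E, fE, fiE, hoddE, h3, ⟨e⟩⟩ | hA7
  swap
  · obtain ⟨e⟩ := hA7
    obtain ⟨θ, hθ, hh⟩ := setup e
    have hcj : Function.Injective (MulAut.conj : alternatingGroup (Fin 7) →* _) := by
      refine (injective_iff_map_eq_one _).mpr fun z hz => ?_
      have h1 : z ∈ Subgroup.center (alternatingGroup (Fin 7)) := Subgroup.mem_center_iff.mpr fun x => by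
        have := MulEquiv.congr_fun hz x
        rw [MulAut.conj_apply, MulAut.one_apply, mul_inv_eq_iff_eq_mul] at this
        exact this.symm
      rwa [alternatingGroup.center_eq_bot (by simp), Subgroup.mem_bot] at h1
    obtain ⟨hp5, -, -⟩ := ident_alt (MulAut.conj.comp θ)
      ⟨hh.sl, hh.tf, fun x => by rw [← hh.ker, MonoidHom.comp_apply, map_eq_one_iff _ hcj], hh.fix⟩
      (by rintro _ ⟨y, rfl⟩; obtain ⟨x, rfl⟩ := hθ y; exact ⟨x, rfl⟩)
    subst hp5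
    exact Or.inr (Or.inr (Or.inr ⟨⟨e⟩, rfl, back' (traces_alt θ hθ hh)⟩))
  letI := fE
  letI := fiE
  obtain ⟨θ, hθ, hh⟩ := setup e
  have hpi := hyp_piOf θ hθ hh
  have hInn := (piOf_range θ hθ hh).ge
  have self : ∀ {s : ℕ} [Fact s.Prime] [CharP E s], s ≠ 2 → (s = p ∨ Fintype.card E = 5) →
      OddCases p α P := fun hs hc => Or.inl fun x hx => by
    have := selfdual θ hθ hh hperf hs hc ⟨_, ⟨x, hx, rfl⟩⟩
    rw [← map_inv, htr, htr] at this
    exact (algebraMap F K).injective this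
  rcases ident_psl hpi hInn hoddE h3 hp with ⟨b, hb, -, -⟩ | ⟨h5, -, -, -⟩ | ⟨h7, hp7, -, -⟩ | ⟨h9, hp3, -, hr⟩
  · haveI : CharP E p := charP_of_card_eq_prime_pow (f := b) (by rw [hb])
    exact self hp (Or.inl rfl)
  · haveI : Fact (Nat.Prime 5) := ⟨by norm_num⟩
    haveI : CharP E 5 := charP_of_card_eq_prime_pow (f := 1) (by rw [h5]; norm_num)
    exact self (s := 5) (by norm_num) (Or.inr h5)
  · obtain ⟨-, t1, t2⟩ := traces_seven θ hθ hh hperf h7 hp7 hp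
    obtain ⟨e7⟩ := Cfsg.Agent.Lib.Linear.SmallIso.nonempty_psl_two_seven (K := ZMod 2) h7 (ZMod.card 2)
    have hp0 : p % 7 ≠ 0 := fun e0 => hp7 ((Nat.prime_dvd_prime_iff_eq (by norm_num) (Fact.out : p.Prime)).mp
      (Nat.dvd_of_mod_eq_zero e0)).symm
    rcases (by omega : (p % 7 = 1 ∨ p % 7 = 2 ∨ p % 7 = 4) ∨ (p % 7 = 3 ∨ p % 7 = 5 ∨ p % 7 = 6)) with hc | hc
    · exact Or.inr (Or.inl ⟨⟨e.trans e7⟩, Or.inl ⟨hc, back (t1 hc)⟩⟩)
    · exact Or.inr (Or.inl ⟨⟨e.trans e7⟩, Or.inr ⟨hc, back' (t2 hc)⟩⟩)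
  · obtain ⟨e6⟩ := Cfsg.Agent.Lib.Linear.SmallIso.nonempty_psl_two_nine h9
    obtain ⟨t1, t2, t3, t4⟩ := traces_nine h9 θ hθ hh hp3 hp
    refine Or.inr (Or.inr (Or.inl ⟨⟨e.trans e6⟩, hp3, fun hc => back (t1 hc), back t2, fun hc => back' (t3 hc),
      fun hc hall => t4 hc ?_, fun hc hα => ?_⟩))
    · rintro ⟨_, x, hx, rfl⟩
      rw [← map_inv, htr, htr, ← map_pow, hall x hx]
    · subst hα
      rcases hr with ⟨hp5, -⟩ | ⟨-, hq, -⟩
      · subst hp5
        omega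
      · rw [pow_one, Nat.pow_mod] at hq
        rcases hc with e5 | e5 <;> rw [e5] at hq <;> norm_num at hq

end Cfsg.Agent.Lib.Mitchell3
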