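import Cfsg.Agent.Lib.Mitchell3.Fusion

/-!
Mitchell package: with semidihedral or wreathed Sylow 2-subgroups, the elements commuting with an
involution fill 35/48 or 65/96 of the group and the involutions form one class.
-/

set_option autoImplicit false
set_option linter.unusedSectionVars false
set_option linter.style.haveILetI false

namespace Cfsg.Agent.Lib.Mitchell3

open Matrix Module
open Cfsg.Agent.Lib.Subspaces.Transvection

variable {K : Type*} [Field K] {G : Subgroup (GL (Fin 3) K)}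

/-- `x` lies in the homology group of the involution `t`. -/
def HomOf (G : Subgroup (GL (Fin 3) K)) (t x : GL (Fin 3) K) : Prop :=
  ∃ a φ, ∃ h : HomData t a φ (-1), x ∈ homGrp G h.dot

/-- `x` commutes with an involution of `G`. -/
def CInv (G : Subgroup (GL (Fin 3) K)) (x : GL (Fin 3) K) : Prop :=
  ∃ t ∈ G, orderOf t = 2 ∧ Commute x t

variable (hc : Ctx G)
include hc

theorem homGrp_eq_of_invol {t : GL (Fin 3) K} (ht : t ∈ G) {a φ a' φ' : Fin 3 → K}
    (hd : HomData t a φ (-1)) (hd' : HomData t a' φ' (-1)) :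
    homGrp G hd'.dot = homGrp G hd.dot := by
  have key : ∀ {b ψ b' ψ' : Fin 3 → K} (h : HomData t b ψ (-1)) (h' : HomData t b' ψ' (-1)),
      homGrp G h'.dot ≤ homGrp G h.dot := by
    intro b ψ b' ψ' h h' y hy
    rcases homGrp_cases hy with hs | ⟨l, hl⟩
    · exact sc_mem_homGrp hc.sl _ hy.1 hs
    · refine mem_homGrp_of_centre hc.tf ht hy.1 h hl (u := ψ ⬝ᵥ b') ?_
      have hat := h.mulVec_eq b'
      rw [h'.centre] at hat
      simp only [neg_one_sq, inv_one, one_smul, sub_neg_eq_add, one_add_one_eq_two] at hat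
      apply smul_right_injective _ hc.two
      simp only
      linear_combination (norm := module) hat
  exact le_antisymm (key hd hd') (key hd' hd)

theorem homOf_iff {t : GL (Fin 3) K} (ht : t ∈ G) {a φ : Fin 3 → K} (hd : HomData t a φ (-1))
    {x : GL (Fin 3) K} : HomOf G t x ↔ x ∈ homGrp G hd.dot :=
  ⟨fun ⟨_, _, h, hx⟩ => homGrp_eq_of_invol hc ht hd h ▸ hx, fun hx => ⟨a, φ, hd, hx⟩⟩

theorem HomOf.isHom {t x : GL (Fin 3) K} (h : HomOf G t x) (hs : ¬ IsSc x) : IsHom x := by
  obtain ⟨a, φ, hd, hx⟩ := h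
  exact (homGrp_cases hx).elim (fun h => absurd h hs) fun ⟨l, hl⟩ => ⟨a, φ, l, hl⟩

theorem HomOf.unique {t s x : GL (Fin 3) K} (ht : t ∈ G) (hs : s ∈ G) (h1 : HomOf G t x)
    (h2 : HomOf G s x) (hns : ¬ IsSc x) : t = s := by
  obtain ⟨a, φ, hd, hxa⟩ := h1
  obtain ⟨b, ψ, hds, hxb⟩ := h2
  obtain ⟨l, hla⟩ := (homGrp_cases hxa).resolve_left hns
  obtain ⟨m, hmb⟩ := (homGrp_cases hxb).resolve_left hns
  by_contra hne
  have e1 : (φ ⬝ᵥ b) = 0 := by
    by_contra h0
    have h3 := hla.mulVec_eq b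
    rw [hmb.centre] at h3
    have h4 : ((m ^ 2)⁻¹ - l) • b = (((l ^ 2)⁻¹ - l) * (φ ⬝ᵥ b)) • a := by
      linear_combination (norm := module) h3
    by_cases he : (m ^ 2)⁻¹ - l = 0
    · rw [he, zero_smul] at h4
      rcases smul_eq_zero.mp h4.symm with h | h
      · exact mul_ne_zero hla.diff_ne h0 h
      · exact hla.ne_zero h
    · refine hne (invol_eq_of_centre hc.tf hc.two ht hs hd hds
        (u := (((l ^ 2)⁻¹ - l) * (φ ⬝ᵥ b)) / ((m ^ 2)⁻¹ - l)) ?_).symm
      apply smul_right_injective _ he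
      simp only
      rw [smul_smul, mul_div_cancel₀ _ he, h4]
  have e2 : (ψ ⬝ᵥ a) = 0 := by
    by_contra h0
    have h3 := hmb.mulVec_eq a
    rw [hla.centre] at h3
    have h4 : ((l ^ 2)⁻¹ - m) • a = (((m ^ 2)⁻¹ - m) * (ψ ⬝ᵥ a)) • b := by
      linear_combination (norm := module) h3
    by_cases he : (l ^ 2)⁻¹ - m = 0
    · rw [he, zero_smul] at h4
      rcases smul_eq_zero.mp h4.symm with h | h
      · exact mul_ne_zero hmb.diff_ne h0 h
      · exact hmb.ne_zero h
    · refine hne (invol_eq_of_centre hc.tf hc.two hs ht hds hd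
        (u := (((m ^ 2)⁻¹ - m) * (ψ ⬝ᵥ a)) / ((l ^ 2)⁻¹ - m)) ?_)
      apply smul_right_injective _ he
      simp only
      rw [smul_smul, mul_div_cancel₀ _ he, h4]
  have h1 : (m ^ 2)⁻¹ = l := smul_left_injective K hmb.ne_zero (hmb.centre.symm.trans (hla.axis e1))
  have h2 : (l ^ 2)⁻¹ = m := smul_left_injective K hla.ne_zero (hla.centre.symm.trans (hmb.axis e2))
  apply hla.2.2.1
  have hl0 := hla.2.1
  rw [← h2] at h1
  field_simp at h1
  linear_combination h1

theorem homOf_commute {s t x : GL (Fin 3) K} (hs : s ∈ G) (ht : t ∈ G) (hx : HomOf G s x)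
    (hns : ¬ IsSc x) : Commute x t ↔ Commute t s := by
  obtain ⟨b, ψ, hds, hxb⟩ := hx
  refine ⟨fun h => ?_, fun h => (commute_homGrp hc.tf hs ht hds h hxb).symm⟩
  obtain ⟨l, hl⟩ := (homGrp_cases hxb).resolve_left hns
  exact commute_of_fix hc.tf hs ht hds (hl.comm_centre h.symm)

omit hc in
theorem card_filter_mem [Fintype G] (L : Subgroup (GL (Fin 3) K)) (hL : L ≤ G)
    [DecidablePred fun x : G => (x : GL (Fin 3) K) ∈ L] :
    (Finset.univ.filter fun x : G => (x : GL (Fin 3) K) ∈ L).card = Nat.card L := by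
  rw [← Fintype.card_subtype, ← Nat.card_eq_fintype_card]
  exact Nat.card_congr (Subgroup.subgroupOfEquivOfLe hL).toEquiv

theorem card_filter_nsc [Fintype G] (L : Subgroup (GL (Fin 3) K)) (hL : L ≤ G)
    (hsc : ∀ z ∈ G, IsSc z → z ∈ L)
    [DecidablePred fun x : G => (x : GL (Fin 3) K) ∈ L ∧ ¬ IsSc (x : GL (Fin 3) K)] :
    (Finset.univ.filter fun x : G => (x : GL (Fin 3) K) ∈ L ∧ ¬ IsSc (x : GL (Fin 3) K)).card +
      Nat.card (scIn G) = Nat.card L := by
  classical
  have h1 : (Finset.univ.filter fun x : G => IsSc (x : GL (Fin 3) K)).card = Nat.card (scIn G) := by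
    rw [Nat.card_eq_fintype_card, ← Fintype.card_subtype]
    exact Fintype.card_congr (Equiv.subtypeEquivRight fun x => mem_scIn.symm)
  rw [← card_filter_mem L hL, ← h1, ← Finset.card_union_of_disjoint (Finset.disjoint_filter.mpr
    fun x _ hx hs => hx.2 hs)]
  congr 1
  ext x
  simp only [Finset.mem_union, Finset.mem_filter, Finset.mem_univ, true_and]
  refine ⟨fun h => h.elim (·.1) fun h => hsc x x.2 h, fun h => ?_⟩
  by_cases hs : IsSc (x : GL (Fin 3) K)
  · exact Or.inr hs
  · exact Or.inl ⟨h, hs⟩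

set_option maxHeartbeats 1000000 in
/-- The census of the elements commuting with involutions. -/
theorem Ctx.census [IsAlgClosed K] [Fintype G] {m r : ℕ} (hnd : NonDih G m r)
    [DecidablePred fun x : G => ¬ IsSc (x : GL (Fin 3) K) ∧ ¬ CInv G x] :
    (∀ t ∈ G, ∀ s ∈ G, orderOf t = 2 → orderOf s = 2 → ∃ x ∈ G, x * t * x⁻¹ = s) ∧
    Nat.card {s : G // orderOf (s : GL (Fin 3) K) = 2} * (24 * m * Nat.card (scIn G)) = Nat.card G ∧
    (m = 2 ∧ 48 * ((Finset.univ.filter fun x : G => ¬ IsSc (x : GL (Fin 3) K) ∧ ¬ CInv G x).card +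
          Nat.card (scIn G)) = 13 * Nat.card G ∨
      m = 4 ∧ 96 * ((Finset.univ.filter fun x : G => ¬ IsSc (x : GL (Fin 3) K) ∧ ¬ CInv G x).card +
          Nat.card (scIn G)) = 31 * Nat.card G) := by
  classical
  haveI := hc.fin
  set z := Nat.card (scIn G) with hz
  have hz0 : 0 < z := Nat.card_pos
  let I : Finset G := Finset.univ.filter fun t : G => orderOf (t : GL (Fin 3) K) = 2
  have hI : ∀ t, t ∈ I ↔ orderOf (t : GL (Fin 3) K) = 2 := fun t => by simp [I]
  let Cm : G → G → Prop := fun x t => Commute (x : GL (Fin 3) K) (t : GL (Fin 3) K)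
  have hIcard : I.card = Nat.card {s : G // orderOf (s : GL (Fin 3) K) = 2} := by
    rw [Nat.card_eq_fintype_card, Fintype.card_subtype]
  have hscC : ∀ t : G, ∀ w ∈ G, IsSc w → w ∈ cenG G t := fun t w hw hs =>
    mem_cenG.mpr ⟨hw, sc_commute hs _⟩
  have hcenle : ∀ t : G, cenG G (t : GL (Fin 3) K) ≤ G := fun t => inf_le_left
  -- involutions centralising an involution
  have hIr : ∀ t ∈ I, (I.filter fun s => Cm s t).card = r := by
    intro t ht
    rw [← hnd.card_inv t t.2 ((hI t).mp ht), ← Fintype.card_coe, ← Nat.card_eq_fintype_card]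
    refine Nat.card_congr ⟨fun s => ⟨⟨s.1.1, mem_cenG.mpr ⟨s.1.2, (Finset.mem_filter.mp s.2).2⟩⟩,
      by rw [← Subgroup.orderOf_coe]; exact (hI _).mp (Finset.mem_filter.mp s.2).1⟩,
      fun s => ⟨⟨s.1.1, (mem_cenG.mp s.1.2).1⟩, Finset.mem_filter.mpr ⟨(hI _).mpr (by
        have := s.2; rwa [← Subgroup.orderOf_coe] at this), (mem_cenG.mp s.1.2).2⟩⟩,
      fun s => rfl, fun s => rfl⟩
  -- homologies
  let H : G → Finset G := fun t =>
    Finset.univ.filter fun x => HomOf G t x ∧ ¬ IsSc (x : GL (Fin 3) K)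
  have hH : ∀ t x, x ∈ H t ↔ HomOf G t x ∧ ¬ IsSc (x : GL (Fin 3) K) := fun t x => by simp [H]
  have hHcard : ∀ t ∈ I, (H t).card + z = m * z := by
    intro t ht
    obtain ⟨a, φ, hd⟩ := invol_homData hc.sl hc.tf hc.two t.2 ((hI t).mp ht)
    rw [← hnd.card_hom t t.2 ((hI t).mp ht) a φ hd,
      ← card_filter_nsc hc (homGrp G hd.dot) (homGrp_le _) fun w hw hs => sc_mem_homGrp hc.sl _ hw hs]
    congr 2
    ext x
    simp [hH, homOf_iff hc t.2 hd]
  have hHdisj : ∀ J ⊆ I, Set.PairwiseDisjoint (J : Set G) H := by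
    intro J hJ t ht s hs hne
    rw [Function.onFun, Finset.disjoint_left]
    intro x h1 h2
    exact hne (Subtype.ext (HomOf.unique hc t.2 s.2 ((hH t x).mp h1).1 ((hH s x).mp h2).1 ((hH t x).mp h1).2))
  have hHsum : ∀ J ⊆ I, (J.biUnion H).card + J.card * z = J.card * (m * z) := by
    intro J hJ
    rw [Finset.card_biUnion (hHdisj J hJ), ← smul_eq_mul (J.card) (m * z), ← Finset.sum_const,
      ← smul_eq_mul (J.card) z, ← Finset.sum_const, ← Finset.sum_add_distrib]
    exact Finset.sum_congr rfl fun t ht => hHcard t (hJ ht)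
  -- the others
  let C : Finset G := Finset.univ.filter fun x =>
    ¬ IsSc (x : GL (Fin 3) K) ∧ ¬ IsHom (x : GL (Fin 3) K) ∧ CInv G x
  have hsplit : ∀ (L : Subgroup (GL (Fin 3) K)), L ≤ G → (∀ w ∈ G, IsSc w → w ∈ L) → ∀ J ⊆ I,
      (∀ x : G, (x : GL (Fin 3) K) ∈ L → CInv G x) →
      (∀ s ∈ I, ∀ x ∈ H s, (x : GL (Fin 3) K) ∈ L ↔ s ∈ J) →
      (C.filter fun x : G => (x : GL (Fin 3) K) ∈ L).card + (J.biUnion H).card + z = Nat.card L := by
    intro L hL hsc J hJ hci hiff
    rw [← card_filter_nsc hc L hL hsc, ← Finset.card_union_of_disjoint]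
    · congr 2
      ext x
      simp only [C, Finset.mem_union, Finset.mem_filter, Finset.mem_univ, true_and, Finset.mem_biUnion]
      constructor
      · rintro (⟨⟨h1, -, -⟩, h2⟩ | ⟨s, hs, hx⟩)
        · exact ⟨h2, h1⟩
        · exact ⟨(hiff s (hJ hs) x hx).mpr hs, ((hH s x).mp hx).2⟩
      · rintro ⟨hxL, hns⟩
        obtain ⟨t, ht, ot, hxt⟩ := hci x hxL
        by_cases hh : IsHom (x : GL (Fin 3) K)
        · obtain ⟨s, hs, os, hsx⟩ := hnd.hom_centre x x.2 t ht ot hh hxt
          have hmem : (x : G) ∈ H ⟨s, hs⟩ := (hH _ _).mpr ⟨hsx, hns⟩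
          exact Or.inr ⟨⟨s, hs⟩, (hiff _ ((hI _).mpr os) x hmem).mp hxL, hmem⟩
        · exact Or.inl ⟨⟨hns, hh, t, ht, ot, hxt⟩, hxL⟩
    · rw [Finset.disjoint_left]
      intro x hx hx'
      obtain ⟨s, -, hxs⟩ := Finset.mem_biUnion.mp hx'
      simp only [C, Finset.mem_filter] at hx
      exact hx.1.2.2.1 (HomOf.isHom hc ((hH s x).mp hxs).1 ((hH s x).mp hxs).2)
  have hCt : ∀ t ∈ I, (C.filter fun x => Cm x t).card + r * (m * z) + z = r * z + 24 * m * z := by
    intro t ht
    have hJ : (I.filter fun s => Cm s t) ⊆ I := Finset.filter_subset _ _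
    have h1 := hsplit (cenG G t) (hcenle t) (hscC t) _ hJ
      (fun x hx => ⟨t, t.2, (hI t).mp ht, (mem_cenG.mp hx).2⟩) fun s hs x hx => by
      rw [mem_cenG, Finset.mem_filter, homOf_commute hc s.2 t.2 ((hH s x).mp hx).1 ((hH s x).mp hx).2]
      exact ⟨fun h => ⟨hs, h.2.symm⟩, fun h => ⟨x.2, Commute.symm h.2⟩⟩
    have h2 := hHsum _ hJ
    rw [hIr t ht] at h2
    rw [hnd.card_cen t t.2 ((hI t).mp ht), ← hz] at h1
    have e : (C.filter fun x => Cm x t) = C.filter fun x : G => (x : GL (Fin 3) K) ∈ cenG G t :=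
      Finset.filter_congr fun x _ => by simp [Cm, mem_cenG]
    rw [e]
    omega
  let P : Finset (G × G) := (I ×ˢ I).filter fun q => q.1 ≠ q.2 ∧ Cm q.1 q.2
  have hPcard : P.card + I.card = I.card * r := by
    have : P.card = ∑ t ∈ I, ((I.filter fun s => Cm t s).erase t).card := by
      rw [← Finset.card_sigma]
      refine Finset.card_bij (fun q _ => ⟨q.1, q.2⟩) ?_ ?_ ?_
      · intro q hq
        simp only [P, Finset.mem_filter, Finset.mem_product] at hq
        simp [hq.1.1, hq.1.2, hq.2.2, Ne.symm hq.2.1]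
      · intro q _ q' _ h
        simp only [Sigma.mk.injEq, heq_eq_eq] at h
        exact Prod.ext h.1 h.2
      · rintro ⟨t, s⟩ h
        simp only [Finset.mem_sigma, Finset.mem_erase, Finset.mem_filter] at h
        exact ⟨(t, s), by simp [P, h.1, h.2.2.1, h.2.2.2, Ne.symm h.2.1], rfl⟩
    rw [this, ← smul_eq_mul, ← Finset.sum_const, Finset.card_eq_sum_ones I, ← Finset.sum_add_distrib]
    refine Finset.sum_congr rfl fun t ht => ?_
    rw [Finset.card_erase_add_one (show t ∈ I.filter (fun s => Cm t s) from Finset.mem_filter.mpr ⟨ht, Commute.refl _⟩), ← hIr t ht]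
    exact congrArg Finset.card (Finset.filter_congr fun s _ => ⟨Commute.symm, Commute.symm⟩)
  have hD : ∀ q ∈ P, (C.filter fun x => Cm x q.1 ∧ Cm x q.2).card + 3 * (m * z) + z =
      3 * z + m * m * z := by
    rintro ⟨t, s⟩ hq
    simp only [P, Finset.mem_filter, Finset.mem_product] at hq
    obtain ⟨⟨ht, hs⟩, hne, hts⟩ := hq
    have hne' : (t : GL (Fin 3) K) ≠ s := fun h => hne (Subtype.ext h)
    have hJ : (I.filter fun u => Cm u t ∧ Cm u s) ⊆ I := Finset.filter_subset _ _
    have hA : cenG G (t : GL (Fin 3) K) ⊓ cenG G (s : GL (Fin 3) K) ≤ G :=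
      inf_le_left.trans (hcenle t)
    have h1 := hsplit (cenG G t ⊓ cenG G s) hA (fun w hw h => ⟨hscC t w hw h, hscC s w hw h⟩) _ hJ
      (fun x hx => ⟨t, t.2, (hI t).mp ht, (mem_cenG.mp hx.1).2⟩) fun u hu x hx => by
      rw [Subgroup.mem_inf, mem_cenG, mem_cenG, Finset.mem_filter,
        homOf_commute hc u.2 t.2 ((hH u x).mp hx).1 ((hH u x).mp hx).2,
        homOf_commute hc u.2 s.2 ((hH u x).mp hx).1 ((hH u x).mp hx).2]
      exact ⟨fun h => ⟨hu, h.1.2.symm, h.2.2.symm⟩,
        fun h => ⟨⟨x.2, Commute.symm h.2.1⟩, x.2, Commute.symm h.2.2⟩⟩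
    have ots : orderOf ((t : GL (Fin 3) K) * s) = 2 := by
      obtain ⟨a, φ, b, ψ, c, χ, -, -, hdu, -⟩ := four_frame hc.sl hc.tf hc.two t.2 s.2
        ((hI t).mp ht) ((hI s).mp hs) hts hne'
      exact invol_of_homData hc.two hdu
    have hJcard : (I.filter fun u => Cm u t ∧ Cm u s).card = 3 := by
      rw [Finset.card_eq_three]
      refine ⟨t, s, t * s, hne, fun h => ?_, fun h => ?_, ?_⟩
      · have := (hI s).mp hs
        rw [left_eq_mul.mp h, Subgroup.coe_one, orderOf_one] at this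
        omega
      · have := (hI t).mp ht
        rw [right_eq_mul.mp h, Subgroup.coe_one, orderOf_one] at this
        omega
      · ext u
        simp only [Finset.mem_filter, Finset.mem_insert, Finset.mem_singleton, hI, Cm]
        constructor
        · rintro ⟨ou, hut, hus⟩
          rcases invol_mem_four hc.sl hc.tf hc.two t.2 s.2 ((hI t).mp ht) ((hI s).mp hs) hts hne' u.2
            ou hut hus with e | e | e
          · exact Or.inl (Subtype.ext e)
          · exact Or.inr (Or.inl (Subtype.ext e))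
          · exact Or.inr (Or.inr (Subtype.ext e))
        · rintro (rfl | rfl | rfl)
          · exact ⟨(hI _).mp ht, Commute.refl _, hts⟩
          · exact ⟨(hI _).mp hs, hts.symm, Commute.refl _⟩
          · exact ⟨ots, (Commute.refl _).mul_left hts.symm, hts.mul_left (Commute.refl _)⟩
    have h2 := hHsum _ hJ
    rw [hJcard] at h2
    rw [hnd.card_four t t.2 s s.2 ((hI t).mp ht) ((hI s).mp hs) hts hne', ← hz] at h1
    have e : (C.filter fun x => Cm x t ∧ Cm x s) =
        C.filter fun x : G => (x : GL (Fin 3) K) ∈ cenG G t ⊓ cenG G s :=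
      Finset.filter_congr fun x _ => by simp [Cm, mem_cenG]
    rw [e]
    omega
  -- double counting
  have hk : ∀ x ∈ C, (P.filter fun q => Cm x q.1 ∧ Cm x q.2).card =
      3 * (I.filter fun t => Cm x t).card - 3 ∧ 1 ≤ (I.filter fun t => Cm x t).card := by
    intro x hx
    simp only [C, Finset.mem_filter, Finset.mem_univ, true_and] at hx
    obtain ⟨hns, hnh, t, ht, ot, hxt⟩ := hx
    have hab := (isHom_or_commute hc.sl hc.tf x.2 hns).resolve_left hnh
    set Ix := I.filter fun t => Cm x t with hIx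
    have hmem : ∀ u, u ∈ Ix ↔ orderOf (u : GL (Fin 3) K) = 2 ∧ Cm x u := fun u => by simp [hIx, hI]
    have he : (P.filter fun q => Cm x q.1 ∧ Cm x q.2) = Ix.offDiag := by
      ext ⟨u, v⟩
      simp only [P, Finset.mem_filter, Finset.mem_product, Finset.mem_offDiag, hmem, hI]
      exact ⟨fun h => ⟨⟨h.1.1.1, h.2.1⟩, ⟨h.1.1.2, h.2.2⟩, h.1.2.1⟩,
        fun h => ⟨⟨⟨h.1.1, h.2.1.1⟩, h.2.2, hab _ _ h.1.2.symm h.2.1.2.symm⟩, h.1.2, h.2.1.2⟩⟩
    have htI : (⟨t, ht⟩ : G) ∈ Ix := (hmem _).mpr ⟨ot, hxt⟩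
    have h1 : Ix.card = 1 ∨ Ix.card = 3 := by
      by_cases hex : ∃ s ∈ Ix, s ≠ ⟨t, ht⟩
      · right
        obtain ⟨s, hs, hne⟩ := hex
        obtain ⟨os, hxs⟩ := (hmem s).mp hs
        have hne' : t ≠ (s : GL (Fin 3) K) := fun h => hne (Subtype.ext h.symm)
        have hts : Commute t (s : GL (Fin 3) K) := hab _ _ hxt.symm hxs.symm
        obtain ⟨a, φ, b, ψ, c, χ, -, -, hdu, -⟩ := four_frame hc.sl hc.tf hc.two ht s.2 ot os hts hne'
        rw [Finset.card_eq_three]
        refine ⟨⟨t, ht⟩, s, ⟨t, ht⟩ * s, hne.symm, fun h => ?_, fun h => ?_, ?_⟩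
        · rw [left_eq_mul.mp h, Subgroup.coe_one, orderOf_one] at os
          omega
        · have h' := congrArg Subtype.val (right_eq_mul.mp h)
          simp only [Subgroup.coe_one] at h'
          rw [h', orderOf_one] at ot
          omega
        · ext u
          simp only [Finset.mem_insert, Finset.mem_singleton, hmem]
          constructor
          · rintro ⟨ou, hxu⟩
            rcases invol_mem_four hc.sl hc.tf hc.two ht s.2 ot os hts hne' u.2 ou
              (hab _ _ hxu.symm hxt.symm) (hab _ _ hxu.symm hxs.symm) with e | e | e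
            · exact Or.inl (Subtype.ext e)
            · exact Or.inr (Or.inl (Subtype.ext e))
            · exact Or.inr (Or.inr (Subtype.ext e))
          · rintro (rfl | rfl | rfl)
            · exact ⟨ot, hxt⟩
            · exact ⟨os, hxs⟩
            · exact ⟨invol_of_homData hc.two hdu, hxt.mul_right hxs⟩
      · left
        rw [Finset.card_eq_one]
        push Not at hex
        exact ⟨⟨t, ht⟩, Finset.eq_singleton_iff_unique_mem.mpr ⟨htI, hex⟩⟩
    rw [he, Finset.offDiag_card]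
    rcases h1 with h | h <;> rw [h] <;> decide
  have d1 : ∑ t ∈ I, (C.filter fun x => Cm x t).card = ∑ x ∈ C, (I.filter fun t => Cm x t).card :=
    Finset.sum_card_bipartiteAbove_eq_sum_card_bipartiteBelow (r := fun t x => Cm x t)
  have d2 : ∑ q ∈ P, (C.filter fun x => Cm x q.1 ∧ Cm x q.2).card + 3 * C.card =
      3 * ∑ x ∈ C, (I.filter fun t => Cm x t).card := by
    rw [show (∑ q ∈ P, (C.filter fun x => Cm x q.1 ∧ Cm x q.2).card) =
      ∑ x ∈ C, (P.filter fun q => Cm x q.1 ∧ Cm x q.2).card from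
      Finset.sum_card_bipartiteAbove_eq_sum_card_bipartiteBelow
        (r := fun (q : G × G) x => Cm x q.1 ∧ Cm x q.2),
      Finset.card_eq_sum_ones, Finset.mul_sum, Finset.mul_sum, ← Finset.sum_add_distrib]
    refine Finset.sum_congr rfl fun x hx => ?_
    obtain ⟨h1, h2⟩ := hk x hx
    omega
  have s1 := Finset.sum_congr rfl hCt
  simp only [Finset.sum_add_distrib, Finset.sum_const, smul_eq_mul] at s1
  have s2 := Finset.sum_congr rfl hD
  simp only [Finset.sum_add_distrib, Finset.sum_const, smul_eq_mul] at s2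
  have hX : ((Finset.univ.filter fun x : G => ¬ IsSc (x : GL (Fin 3) K) ∧ ¬ CInv G x).card + z) +
      (C.card + (I.biUnion H).card) = Nat.card G := by
    rw [← card_filter_mem G le_rfl]
    have h1 := card_filter_nsc hc G le_rfl fun w hw _ => hw
    rw [← card_filter_mem G le_rfl] at h1
    rw [← h1]
    have hd : Disjoint C (I.biUnion H) := by
      rw [Finset.disjoint_left]
      intro x hx hx'
      obtain ⟨s, -, hxs⟩ := Finset.mem_biUnion.mp hx'
      simp only [C, Finset.mem_filter] at hx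
      exact hx.2.2.1 (HomOf.isHom hc ((hH s x).mp hxs).1 ((hH s x).mp hxs).2)
    rw [← Finset.card_union_of_disjoint hd, add_right_comm, add_left_inj,
      ← Finset.card_union_of_disjoint]
    · congr 1
      ext x
      simp only [C, Finset.mem_union, Finset.mem_filter, Finset.mem_univ, true_and, Finset.mem_biUnion]
      constructor
      · rintro (h | ⟨h, -⟩ | ⟨s, -, h⟩)
        · exact ⟨x.2, h.1⟩
        · exact ⟨x.2, h⟩
        · exact ⟨x.2, ((hH s x).mp h).2⟩
      · rintro ⟨-, hns⟩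
        by_cases hci : CInv G x
        · right
          by_cases hh : IsHom (x : GL (Fin 3) K)
          · obtain ⟨t, ht, ot, hxt⟩ := hci
            obtain ⟨s, hs, os, hsx⟩ := hnd.hom_centre x x.2 t ht ot hh hxt
            exact Or.inr ⟨⟨s, hs⟩, (hI _).mpr os, (hH _ _).mpr ⟨hsx, hns⟩⟩
          · exact Or.inl ⟨hns, hh, hci⟩
        · exact Or.inl ⟨hns, hci⟩
    · rw [Finset.disjoint_left]
      intro x hx hx'
      simp only [Finset.mem_filter] at hx
      rcases Finset.mem_union.mp hx' with h | h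
      · simp only [C, Finset.mem_filter] at h
        exact hx.2.2 h.2.2.2
      · obtain ⟨s, hs, hxs⟩ := Finset.mem_biUnion.mp h
        obtain ⟨a, φ, hd', hxa⟩ := ((hH s x).mp hxs).1
        exact hx.2.2 ⟨s, s.2, (hI s).mp hs, (commute_homGrp hc.tf s.2 s.2 hd' (Commute.refl _) hxa).symm⟩
  have hHI := hHsum I (Finset.Subset.refl _)
  -- orbits of involutions
  have horb : ∀ t ∈ I, (Finset.univ.image fun x : G => x * t * x⁻¹).card * (24 * m * z) = Nat.card G ∧
      (Finset.univ.image fun x : G => x * t * x⁻¹) ⊆ I := by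
    intro t ht
    refine ⟨?_, fun s hs => ?_⟩
    swap
    · obtain ⟨x, -, rfl⟩ := Finset.mem_image.mp hs
      rw [hI, Subgroup.coe_mul, Subgroup.coe_mul, Subgroup.coe_inv,
        ← MulAut.conj_apply (x : GL (Fin 3) K) (t : GL (Fin 3) K), MulEquiv.orderOf_eq]
      exact (hI t).mp ht
    rw [Nat.card_eq_fintype_card (α := G), ← Finset.card_univ,
      Finset.card_eq_sum_card_image (fun x : G => x * t * x⁻¹) Finset.univ, ← smul_eq_mul,
      ← Finset.sum_const]
    refine Finset.sum_congr rfl fun s hs => ?_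
    obtain ⟨x₀, -, rfl⟩ := Finset.mem_image.mp hs
    rw [← hnd.card_cen t t.2 ((hI t).mp ht), ← card_filter_mem _ (hcenle t)]
    refine Finset.card_bij' (fun y _ => x₀ * y) (fun y _ => x₀⁻¹ * y) ?_ ?_ (by simp) (by simp)
    · intro y hy
      simp only [Finset.mem_filter, Finset.mem_univ, true_and] at hy ⊢
      have hyt : y * t = t * y := Subtype.ext (mem_cenG.mp hy).2.eq
      calc x₀ * y * t * (x₀ * y)⁻¹ = x₀ * (y * t) * y⁻¹ * x₀⁻¹ := by group
        _ = _ := by rw [hyt]; group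
    · intro y hy
      simp only [Finset.mem_filter, Finset.mem_univ, true_and] at hy ⊢
      refine mem_cenG.mpr ⟨(x₀⁻¹ * y).2, congrArg Subtype.val (?_ : (x₀⁻¹ * y) * t = t * (x₀⁻¹ * y))⟩
      calc x₀⁻¹ * y * t = x₀⁻¹ * (y * t * y⁻¹) * y := by group
        _ = _ := by rw [hy]; group
  obtain ⟨t₀, ht₀, ot₀⟩ := hnd.exists_invol
  have ht₀I : (⟨t₀, ht₀⟩ : G) ∈ I := (hI _).mpr ot₀
  have hI0 : 0 < I.card := Finset.card_pos.mpr ⟨_, ht₀I⟩
  have hone : ∀ t ∈ I, I = Finset.univ.image fun x : G => x * t * x⁻¹ := by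
    intro t ht
    obtain ⟨h1, hsub⟩ := horb t ht
    by_contra hne
    obtain ⟨s, hs, hs'⟩ : ∃ s ∈ I, s ∉ Finset.univ.image fun x : G => x * t * x⁻¹ := by
      by_contra h
      push Not at h
      exact hne (Finset.Subset.antisymm h hsub)
    obtain ⟨h2, hsub'⟩ := horb s hs
    have hdis : Disjoint (Finset.univ.image fun x : G => x * t * x⁻¹)
        (Finset.univ.image fun x : G => x * s * x⁻¹) := by
      rw [Finset.disjoint_left]
      intro u hu hu'
      obtain ⟨x, -, rfl⟩ := Finset.mem_image.mp hu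
      obtain ⟨y, -, hy⟩ := Finset.mem_image.mp hu'
      apply hs'
      refine Finset.mem_image.mpr ⟨y⁻¹ * x, Finset.mem_univ _, ?_⟩
      calc y⁻¹ * x * t * (y⁻¹ * x)⁻¹ = y⁻¹ * (x * t * x⁻¹) * y := by group
        _ = s := by rw [← hy]; group
    have h3 := Finset.card_le_card (Finset.union_subset hsub hsub')
    rw [Finset.card_union_of_disjoint hdis] at h3
    have h4 : 2 * Nat.card G ≤ I.card * (24 * m * z) := by
      calc 2 * Nat.card G = _ + _ := two_mul _
        _ = _ := by nth_rw 1 [← h1]; rw [← h2, ← add_mul]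
        _ ≤ _ := Nat.mul_le_mul_right _ h3
    rcases hnd.cases with ⟨rfl, rfl⟩ | ⟨rfl, rfl⟩ <;> nlinarith
  refine ⟨fun t ht s hs ot os => ?_, ?_, ?_⟩
  · have := hone ⟨t, ht⟩ ((hI _).mpr ot)
    have hs' : (⟨s, hs⟩ : G) ∈ I := (hI _).mpr os
    rw [this] at hs'
    obtain ⟨x, -, hx⟩ := Finset.mem_image.mp hs'
    exact ⟨x, x.2, congrArg Subtype.val hx⟩
  · rw [← hIcard]
    nth_rw 1 [hone _ ht₀I]
    exact (horb _ ht₀I).1
  · have hN : I.card * (24 * m * z) = Nat.card G := by
      nth_rw 1 [hone _ ht₀I]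
      exact (horb _ ht₀I).1
    rcases hnd.cases with ⟨rfl, rfl⟩ | ⟨rfl, rfl⟩
    · refine Or.inl ⟨rfl, ?_⟩
      nlinarith
    · refine Or.inr ⟨rfl, ?_⟩
      nlinarith

end Cfsg.Agent.Lib.Mitchell3
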