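import Cfsg.Agent.Lib.Mitchell3.Classes
import Cfsg.Agent.Lib.GorensteinWalter.Main

/-!
Mitchell package: the central quotient of a transvection-free perfect subgroup of `SL 3` in odd
characteristic is `PSL(2, r)`, `r` odd, or the alternating group of degree seven.
-/

set_option autoImplicit false
set_option linter.unusedSectionVars false

namespace Cfsg.Agent.Lib.Mitchell3

open Matrix
open Cfsg.Agent.Lib.GorensteinWalter (HasDihedralSylow IsKnownD)

variable {K : Type*} [Field K] {G : Subgroup (GL (Fin 3) K)}

theorem Ctx.known [IsAlgClosed K] (hc : Ctx G) {p : ℕ} [Fact p.Prime] [CharP K p] :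
    IsKnownD (G ⧸ scIn G) := by
  haveI := hc.fin
  refine Cfsg.Agent.Lib.GorensteinWalter.known_of_simple _ hc.simple hc.nonab fun S => ?_
  rcases hc.sylow_type S with h | h
  · exact h
  · obtain ⟨m, r, hnd⟩ := hc.nonDih (p := p) S h
    exact (hc.no_nonDih hnd (p := p)).elim

end Cfsg.Agent.Lib.Mitchell3
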