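import Cfsg.Agent.Lib.Mitchell3.Sylow

/-!
Mitchell package: with semidihedral or wreathed Sylow 2-subgroups the homology groups of involutions have
order `2` or `4` modulo scalars; the numbers needed by the class equation.
-/

set_option autoImplicit false
set_option linter.unusedSectionVars false
set_option linter.style.haveILetI false

namespace Cfsg.Agent.Lib.Mitchell3

open Matrix Module
open Cfsg.Agent.Lib.Subspaces.Transvection

variable {K : Type*} [Field K] {G : Subgroup (GL (Fin 3) K)}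

theorem perm_four_inv : ∀ g : Equiv.Perm (Fin 4), ∃ h : Equiv.Perm (Fin 4), h * g * h⁻¹ = g⁻¹ := by
  decide +kernel

theorem perm_four_order : ∀ g : Equiv.Perm (Fin 4), g ^ 3 = 1 ∨ g ^ 4 = 1 := by
  decide +kernel

theorem perm_four_in_four : ∀ g v : Equiv.Perm (Fin 4), (v = g ∨ v = g ^ 2 ∨ v = g ^ 3) →
    v * v = 1 → v ≠ 1 → (Equiv.Perm.sign v = -1 → g ^ 2 = 1) ∧ (g ^ 2 ≠ 1 → Equiv.Perm.sign v = 1) := by
  decide +kernel

theorem perm_four_conj_sign : ∀ v w : Equiv.Perm (Fin 4), v * v = 1 → v ≠ 1 → w * w = 1 → w ≠ 1 →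
    Equiv.Perm.sign v = Equiv.Perm.sign w → ∃ g : Equiv.Perm (Fin 4), g * v * g⁻¹ = w := by
  decide +kernel

theorem perm_four_card_sign : ∀ e : ℤˣ, (Finset.univ.filter fun v : Equiv.Perm (Fin 4) =>
    v * v = 1 ∧ v ≠ 1 ∧ Equiv.Perm.sign v = e).card = if e = 1 then 3 else 6 := by
  decide +kernel

theorem perm_four_orderOf_le (g : Equiv.Perm (Fin 4)) : orderOf g ≤ 4 := by
  rcases perm_four_order g with h | h
  · exact (Nat.le_of_dvd (by norm_num) (orderOf_dvd_of_pow_eq_one h)).trans (by norm_num)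
  · exact Nat.le_of_dvd (by norm_num) (orderOf_dvd_of_pow_eq_one h)

/-- A centre of a homology commuting with an involution is the centre of the involution or lies on
its axis. -/
theorem centre_cases (h2 : (2 : K) ≠ 0) {t x : GL (Fin 3) K} {a φ b ψ : Fin 3 → K} {l : K}
    (hd : HomData t a φ (-1)) (hx : HomData x b ψ l) (hc : Commute t x) :
    φ ⬝ᵥ b = 0 ∨ ∃ u : K, b = u • a := by
  have h1 := hx.comm_centre hc
  generalize ψ ⬝ᵥ ((t : Matrix (Fin 3) (Fin 3) K) *ᵥ b) = e at h1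
  rw [hd.mulVec_eq b] at h1
  simp only [neg_one_sq, inv_one, sub_neg_eq_add, one_add_one_eq_two] at h1
  have h3 : (e + 1) • b = (2 * (φ ⬝ᵥ b)) • a := by linear_combination (norm := module) -h1
  by_cases he1 : e + 1 = 0
  · rw [he1, zero_smul] at h3
    rcases smul_eq_zero.mp h3.symm with h | h
    · exact Or.inl ((mul_eq_zero.mp h).resolve_left h2)
    · exact absurd h hd.ne_zero
  · refine Or.inr ⟨2 * (φ ⬝ᵥ b) / (e + 1), ?_⟩
    apply smul_right_injective _ he1
    simp only
    rw [smul_smul, mul_div_cancel₀ _ he1, h3]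

/-- A homology with the same centre lies in the homology group. -/
theorem mem_homGrp_of_centre (hTF : IsTF G) {g x : GL (Fin 3) K} (hg : g ∈ G) (hxG : x ∈ G)
    {a φ b ψ : Fin 3 → K} {l m : K} (hd : HomData g a φ l) (hx : HomData x b ψ m) {u : K}
    (hu : b = u • a) : x ∈ homGrp G hd.dot := by
  subst hu
  have hψa : ψ ⬝ᵥ a * u = 1 := by
    have := hx.dot
    rw [dotProduct_smul, smul_eq_mul] at this
    linear_combination this
  have hu0 : u ≠ 0 := fun e => by rw [e, mul_zero] at hψa; exact zero_ne_one hψa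
  have hfix : ∃ c : K, (g : Matrix (Fin 3) (Fin 3) K) *ᵥ (u • a) = c • (u • a) :=
    ⟨(l ^ 2)⁻¹, by rw [mulVec_smul, hd.centre, smul_comm]⟩
  have hc : Commute g x := (commute_iff_fix hTF hxG hg hx).mpr hfix
  have hker : ∀ w, φ ⬝ᵥ w = 0 → ψ ⬝ᵥ w = 0 := by
    intro w hw
    have h1 : (g : Matrix (Fin 3) (Fin 3) K) *ᵥ ((x : Matrix (Fin 3) (Fin 3) K) *ᵥ w) =
        l • ((x : Matrix (Fin 3) (Fin 3) K) *ᵥ w) := by
      rw [← gl_mul_mulVec, hc.eq, gl_mul_mulVec, hd.axis hw, mulVec_smul]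
    rw [hd.mulVec_eq, add_eq_left, smul_eq_zero] at h1
    have h2 := (mul_eq_zero.mp (h1.resolve_right hd.ne_zero)).resolve_left hd.diff_ne
    rw [hx.mulVec_eq, dotProduct_add, dotProduct_smul, dotProduct_smul, dotProduct_smul, hd.dot,
      hw, smul_zero, zero_add, smul_eq_mul, smul_eq_mul, mul_one] at h2
    exact (mul_eq_zero.mp ((mul_eq_zero.mp h2).resolve_right hu0)).resolve_left hx.diff_ne
  have hψ : ∀ w, ψ ⬝ᵥ w = (φ ⬝ᵥ w) * (ψ ⬝ᵥ a) := fun w => by
    have h0 : φ ⬝ᵥ (w - (φ ⬝ᵥ w) • a) = 0 := by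
      rw [dotProduct_sub, dotProduct_smul, hd.dot, smul_eq_mul, mul_one, sub_self]
    have := hker _ h0
    rw [dotProduct_sub, dotProduct_smul, smul_eq_mul, sub_eq_zero] at this
    exact this
  refine ⟨hxG, m, hx.2.1, Matrix.mulVec_injective (funext fun w => ?_)⟩
  rw [hx.mulVec_eq, homMat_mulVec, smul_smul, hψ]
  congr 2
  linear_combination ((m ^ 2)⁻¹ - m) * (φ ⬝ᵥ w) * hψa

theorem trace_homMat {a φ : Fin 3 → K} (h : φ ⬝ᵥ a = 1) (l : K) :
    (homMat a φ l).trace = 2 * l + (l ^ 2)⁻¹ := by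
  simp [Matrix.trace, Fin.sum_univ_three, homMat, vecMulVec_apply]
  simp [dotProduct, Fin.sum_univ_three] at h
  linear_combination ((l ^ 2)⁻¹ - l) * h

section Bound

variable (hc : Ctx G) {t : GL (Fin 3) K} (ht : t ∈ G) {a φ : Fin 3 → K} (hd : HomData t a φ (-1))
  (σ : cenG G t →* Equiv.Perm (Fin 4))
  (hσ : ∀ x : cenG G t, σ x = 1 ↔ (x : GL (Fin 3) K) ∈ homGrp G hd.dot)

include hc ht hσ

/-- Size of the stabiliser of a frame through the centre of an involution. -/
theorem frame_bound {x x' : GL (Fin 3) K} (hx : x ∈ G) (hx' : x' ∈ G) {b ψ c χ : Fin 3 → K} {l l' : K}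
    (hxd : HomData x b ψ l) (hxd' : HomData x' c χ l') (f1 : φ ⬝ᵥ b = 0) (f2 : φ ⬝ᵥ c = 0)
    (f3 : ψ ⬝ᵥ a = 0) (f4 : ψ ⬝ᵥ c = 0) (f5 : χ ⬝ᵥ a = 0) (f6 : χ ⬝ᵥ b = 0) :
    ∃ g : Equiv.Perm (Fin 4),
      Nat.card ↥(cenG G t ⊓ cenG G x ⊓ cenG G x') = Nat.card (homGrp G hd.dot) * orderOf g ∧
      Nat.card (homGrp G hxd.dot) * Nat.card (homGrp G hxd'.dot) ≤
        Nat.card ↥(cenG G t ⊓ cenG G x ⊓ cenG G x') * Nat.card (scIn G) ∧
      ∀ y : cenG G t, (y : GL (Fin 3) K) ∈ cenG G x ⊓ cenG G x' → σ y ∈ Subgroup.zpowers g := by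
  classical
  haveI := hc.fin
  have ext3 := (frame_ext hd.dot hxd.dot hxd'.dot f1 f2 f3 f4 f5 f6).2
  set A := cenG G t ⊓ cenG G x ⊓ cenG G x' with hA
  have hAG : A ≤ G := inf_le_left.trans (inf_le_left.trans inf_le_left)
  haveI : Finite A := Finite.of_injective _ (Subgroup.inclusion_injective hAG)
  have hmem : ∀ y, y ∈ A ↔ y ∈ cenG G t ∧ y ∈ cenG G x ∧ y ∈ cenG G x' := fun y => by
    rw [hA, Subgroup.mem_inf, Subgroup.mem_inf, and_assoc]
  let ι : A →* cenG G t := Subgroup.inclusion (inf_le_left.trans inf_le_left)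
  let f : A →* Equiv.Perm (Fin 4) := σ.comp ι
  have hH : ∀ y, y ∈ homGrp G hd.dot → y ∈ A := by
    intro y hy
    have htc : y ∈ cenG G t := mem_cenG.mpr ⟨hy.1,
      (commute_homGrp hc.tf ht ht hd (Commute.refl t) hy).symm⟩
    obtain ⟨-, m, -, hy2⟩ := id hy
    refine (hmem y).mpr ⟨htc, mem_cenG.mpr ⟨hy.1, (commute_iff_fix hc.tf hx hy.1 hxd).mpr ⟨m, ?_⟩⟩,
      mem_cenG.mpr ⟨hy.1, (commute_iff_fix hc.tf hx' hy.1 hxd').mpr ⟨m, ?_⟩⟩⟩
    · rw [hy2, homMat_mulVec_axis f1]
    · rw [hy2, homMat_mulVec_axis f2]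
  have hker : f.ker = (homGrp G hd.dot).subgroupOf A := by
    ext y
    rw [MonoidHom.mem_ker, Subgroup.mem_subgroupOf]
    exact hσ (ι y)
  -- the ratio of the two eigenvalues
  let eb : A → K := fun y => ψ ⬝ᵥ (((y : GL (Fin 3) K) : Matrix (Fin 3) (Fin 3) K) *ᵥ b)
  let ec : A → K := fun y => χ ⬝ᵥ (((y : GL (Fin 3) K) : Matrix (Fin 3) (Fin 3) K) *ᵥ c)
  have heb : ∀ y : A, ((y : GL (Fin 3) K) : Matrix (Fin 3) (Fin 3) K) *ᵥ b = eb y • b := fun y =>
    hxd.comm_centre (mem_cenG.mp ((hmem _).mp y.2).2.1).2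
  have hec : ∀ y : A, ((y : GL (Fin 3) K) : Matrix (Fin 3) (Fin 3) K) *ᵥ c = ec y • c := fun y =>
    hxd'.comm_centre (mem_cenG.mp ((hmem _).mp y.2).2.2).2
  have hec0 : ∀ y, ec y ≠ 0 := fun y e => hxd'.ne_zero (gl_mulVec_injective (y : GL (Fin 3) K) (by
    simp [hec y, e]))
  let rt : A →* K :=
    { toFun := fun y => eb y / ec y
      map_one' := by simp [eb, ec, hxd.dot, hxd'.dot]
      map_mul' := fun y w => by
        have h1 : eb (y * w) = eb y * eb w := smul_left_injective K hxd.ne_zero (by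
          simp only
          rw [← heb, Subgroup.coe_mul, gl_mul_mulVec, heb w, mulVec_smul, heb y, smul_smul, mul_comm])
        have h2 : ec (y * w) = ec y * ec w := smul_left_injective K hxd'.ne_zero (by
          simp only
          rw [← hec, Subgroup.coe_mul, gl_mul_mulVec, hec w, mulVec_smul, hec y, smul_smul, mul_comm])
        rw [h1, h2, div_mul_div_comm] }
  have hrt : rt.ker ≤ f.ker := fun y hy => by
    rw [hker, Subgroup.mem_subgroupOf]
    have he : eb y = ec y := (div_eq_one_iff_eq (hec0 y)).mp hy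
    have hyG := hAG y.2
    have hya := hd.comm_centre (mem_cenG.mp ((hmem _).mp y.2).1).2
    generalize φ ⬝ᵥ (((y : GL (Fin 3) K) : Matrix (Fin 3) (Fin 3) K) *ᵥ a) = e at hya
    have hdet := hc.sl _ hyG
    have hM : ((y : GL (Fin 3) K) : Matrix (Fin 3) (Fin 3) K) = ec y • 1 + (e - ec y) • vecMulVec a φ := by
      refine ext3 _ _ ?_ ?_ ?_ <;>
        simp only [add_mulVec, smul_mulVec, one_mulVec, vecMulVec_mulVec, op_smul_eq_smul]
      · rw [hya, hd.dot, one_smul, ← add_smul, add_sub_cancel]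
      · rw [heb, he, f1, zero_smul, smul_zero, add_zero]
      · rw [hec, f2, zero_smul, smul_zero, add_zero]
    rw [hM, show ec y • (1 : Matrix (Fin 3) (Fin 3) K) + (e - ec y) • vecMulVec a φ =
        ec y • (1 + vecMulVec (((e - ec y) / ec y) • a) φ) by
      rw [smul_add, smul_vecMulVec, smul_smul, mul_div_cancel₀ _ (hec0 y)], det_smul,
      vecMulVec_eq Unit, det_one_add_replicateCol_mul_replicateRow, dotProduct_smul, hd.dot,
      Fintype.card_fin, smul_eq_mul] at hdet
    refine ⟨hyG, ec y, hec0 y, ?_⟩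
    have := hec0 y
    rw [hM, homMat, show ((ec y) ^ 2)⁻¹ = e by field_simp at hdet ⊢; linear_combination -hdet]
  let rtU : A →* Kˣ := rt.toHomUnits
  have hrtU : rtU.ker ≤ f.ker := fun y hy => hrt (by
    have := congrArg Units.val (MonoidHom.mem_ker.mp hy)
    simpa [rtU] using this)
  haveI : Finite rtU.range := Finite.of_surjective _ rtU.rangeRestrict_surjective
  haveI : IsCyclic f.range := by
    refine isCyclic_of_surjective ((rtU.rangeRestrict).liftOfSurjective
      rtU.rangeRestrict_surjective ⟨f.rangeRestrict, ?_⟩) ?_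
    · rwa [MonoidHom.ker_rangeRestrict, MonoidHom.ker_rangeRestrict]
    · intro v
      obtain ⟨y, rfl⟩ := f.rangeRestrict_surjective v
      exact ⟨rtU.rangeRestrict y, MonoidHom.liftOfRightInverse_comp_apply _ _ _ _ y⟩
  obtain ⟨g, hg⟩ := (Subgroup.isCyclic_iff_exists_zpowers_eq_top f.range).mp inferInstance
  refine ⟨g, ?_, ?_, fun y hy => hg ▸ ⟨⟨y, (hmem _).mpr ⟨y.2, hy⟩⟩, rfl⟩⟩
  · rw [← Subgroup.card_mul_index f.ker, hker,
      Nat.card_congr (Subgroup.subgroupOfEquivOfLe hH).toEquiv, ← hker, Subgroup.index_ker, ← hg,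
      Nat.card_zpowers]
  · -- the product map
    have hb : ∀ y ∈ homGrp G hxd.dot, y ∈ A := by
      intro y hy
      obtain ⟨-, m, -, hy2⟩ := id hy
      refine (hmem y).mpr ⟨mem_cenG.mpr ⟨hy.1, (commute_iff_fix hc.tf ht hy.1 hd).mpr ⟨m, ?_⟩⟩,
        mem_cenG.mpr ⟨hy.1, (commute_iff_fix hc.tf hx hy.1 hxd).mpr ⟨(m ^ 2)⁻¹, ?_⟩⟩,
        mem_cenG.mpr ⟨hy.1, (commute_iff_fix hc.tf hx' hy.1 hxd').mpr ⟨m, ?_⟩⟩⟩
      · rw [hy2, homMat_mulVec_axis f3]
      · rw [hy2, homMat_mulVec_centre hxd.dot]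
      · rw [hy2, homMat_mulVec_axis f4]
    have hcA : ∀ y ∈ homGrp G hxd'.dot, y ∈ A := by
      intro y hy
      obtain ⟨-, m, -, hy2⟩ := id hy
      refine (hmem y).mpr ⟨mem_cenG.mpr ⟨hy.1, (commute_iff_fix hc.tf ht hy.1 hd).mpr ⟨m, ?_⟩⟩,
        mem_cenG.mpr ⟨hy.1, (commute_iff_fix hc.tf hx hy.1 hxd).mpr ⟨m, ?_⟩⟩,
        mem_cenG.mpr ⟨hy.1, (commute_iff_fix hc.tf hx' hy.1 hxd').mpr ⟨(m ^ 2)⁻¹, ?_⟩⟩⟩
      · rw [hy2, homMat_mulVec_axis f5]
      · rw [hy2, homMat_mulVec_axis f6]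
      · rw [hy2, homMat_mulVec_centre hxd'.dot]
    rw [← Nat.card_prod, ← Nat.card_prod]
    have hdiv : ∀ {u v : GL (Fin 3) K}, u ∈ homGrp G hxd.dot → v ∈ homGrp G hxd'.dot → u = v → IsSc u := by
      intro u v hu hv e
      obtain ⟨-, m, hm, hu2⟩ := hu
      obtain ⟨-, n, hn, hv2⟩ := hv
      subst e
      have e1 := congrArg (· *ᵥ b) (hu2.symm.trans hv2)
      have e2 := congrArg (· *ᵥ c) (hu2.symm.trans hv2)
      simp only [homMat_mulVec_centre hxd.dot, homMat_mulVec_axis f6] at e1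
      simp only [homMat_mulVec_axis f4, homMat_mulVec_centre hxd'.dot] at e2
      have h1 := smul_left_injective K hxd.ne_zero e1
      have h2 := smul_left_injective K hxd'.ne_zero e2
      refine ⟨m, ?_⟩
      have hm3 : (m ^ 2)⁻¹ - m = 0 := by
        rw [← h1] at h2
        field_simp at h2 ⊢
        linear_combination h2
      rw [hu2, homMat, hm3, zero_smul, add_zero]
    let ψf : ↥(homGrp G hxd.dot) × ↥(homGrp G hxd'.dot) → ↥A := fun uv =>
      ⟨uv.1 * uv.2, A.mul_mem (hb _ uv.1.2) (hcA _ uv.2.2)⟩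
    -- the fibres have at most one point per scalar
    haveI : Finite (homGrp G hxd.dot) := Finite.of_injective _ (Subgroup.inclusion_injective (homGrp_le _))
    haveI : Finite (homGrp G hxd'.dot) := Finite.of_injective _ (Subgroup.inclusion_injective (homGrp_le _))
    choose pre hpre using fun w : Set.range ψf => w.2
    let Φ : ↥(homGrp G hxd.dot) × ↥(homGrp G hxd'.dot) → ↥A × ↥(scIn G) := fun uv =>
      (ψf uv, ⟨⟨((pre ⟨_, uv, rfl⟩).1 : GL (Fin 3) K)⁻¹ * uv.1,
        G.mul_mem (G.inv_mem (pre ⟨_, uv, rfl⟩).1.2.1) uv.1.2.1⟩, mem_scIn.mpr (by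
          set w := pre ⟨_, uv, rfl⟩ with hw
          have h := congrArg Subtype.val (hpre ⟨_, uv, rfl⟩)
          change (w.1 : GL (Fin 3) K) * w.2 = uv.1 * uv.2 at h
          refine hdiv (v := (w.2 : GL (Fin 3) K) * (uv.2 : GL (Fin 3) K)⁻¹)
            ((homGrp G hxd.dot).mul_mem ((homGrp G hxd.dot).inv_mem w.1.2) uv.1.2)
            ((homGrp G hxd'.dot).mul_mem w.2.2 ((homGrp G hxd'.dot).inv_mem uv.2.2)) ?_
          rw [inv_mul_eq_iff_eq_mul, ← mul_assoc, h]; group)⟩)
    refine Nat.card_le_card_of_injective Φ fun uv uv' e => ?_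
    simp only [Φ, Prod.mk.injEq, Subtype.mk.injEq] at e
    obtain ⟨e1, e2⟩ := e
    have hp : pre ⟨_, uv, rfl⟩ = pre ⟨_, uv', rfl⟩ := by congr 1; exact Subtype.ext e1
    rw [hp] at e2
    have hu : uv.1 = uv'.1 := Subtype.ext (mul_left_cancel e2)
    refine Prod.ext hu (Subtype.ext ?_)
    have := congrArg Subtype.val e1
    change (uv.1 : GL (Fin 3) K) * uv.2 = uv'.1 * uv'.2 at this
    rw [hu] at this
    exact mul_left_cancel this

end Bound

/-- What the class equation needs: `m` is the order of the homology group of an involution modulo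
scalars and `r` the number of involutions centralising an involution. -/
structure NonDih (G : Subgroup (GL (Fin 3) K)) (m r : ℕ) : Prop where
  cases : m = 2 ∧ r = 13 ∨ m = 4 ∧ r = 7
  exists_invol : ∃ t ∈ G, orderOf t = 2
  card_cen : ∀ t ∈ G, orderOf t = 2 → Nat.card (cenG G t) = 24 * m * Nat.card (scIn G)
  card_inv : ∀ t ∈ G, orderOf t = 2 → Nat.card {s : cenG G t // orderOf s = 2} = r
  card_hom : ∀ t ∈ G, orderOf t = 2 → ∀ a φ, ∀ h : HomData t a φ (-1),
    Nat.card (homGrp G h.dot) = m * Nat.card (scIn G)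
  card_four : ∀ t ∈ G, ∀ s ∈ G, orderOf t = 2 → orderOf s = 2 → Commute t s → t ≠ s →
    Nat.card ↥(cenG G t ⊓ cenG G s) = m * m * Nat.card (scIn G)
  hom_centre : ∀ x ∈ G, ∀ t ∈ G, orderOf t = 2 → IsHom x → Commute x t →
    ∃ s ∈ G, orderOf s = 2 ∧ ∃ a φ, ∃ h : HomData s a φ (-1), x ∈ homGrp G h.dot

/-- An involution in the homology group of `t` is `t`. -/
theorem invol_mem_homGrp (hSL : InSL G) {t s : GL (Fin 3) K} {a φ : Fin 3 → K}
    (hd : HomData t a φ (-1)) (hs : s ∈ homGrp G hd.dot) (os : orderOf s = 2) : s = t := by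
  have h2 : s * s = 1 := by rw [← pow_two, ← os]; exact pow_orderOf_eq_one s
  rcases homGrp_cases hs with h | ⟨l, hl⟩
  · rw [sc_invol_eq_one hSL hs.1 h h2, orderOf_one] at os
    exact absurd os (by decide)
  · have hll : l * l = 1 := homMat_inj hd.dot (by
      rw [← homMat_mul hd.dot, ← hl.2.2.2, ← Units.val_mul, h2, Units.val_one, homMat_one])
    rcases mul_self_eq_one_iff.mp hll with rfl | rfl
    · exact absurd (one_pow 3) hl.2.2.1
    · exact Units.ext (hl.2.2.2.trans hd.2.2.2.symm)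

theorem homGrp_le_cenG (hTF : IsTF G) {t : GL (Fin 3) K} (ht : t ∈ G) {a φ : Fin 3 → K} {l : K}
    (hd : HomData t a φ l) : homGrp G hd.dot ≤ cenG G t := fun _ hy =>
  mem_cenG.mpr ⟨hy.1, (commute_homGrp hTF ht ht hd (Commute.refl t) hy).symm⟩

/-- The number of involutions in the centraliser of an involution. -/
theorem card_invol_cen (hc : Ctx G) {t : GL (Fin 3) K} (ht : t ∈ G) {a φ : Fin 3 → K}
    (hd : HomData t a φ (-1)) (σ : cenG G t →* Equiv.Perm (Fin 4)) (hσs : Function.Surjective σ)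
    (hσ : ∀ x : cenG G t, σ x = 1 ↔ (x : GL (Fin 3) K) ∈ homGrp G hd.dot) (e : ℤˣ)
    (hsign : ∀ s : cenG G t, orderOf s = 2 → (s : GL (Fin 3) K) ≠ t → Equiv.Perm.sign (σ s) = e)
    (hex : ∃ s ∈ cenG G t, orderOf s = 2 ∧ s ≠ t) :
    Nat.card {s : cenG G t // orderOf s = 2} = 1 + 2 * (if e = 1 then 3 else 6) := by
  classical
  have ot := invol_of_homData hc.two hd
  let t' : cenG G t := ⟨t, mem_cenG.mpr ⟨ht, Commute.refl t⟩⟩
  have ot' : orderOf t' = 2 := by rw [← Subgroup.orderOf_coe]; exact ot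
  have t2 : t' * t' = 1 := by rw [← pow_two, ← ot']; exact pow_orderOf_eq_one _
  have hσt : σ t' = 1 := (hσ t').mpr ⟨ht, -1, hd.2.1, hd.2.2.2⟩
  have hcomm : ∀ s : cenG G t, Commute s t' := fun s => Subtype.ext (mem_cenG.mp s.2).2.eq
  have hout : ∀ s : cenG G t, orderOf s = 2 → s ≠ t' → σ s ≠ 1 := fun s os hne h =>
    hne (Subtype.ext (invol_mem_homGrp hc.sl hd ((hσ s).mp h) (by rw [Subgroup.orderOf_coe]; exact os)))
  obtain ⟨s₀, hs₀, os₀, hne₀⟩ := hex
  set s0 : cenG G t := ⟨s₀, hs₀⟩ with hs0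
  have os0 : orderOf s0 = 2 := by rw [← Subgroup.orderOf_coe]; exact os₀
  have hv0 : σ s0 ≠ 1 := hout s0 os0 fun h => hne₀ (congrArg Subtype.val h)
  have hv02 : σ s0 * σ s0 = 1 := by
    rw [← map_mul, ← pow_two, ← os0, pow_orderOf_eq_one, map_one]
  let P : Equiv.Perm (Fin 4) → Prop := fun v => v * v = 1 ∧ v ≠ 1 ∧ Equiv.Perm.sign v = e
  have hsec : ∀ v : {v // P v}, ∃ s : cenG G t, orderOf s = 2 ∧ σ s = v := by
    rintro ⟨v, hv2, hv1, hve⟩
    obtain ⟨g, hg⟩ := perm_four_conj_sign _ v hv02 hv0 hv2 hv1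
      ((hsign s0 os0 hne₀).trans hve.symm)
    obtain ⟨g, rfl⟩ := hσs g
    refine ⟨g * s0 * g⁻¹, ?_, by rw [map_mul, map_mul, map_inv]; exact hg⟩
    rw [← MulAut.conj_apply g s0, MulEquiv.orderOf_eq]; exact os0
  choose f hf1 hf2 using hsec
  let T : Option ({v // P v} × Bool) → {s : cenG G t // orderOf s = 2} := fun o =>
    match o with
    | none => ⟨t', ot'⟩
    | some (v, b) => ⟨f v * (if b then t' else 1), by
        have h2 : f v * f v = 1 := by rw [← pow_two, ← hf1 v]; exact pow_orderOf_eq_one _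
        refine orderOf_eq_prime ?_ fun h => v.2.2.1 ?_
        · cases b
          · simp [pow_two, h2]
          · rw [if_pos rfl, (hcomm (f v)).mul_pow, pow_two, pow_two, h2, t2, one_mul]
        · have h' := congrArg σ h
          rw [map_mul, hf2, map_one] at h'
          cases b <;> simpa [hσt] using h'⟩
  have hTsome : ∀ v b, σ (T (some (v, b))).1 = v.1 := fun v b => by
    show σ (f v * (if b then t' else 1)) = v.1
    cases b <;> simp [hf2, hσt]
  have hbij : Function.Bijective T := by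
    constructor
    · intro o o' heq
      rcases o with _ | ⟨v, b⟩ <;> rcases o' with _ | ⟨v', b'⟩
      · rfl
      · exact absurd ((hTsome v' b').symm.trans ((congrArg (fun s => σ s.1) heq.symm).trans hσt))
          v'.2.2.1
      · exact absurd ((hTsome v b).symm.trans ((congrArg (fun s => σ s.1) heq).trans hσt)) v.2.2.1
      · obtain rfl : v = v' := Subtype.ext (by rw [← hTsome v b, ← hTsome v' b', heq])
        have h1 : (if b then t' else 1) = (if b' then t' else 1) :=
          mul_left_cancel (congrArg Subtype.val heq)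
        have tne : t' ≠ 1 := fun h => by rw [h, orderOf_one] at ot'; exact absurd ot' (by decide)
        cases b <;> cases b' <;> simp_all
    · rintro ⟨s, os⟩
      by_cases hst : s = t'
      · exact ⟨none, Subtype.ext hst.symm⟩
      have hs2 : s * s = 1 := by rw [← pow_two, ← os]; exact pow_orderOf_eq_one s
      let v : {v // P v} := ⟨σ s, by rw [← map_mul, hs2, map_one], hout s os hst,
        hsign s os fun h => hst (Subtype.ext h)⟩
      set h := (f v)⁻¹ * s with hh
      have hfv : f v * f v = 1 := by rw [← pow_two, ← hf1 v]; exact pow_orderOf_eq_one _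
      have hσh : σ h = 1 := by rw [hh, map_mul, map_inv, hf2 v]; exact inv_mul_cancel _
      have hH := (hσ h).mp hσh
      have hfh : Commute (f v) h :=
        Subtype.ext (commute_homGrp hc.tf ht (mem_cenG.mp (f v).2).1 hd (mem_cenG.mp (f v).2).2 hH).eq
      have h2 : h * h = 1 := by
        have : s = f v * h := (mul_inv_cancel_left _ _).symm
        calc h * h = (f v * f v) * (h * h) := by rw [hfv, one_mul]
          _ = (f v * h) * (f v * h) := by rw [hfh.mul_mul_mul_comm]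
          _ = 1 := by rw [← this, hs2]
      by_cases h1 : h = 1
      · refine ⟨some (v, false), Subtype.ext ?_⟩
        show f v * 1 = s
        rw [← h1, hh, mul_inv_cancel_left]
      · refine ⟨some (v, true), Subtype.ext ?_⟩
        have : h = t' := Subtype.ext (invol_mem_homGrp hc.sl hd hH
          (by rw [Subgroup.orderOf_coe]; exact orderOf_eq_prime (by rw [pow_two]; exact h2) h1))
        show f v * t' = s
        rw [← this, hh, mul_inv_cancel_left]
  rw [← Nat.card_eq_of_bijective T hbij, Finite.card_option, Nat.card_prod,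
    Nat.card_eq_fintype_card, Fintype.card_subtype, perm_four_card_sign e, Nat.card_eq_fintype_card,
    Fintype.card_bool]
  ring

/-- With semidihedral or wreathed Sylow 2-subgroups the numbers are forced. -/
theorem Ctx.nonDih [IsAlgClosed K] (hc : Ctx G) {p : ℕ} [Fact p.Prime] [CharP K p]
    (S : Sylow 2 (G ⧸ scIn G))
    (hS : Cfsg.IsQuasiDihedral (S : Subgroup (G ⧸ scIn G)) ∨ Cfsg.IsWreathed (S : Subgroup (G ⧸ scIn G))) :
    ∃ m r, NonDih G m r := by
  classical
  haveI := hc.fin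
  haveI : Fact (Nat.Prime 2) := ⟨Nat.prime_two⟩
  set z := Nat.card (scIn G) with hz
  have hz0 : 0 < z := Nat.card_pos
  -- an involution
  obtain ⟨-, u0, -, ou0, -, -⟩ := sd_wreathed_facts hS
  obtain ⟨t0, ot0, -⟩ := exists_invol_lift hc.sl (q := (u0 : G ⧸ scIn G))
    (by rw [Subgroup.orderOf_coe]; exact ou0)
  obtain ⟨a0, φ0, hd0⟩ := invol_homData hc.sl hc.tf hc.two t0.2 ot0
  -- scalars in a homology group
  let sc : Subgroup (GL (Fin 3) K) := (scIn G).map G.subtype
  have hscle : ∀ {a φ : Fin 3 → K} (h : φ ⬝ᵥ a = 1), sc ≤ homGrp G h := by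
    rintro a φ h _ ⟨y, hy, rfl⟩
    exact sc_mem_homGrp hc.sl h y.2 (mem_scIn.mp hy)
  have hsccard : Nat.card sc = z :=
    (Nat.card_congr ((scIn G).equivMapOfInjective _ G.subtype_injective).toEquiv).symm
  have hz3 : z ∣ 3 := by
    haveI : Finite (homGrp G hd0.dot) :=
      Finite.of_injective _ (Subgroup.inclusion_injective (homGrp_le _))
    haveI := homGrp_cyclic (G := G) hd0.dot
    haveI : IsCyclic sc := isCyclic_of_injective (Subgroup.inclusion (hscle hd0.dot))
      (Subgroup.inclusion_injective _)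
    rw [← hsccard, ← IsCyclic.exponent_eq_card]
    refine Monoid.exponent_dvd_of_forall_pow_eq_one fun y => Subtype.ext ?_
    obtain ⟨w, hw, hwy⟩ := y.2
    rw [Subgroup.coe_pow, ← hwy, Subgroup.coe_one]
    exact sc_pow_three hc.sl w.2 (mem_scIn.mp hw)
  have hzodd : Odd z := by
    rcases Nat.prime_three.eq_one_or_self_of_dvd z hz3 with h | h <;> rw [h] <;> decide
  -- the homology groups
  have key1 : ∀ t ∈ G, ∀ s ∈ G, orderOf t = 2 → orderOf s = 2 → Commute t s → t ≠ s →
      ∀ a φ b ψ c χ, ∀ (hd : HomData t a φ (-1)) (hds : HomData s b ψ (-1))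
        (hdu : HomData (t * s) c χ (-1)),
      φ ⬝ᵥ b = 0 → φ ⬝ᵥ c = 0 → ψ ⬝ᵥ a = 0 → ψ ⬝ᵥ c = 0 → χ ⬝ᵥ a = 0 → χ ⬝ᵥ b = 0 →
      Nat.card (homGrp G hds.dot) * Nat.card (homGrp G hdu.dot) ≤
        4 * Nat.card (homGrp G hd.dot) * z := by
    intro t ht s hs ot os hcs hne a φ b ψ c χ hd hds hdu f1 f2 f3 f4 f5 f6
    obtain ⟨σ, -, hσ, -⟩ := hc.invol_data (p := p) S hS ht hd
    obtain ⟨g, hA, hB, -⟩ := frame_bound hc ht hd σ hσ hs (G.mul_mem ht hs) hds hdu f1 f2 f3 f4 f5 f6
    refine hB.trans ?_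
    rw [hA, mul_comm 4]
    exact Nat.mul_le_mul_right _ (Nat.mul_le_mul_left _ (perm_four_orderOf_le g))
  have hdiv : ∀ t ∈ G, ∀ {a φ : Fin 3 → K} (hd : HomData t a φ (-1)),
      2 * z ∣ Nat.card (homGrp G hd.dot) := by
    intro t ht a φ hd
    refine Nat.Coprime.mul_dvd_of_dvd_of_dvd (Nat.coprime_two_left.mpr hzodd) ?_
      (hsccard ▸ Subgroup.card_dvd_of_le (hscle hd.dot))
    rw [← invol_of_homData hc.two hd]
    exact Subgroup.orderOf_dvd_natCard _ ⟨ht, -1, hd.2.1, hd.2.2.2⟩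
  have hsize : ∀ t ∈ G, ∀ {a φ : Fin 3 → K} (hd : HomData t a φ (-1)),
      ∃ k, (k = 2 ∨ k = 4) ∧ Nat.card (homGrp G hd.dot) = k * z := by
    intro t ht a φ hd
    have ot := invol_of_homData hc.two hd
    obtain ⟨-, -, -, -, ⟨s, hs, os, hne⟩, -⟩ := hc.invol_data (p := p) S hS ht hd
    obtain ⟨hsG, hst⟩ := mem_cenG.mp hs
    have huG : t * s ∈ G := G.mul_mem ht hsG
    have t2 : t * t = 1 := by rw [← pow_two, ← ot]; exact pow_orderOf_eq_one t
    have ous : t * s ≠ s := fun e => by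
      rw [mul_eq_right.mp e, orderOf_one] at ot; exact absurd ot (by decide)
    have ou : orderOf (t * s) = 2 := by
      refine orderOf_eq_prime ?_ fun e => hne (mul_left_cancel (t2.trans e.symm)).symm
      rw [hst.symm.mul_pow, ← ot, pow_orderOf_eq_one, ot, ← os, pow_orderOf_eq_one, one_mul]
    have hus : Commute (t * s) s := hst.symm.mul_left (Commute.refl s)
    obtain ⟨a', φ', b, ψ, c, χ, hd', hds, hdu, f1, f2, f3, f4, f5, f6⟩ :=
      four_frame hc.sl hc.tf hc.two huG hsG ou os hus ous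
    have e1 := key1 _ huG s hsG ou os hus ous _ _ _ _ _ _ hd' hds hdu f1 f2 f3 f4 f5 f6
    have hdu' : HomData (s * (t * s)) c χ (-1) := by rw [← hus.eq]; exact hdu
    have e2 := key1 s hsG _ huG os ou hus.symm ous.symm _ _ _ _ _ _ hds hd' hdu' f3 f4 f1 f2 f6 f5
    have htc : HomData t c χ (-1) := by
      have e : t * s * s = t := by
        rw [mul_assoc, ← pow_two, ← os, pow_orderOf_eq_one, mul_one]
      rwa [e] at hdu
    have hsame : Nat.card (homGrp G hd.dot) = Nat.card (homGrp G hdu.dot) := by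
      congr 2
      refine le_antisymm (fun y hy => ?_) (fun y hy => ?_) <;>
        rcases homGrp_cases hy with h | ⟨l, hl⟩
      · exact sc_mem_homGrp hc.sl _ hy.1 h
      · obtain ⟨u, hu⟩ : ∃ u : K, a = u • c := by
          refine ⟨χ ⬝ᵥ a, ?_⟩
          have hat := htc.mulVec_eq a
          rw [hd.centre] at hat
          simp only [neg_one_sq, inv_one, one_smul, sub_neg_eq_add, one_add_one_eq_two] at hat
          apply smul_right_injective _ hc.two
          simp only
          linear_combination (norm := module) hat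
        exact mem_homGrp_of_centre hc.tf ht hy.1 htc hl hu
      · exact sc_mem_homGrp hc.sl _ hy.1 h
      · obtain ⟨u, hu⟩ : ∃ u : K, c = u • a := by
          refine ⟨φ ⬝ᵥ c, ?_⟩
          have hct := hd.mulVec_eq c
          rw [htc.centre] at hct
          simp only [neg_one_sq, inv_one, one_smul, sub_neg_eq_add, one_add_one_eq_two] at hct
          apply smul_right_injective _ hc.two
          simp only
          linear_combination (norm := module) hct
        exact mem_homGrp_of_centre hc.tf ht hy.1 hd hl hu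
    have hpos : ∀ {a φ : Fin 3 → K} (h : φ ⬝ᵥ a = 1), 0 < Nat.card (homGrp G h) := fun h => by
      haveI : Finite (homGrp G h) := Finite.of_injective _ (Subgroup.inclusion_injective (homGrp_le _))
      exact Nat.card_pos
    have hu_le : Nat.card (homGrp G hdu.dot) ≤ 4 * z := by
      have h12 := Nat.mul_le_mul e1 e2
      set A := Nat.card (homGrp G hd'.dot)
      set B := Nat.card (homGrp G hds.dot)
      set C := Nat.card (homGrp G hdu.dot)
      by_contra hcon
      push Not at hcon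
      have hAB : 0 < A * B := Nat.mul_pos (hpos _) (hpos _)
      have : (4 * z) * (4 * z) < C * C := Nat.mul_lt_mul'' hcon hcon
      have := Nat.mul_lt_mul_of_pos_left this hAB
      nlinarith
    obtain ⟨k, hk⟩ := hdiv t ht hd
    rw [← hsame, hk] at hu_le
    have : k ≤ 2 := by nlinarith
    refine ⟨2 * k, ?_, by rw [hk]; ring⟩
    have : 0 < k := Nat.pos_of_ne_zero fun e => by
      have := hpos hd.dot; rw [hk, e, mul_zero] at this; exact lt_irrefl _ this
    omega
  obtain ⟨m, hm, hm0⟩ := hsize t0 t0.2 hd0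
  have hfact : ∀ k, (k = 2 ∨ k = 4) → 2 ^ (k * z).factorization 2 = k := by
    intro k hk
    rw [Nat.factorization_mul (by omega) hz0.ne', Finsupp.add_apply,
      Nat.factorization_eq_zero_of_not_dvd (n := z) (Nat.two_dvd_ne_zero.mpr (Nat.odd_iff.mp hzodd)),
      add_zero]
    rcases hk with rfl | rfl
    · rw [Nat.Prime.factorization_self Nat.prime_two, pow_one]
    · rw [show (4 : ℕ) = 2 ^ 2 from rfl, Nat.Prime.factorization_pow Nat.prime_two]
      simp
  have hall : ∀ t ∈ G, ∀ {a φ : Fin 3 → K} (hd : HomData t a φ (-1)),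
      Nat.card (homGrp G hd.dot) = m * z := by
    intro t ht a φ hd
    obtain ⟨k, hk, hk0⟩ := hsize t ht hd
    obtain ⟨-, -, -, h1, -, -⟩ := hc.invol_data (p := p) S hS ht hd
    obtain ⟨-, -, -, h2, -, -⟩ := hc.invol_data (p := p) S hS t0.2 hd0
    rw [hk0, hfact k hk] at h1
    rw [hm0, hfact m hm] at h2
    rw [hk0, show k = m by omega]
  -- pairs of involutions
  have hfour : ∀ t ∈ G, ∀ s ∈ G, orderOf t = 2 → orderOf s = 2 → Commute t s → t ≠ s →
      Nat.card ↥(cenG G t ⊓ cenG G s) = m * m * z ∧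
      ∀ {a φ : Fin 3 → K} (hd : HomData t a φ (-1)) (σ : cenG G t →* Equiv.Perm (Fin 4)),
        (∀ x : cenG G t, σ x = 1 ↔ (x : GL (Fin 3) K) ∈ homGrp G hd.dot) → m = 4 →
        ∀ hs : s ∈ cenG G t, Equiv.Perm.sign (σ ⟨s, hs⟩) = 1 := by
    intro t ht s hs ot os hcs hne
    obtain ⟨a, φ, b, ψ, c, χ, hd, hds, hdu, f1, f2, f3, f4, f5, f6⟩ :=
      four_frame hc.sl hc.tf hc.two ht hs ot os hcs hne
    have heq : cenG G t ⊓ cenG G s ⊓ cenG G (t * s) = cenG G t ⊓ cenG G s := by
      refine inf_eq_left.mpr fun y hy => ?_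
      exact mem_cenG.mpr ⟨(mem_cenG.mp hy.1).1, (mem_cenG.mp hy.1).2.mul_right (mem_cenG.mp hy.2).2⟩
    have hsC : s ∈ cenG G t := mem_cenG.mpr ⟨hs, hcs.symm⟩
    have hsS : s ∈ cenG G s ⊓ cenG G (t * s) := ⟨mem_cenG.mpr ⟨hs, Commute.refl s⟩,
      mem_cenG.mpr ⟨hs, hcs.symm.mul_right (Commute.refl s)⟩⟩
    have core : ∀ (σ : cenG G t →* Equiv.Perm (Fin 4)),
        (∀ x : cenG G t, σ x = 1 ↔ (x : GL (Fin 3) K) ∈ homGrp G hd.dot) →
        ∃ g : Equiv.Perm (Fin 4), Nat.card ↥(cenG G t ⊓ cenG G s) = m * z * orderOf g ∧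
          m ≤ orderOf g ∧ (σ ⟨s, hsC⟩ = g ∨ σ ⟨s, hsC⟩ = g ^ 2 ∨ σ ⟨s, hsC⟩ = g ^ 3) ∧
          σ ⟨s, hsC⟩ * σ ⟨s, hsC⟩ = 1 ∧ σ ⟨s, hsC⟩ ≠ 1 := by
      intro σ hσ
      obtain ⟨g, hA, hB, hgen⟩ :=
        frame_bound hc ht hd σ hσ hs (G.mul_mem ht hs) hds hdu f1 f2 f3 f4 f5 f6
      rw [heq, hall t ht hd] at hA
      rw [heq, hA, hall s hs hds, hall _ (G.mul_mem ht hs) hdu] at hB
      have hne1 : σ ⟨s, hsC⟩ ≠ 1 := fun e => hne (invol_mem_homGrp hc.sl hd ((hσ _).mp e) os).symm
      refine ⟨g, hA, ?_, ?_, ?_, hne1⟩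
      · have hmz : 0 < m * z * z := by
          rcases hm with rfl | rfl <;> positivity
        have hz' : Nat.card (scIn G) = z := rfl
        rw [hz'] at hB
        nlinarith
      · obtain ⟨j, hj, e⟩ : ∃ j < orderOf g, g ^ j = σ ⟨s, hsC⟩ := by
          have h := hgen ⟨s, hsC⟩ hsS
          rw [(isOfFinOrder_of_finite g).mem_zpowers_iff_mem_range_orderOf] at h
          simpa using h
        have : j < 4 := lt_of_lt_of_le hj (perm_four_orderOf_le g)
        interval_cases j
        · exact absurd (e.symm.trans (pow_zero g)) hne1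
        · exact Or.inl (e.symm.trans (pow_one g))
        · exact Or.inr (Or.inl e.symm)
        · exact Or.inr (Or.inr e.symm)
      · rw [← map_mul, show (⟨s, hsC⟩ : cenG G t) * ⟨s, hsC⟩ = 1 from Subtype.ext (by
          rw [Subgroup.coe_mul, ← pow_two, ← os]; exact pow_orderOf_eq_one s), map_one]
    refine ⟨?_, ?_⟩
    · obtain ⟨σ, -, hσ, -, -, hneg⟩ := hc.invol_data (p := p) S hS ht hd
      obtain ⟨g, hA, hmg, hgv, hv2, hv1⟩ := core σ hσ
      have h4 := perm_four_orderOf_le g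
      suffices orderOf g = m by rw [hA, this]; ring
      rcases hm with rfl | rfl
      · have hneg' := hneg (by
          rw [hall t ht hd]
          exact Nat.pow_right_injective le_rfl ((hfact 2 (Or.inl rfl)).trans (pow_one 2).symm))
          ⟨s, hsC⟩ (by rw [← Subgroup.orderOf_coe]; exact os) hne.symm
        have := Nat.le_of_dvd (by norm_num)
          (orderOf_dvd_of_pow_eq_one ((perm_four_in_four g _ hgv hv2 hv1).1 hneg'))
        omega
      · omega
    · intro a' φ' hd' σ hσ hm4 hs'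
      have hHH : homGrp G hd'.dot = homGrp G hd.dot := by
        refine le_antisymm (fun y hy => ?_) (fun y hy => ?_) <;>
          rcases homGrp_cases hy with h | ⟨l, hl⟩
        · exact sc_mem_homGrp hc.sl _ hy.1 h
        · obtain ⟨u, hu⟩ : ∃ u : K, a' = u • a := by
            refine ⟨φ ⬝ᵥ a', ?_⟩
            have hat := hd.mulVec_eq a'
            rw [hd'.centre] at hat
            simp only [neg_one_sq, inv_one, one_smul, sub_neg_eq_add, one_add_one_eq_two] at hat
            apply smul_right_injective _ hc.two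
            simp only
            linear_combination (norm := module) hat
          exact mem_homGrp_of_centre hc.tf ht hy.1 hd hl hu
        · exact sc_mem_homGrp hc.sl _ hy.1 h
        · obtain ⟨u, hu⟩ : ∃ u : K, a = u • a' := by
            refine ⟨φ' ⬝ᵥ a, ?_⟩
            have hat := hd'.mulVec_eq a
            rw [hd.centre] at hat
            simp only [neg_one_sq, inv_one, one_smul, sub_neg_eq_add, one_add_one_eq_two] at hat
            apply smul_right_injective _ hc.two
            simp only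
            linear_combination (norm := module) hat
          exact mem_homGrp_of_centre hc.tf ht hy.1 hd' hl hu
      obtain ⟨g, -, hmg, hgv, hv2, hv1⟩ := core σ fun x => by rw [hσ x, hHH]
      exact (perm_four_in_four g _ hgv hv2 hv1).2 fun e => by
        have := Nat.le_of_dvd (by norm_num) (orderOf_dvd_of_pow_eq_one e)
        omega
  refine ⟨m, 1 + 2 * (if m = 2 then 6 else 3), ⟨?_, ⟨t0, t0.2, ot0⟩, ?_, ?_, ?_, ?_, ?_⟩⟩
  · rcases hm with rfl | rfl
    · exact Or.inl ⟨rfl, rfl⟩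
    · exact Or.inr ⟨rfl, rfl⟩
  · intro t ht ot
    obtain ⟨a, φ, hd⟩ := invol_homData hc.sl hc.tf hc.two ht ot
    obtain ⟨σ, hσs, hσ, -⟩ := hc.invol_data (p := p) S hS ht hd
    have hker : σ.ker = (homGrp G hd.dot).subgroupOf (cenG G t) := by
      ext x; exact hσ x
    rw [← Subgroup.card_mul_index σ.ker, hker,
      Nat.card_congr (Subgroup.subgroupOfEquivOfLe (homGrp_le_cenG hc.tf ht hd)).toEquiv, ← hker,
      Subgroup.index_ker, MonoidHom.range_eq_top.mpr hσs, Subgroup.card_top, hall t ht hd,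
      Nat.card_eq_fintype_card (α := Equiv.Perm (Fin 4)), Fintype.card_perm, Fintype.card_fin,
      show Nat.factorial 4 = 24 from rfl]
    ring
  · intro t ht ot
    obtain ⟨a, φ, hd⟩ := invol_homData hc.sl hc.tf hc.two ht ot
    obtain ⟨σ, hσs, hσ, -, hex, hneg⟩ := hc.invol_data (p := p) S hS ht hd
    rw [card_invol_cen hc ht hd σ hσs hσ (if m = 2 then -1 else 1) ?_ hex]
    · rcases hm with rfl | rfl <;> rfl
    · intro s os hst
      rcases hm with rfl | rfl
      · refine hneg ?_ s os hst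
        rw [hall t ht hd]
        exact Nat.pow_right_injective le_rfl ((hfact 2 (Or.inl rfl)).trans (pow_one 2).symm)
      · exact (hfour t ht s (mem_cenG.mp s.2).1 ot (by rw [Subgroup.orderOf_coe]; exact os)
          (mem_cenG.mp s.2).2.symm hst.symm).2 hd σ hσ rfl s.2
  · intro t ht ot a φ h
    exact hall t ht h
  · intro t ht s hs ot os hcs hne
    exact (hfour t ht s hs ot os hcs hne).1
  · intro x hx t ht ot ⟨b, ψ, l, hxd⟩ hxt
    obtain ⟨a, φ, hd⟩ := invol_homData hc.sl hc.tf hc.two ht ot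
    rcases centre_cases hc.two hd hxd hxt.symm with hb | ⟨u, hu⟩
    swap
    · exact ⟨t, ht, ot, a, φ, hd, mem_homGrp_of_centre hc.tf ht hx hd hxd hu⟩
    haveI : Finite (homGrp G hxd.dot) :=
      Finite.of_injective _ (Subgroup.inclusion_injective (homGrp_le _))
    have hxH : x ∈ homGrp G hxd.dot := ⟨hx, l, hxd.2.1, hxd.2.2.2⟩
    have heven : 2 ∣ Nat.card (homGrp G hxd.dot) → ∃ s ∈ G, orderOf s = 2 ∧ ∃ a φ,
        ∃ h : HomData s a φ (-1), x ∈ homGrp G h.dot := by
      intro h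
      obtain ⟨s, os⟩ := exists_prime_orderOf_dvd_card' 2 h
      rw [← Subgroup.orderOf_coe] at os
      have h2 : (s : GL (Fin 3) K) * s = 1 := by rw [← pow_two, ← os]; exact pow_orderOf_eq_one _
      rcases homGrp_cases s.2 with h | ⟨e, he⟩
      · rw [sc_invol_eq_one hc.sl s.2.1 h h2, orderOf_one] at os
        exact absurd os (by decide)
      · have hee : e * e = 1 := homMat_inj hxd.dot (by
          rw [← homMat_mul hxd.dot, ← he.2.2.2, ← Units.val_mul, h2, Units.val_one, homMat_one])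
        rcases mul_self_eq_one_iff.mp hee with rfl | rfl
        · exact absurd (one_pow 3) he.2.2.1
        · exact ⟨s, s.2.1, os, b, ψ, he, hxH⟩
    by_cases h2 : 2 ∣ Nat.card (homGrp G hxd.dot)
    · exact heven h2
    exfalso
    apply h2
    set N := Nat.card (homGrp G hxd.dot) with hN
    obtain ⟨σ, hσs, hσ, -⟩ := hc.invol_data (p := p) S hS ht hd
    set xc : cenG G t := ⟨x, mem_cenG.mpr ⟨hx, hxt⟩⟩ with hxc
    obtain ⟨w, hw⟩ := perm_four_inv (σ xc)
    obtain ⟨y, rfl⟩ := hσs w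
    set hh := y * xc * y⁻¹ * xc with hhdef
    have hσh : σ hh = 1 := by
      rw [hhdef, map_mul, map_mul, map_mul, map_inv, hw, inv_mul_cancel]
    have hH := (hσ hh).mp hσh
    obtain ⟨-, μ, hμ0, hμ⟩ := id hH
    have hcomm : Commute (y * xc * y⁻¹) xc := by
      have h1 : Commute xc hh := Subtype.ext (commute_homGrp hc.tf ht hx hd hxt hH).eq
      have h3 := h1.symm.mul_left (Commute.refl xc).inv_left
      rwa [hhdef, mul_inv_cancel_right] at h3
    have hxN : xc ^ N = 1 := Subtype.ext (by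
      rw [Subgroup.coe_pow]
      exact congrArg Subtype.val (pow_card_eq_one' (x := (⟨x, hxH⟩ : homGrp G hxd.dot))))
    have hhN : hh ^ N = 1 := by
      rw [hhdef, hcomm.mul_pow, conj_pow, hxN]; simp
    haveI : Finite (homGrp G hd.dot) :=
      Finite.of_injective _ (Subgroup.inclusion_injective (homGrp_le _))
    have hμ3 : μ ^ 3 = 1 := by
      have hpow : ∀ k, (((hh : GL (Fin 3) K) ^ k : GL (Fin 3) K) : Matrix (Fin 3) (Fin 3) K) =
          homMat a φ (μ ^ k) := fun k => by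
        induction k with
        | zero => rw [pow_zero, pow_zero, homMat_one, Units.val_one]
        | succ k ih => rw [pow_succ, Units.val_mul, ih, hμ, homMat_mul hd.dot, pow_succ]
      have h1 : μ ^ N = 1 := homMat_inj hd.dot (by
        rw [← hpow, ← Subgroup.coe_pow, hhN, Subgroup.coe_one, Units.val_one, homMat_one])
      have h2' : μ ^ (m * z) = 1 := homMat_inj hd.dot (by
        rw [← hall t ht hd, ← hpow]
        rw [show ((hh : GL (Fin 3) K) ^ Nat.card (homGrp G hd.dot)) = 1 from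
          congrArg Subtype.val (pow_card_eq_one' (x := (⟨(hh : GL (Fin 3) K), hH⟩ : homGrp G hd.dot))),
          Units.val_one, homMat_one])
      have hodd : Nat.Coprime N 2 :=
        Nat.coprime_two_right.mpr (Nat.odd_iff.mpr (Nat.two_dvd_ne_zero.mp h2))
      have hcop : Nat.Coprime N m := by
        rcases hm with e | e <;> rw [e]
        · exact hodd
        · rw [show (4 : ℕ) = 2 ^ 2 from rfl]; exact hodd.pow_right 2
      exact orderOf_dvd_iff_pow_eq_one.mp
        ((Nat.Coprime.dvd_of_dvd_mul_left (hcop.coprime_dvd_left (orderOf_dvd_of_pow_eq_one h1))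
          (orderOf_dvd_of_pow_eq_one h2')).trans hz3)
    -- the conjugate lies in the same homology group
    have hl0 := hxd.2.1
    set x' : GL (Fin 3) K := (y : GL (Fin 3) K) * x * (y : GL (Fin 3) K)⁻¹ with hx'
    have hx'x : (x' : Matrix (Fin 3) (Fin 3) K) = homMat b ψ (μ / l) := by
      have h1 : (x' : Matrix (Fin 3) (Fin 3) K) * homMat b ψ l = homMat b ψ μ := by
        rw [← hxd.2.2.2, ← Units.val_mul]
        refine (show ((hh : GL (Fin 3) K) : Matrix (Fin 3) (Fin 3) K) = _ from ?_)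
        have hd3 : (μ ^ 2)⁻¹ - μ = 0 := by field_simp; linear_combination -hμ3
        rw [hμ, homMat, homMat, hd3, zero_smul, zero_smul]
      calc (x' : Matrix (Fin 3) (Fin 3) K)
          = (x' : Matrix (Fin 3) (Fin 3) K) * homMat b ψ (l * l⁻¹) := by
            rw [mul_inv_cancel₀ hl0, homMat_one, mul_one]
        _ = (x' : Matrix (Fin 3) (Fin 3) K) * homMat b ψ l * homMat b ψ l⁻¹ := by
            rw [← homMat_mul hxd.dot, mul_assoc]
        _ = _ := by rw [h1, homMat_mul hxd.dot, div_eq_mul_inv]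
    set ν := μ / l with hν
    have hν0 : ν ≠ 0 := div_ne_zero hμ0 hl0
    set c := ((y : GL (Fin 3) K) : Matrix (Fin 3) (Fin 3) K) *ᵥ b with hcdef
    have hc0 : c ≠ 0 := fun e => hxd.ne_zero (gl_mulVec_injective (y : GL (Fin 3) K) (by
      show _ *ᵥ b = _ *ᵥ (0 : Fin 3 → K)
      rw [← hcdef, e, mulVec_zero]))
    have hx'c : (x' : Matrix (Fin 3) (Fin 3) K) *ᵥ c = (l ^ 2)⁻¹ • c := by
      rw [hx', hcdef, gl_mul_mulVec, gl_mul_mulVec, gl_inv_mulVec, hxd.centre, mulVec_smul]
    rw [hx'x, homMat_mulVec] at hx'c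
    have htr : 2 * ν + (ν ^ 2)⁻¹ = 2 * l + (l ^ 2)⁻¹ := by
      rw [← trace_homMat hxd.dot ν, ← trace_homMat hxd.dot l, ← hx'x, ← hxd.2.2.2, hx',
        Units.val_mul, Units.val_mul, Matrix.trace_units_conj]
    have hνl : ν = l := by
      by_cases he : ν = (l ^ 2)⁻¹
      · exfalso
        rw [he] at htr
        field_simp at htr
        apply hxd.2.2.1
        have : (l ^ 3 - 1) ^ 2 = 0 := by linear_combination htr
        exact sub_eq_zero.mp (pow_eq_zero_iff two_ne_zero |>.mp this)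
      · have hne : (l ^ 2)⁻¹ - ν ≠ 0 := sub_ne_zero.mpr (Ne.symm he)
        have h3 : ((l ^ 2)⁻¹ - ν) • c = (((ν ^ 2)⁻¹ - ν) * (ψ ⬝ᵥ c)) • b := by
          linear_combination (norm := module) -hx'c
        have hψc : ψ ⬝ᵥ c ≠ 0 := fun e => by
          rw [e, mul_zero, zero_smul, smul_eq_zero] at h3
          exact h3.elim hne hc0
        have h4 := congrArg (ψ ⬝ᵥ ·) h3
        simp only [dotProduct_smul, hxd.dot, smul_eq_mul, mul_one] at h4
        have h5 : (l ^ 2)⁻¹ = (ν ^ 2)⁻¹ := by linear_combination mul_right_cancel₀ hψc h4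
        rw [h5] at htr
        exact mul_left_cancel₀ hc.two (add_right_cancel htr)
    have hl6 : l ^ 6 = 1 := by
      have : μ = l * l := (div_eq_iff hl0).mp hνl
      rw [this] at hμ3
      linear_combination hμ3
    have hl3 : l ^ 3 = -1 := by
      have : (l ^ 3 - 1) * (l ^ 3 + 1) = 0 := by linear_combination hl6
      exact eq_neg_of_add_eq_zero_left ((mul_eq_zero.mp this).resolve_left (sub_ne_zero.mpr hxd.2.2.1))
    have hx3 : HomData (x ^ 3) b ψ (-1) := by
      refine ⟨hxd.dot, by simp, fun e => hc.two ?_, ?_⟩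
      · linear_combination -e
      · rw [pow_succ, pow_two, Units.val_mul, Units.val_mul, hxd.2.2.2, homMat_mul hxd.dot,
          homMat_mul hxd.dot, ← hl3, pow_succ, pow_two]
    rw [hN, ← invol_of_homData hc.two hx3]
    exact Subgroup.orderOf_dvd_natCard _ ((homGrp G hxd.dot).pow_mem hxH 3)

end Cfsg.Agent.Lib.Mitchell3
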