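import Cfsg.Agent.Lib.Mitchell3.Basic

/-!
Mitchell package: centralisers of homologies in a transvection-free group, involutions and four-groups.
-/

set_option autoImplicit false

namespace Cfsg.Agent.Lib.Mitchell3

open Matrix Module
open Cfsg.Agent.Lib.Subspaces.Transvection

variable {K : Type*} [Field K]

namespace HomData

variable {g : GL (Fin 3) K} {a φ : Fin 3 → K} {l : K}

theorem dot (h : HomData g a φ l) : φ ⬝ᵥ a = 1 := h.1

theorem ne_zero (h : HomData g a φ l) : a ≠ 0 := fun e => by simpa [e] using h.dot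

theorem diff_ne (h : HomData g a φ l) : (l ^ 2)⁻¹ - l ≠ 0 := fun e => h.2.2.1 <| by
  have hl := h.2.1
  field_simp at e
  linear_combination -e

theorem mulVec_eq (h : HomData g a φ l) (x : Fin 3 → K) :
    (g : Matrix (Fin 3) (Fin 3) K) *ᵥ x = l • x + (((l ^ 2)⁻¹ - l) * (φ ⬝ᵥ x)) • a := by
  rw [h.2.2.2, homMat_mulVec]

theorem centre (h : HomData g a φ l) :
    (g : Matrix (Fin 3) (Fin 3) K) *ᵥ a = (l ^ 2)⁻¹ • a := by
  rw [h.2.2.2, homMat_mulVec_centre h.dot]

theorem axis (h : HomData g a φ l) {x : Fin 3 → K} (hx : φ ⬝ᵥ x = 0) :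
    (g : Matrix (Fin 3) (Fin 3) K) *ᵥ x = l • x := by
  rw [h.2.2.2, homMat_mulVec_axis hx]

theorem not_sc (h : HomData g a φ l) : ¬ IsSc g := by
  rintro ⟨c, hc⟩
  have h1 := h.centre
  obtain ⟨x, hx0, hx⟩ : ∃ x : Fin 3 → K, x ≠ 0 ∧ φ ⬝ᵥ x = 0 := by
    have hker : 0 < finrank K (LinearMap.ker (dotProductEquiv K (Fin 3) φ)) := by
      have := LinearMap.finrank_range_add_finrank_ker (dotProductEquiv K (Fin 3) φ)
      have := Submodule.finrank_le (LinearMap.range (dotProductEquiv K (Fin 3) φ))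
      rw [finrank_fin_fun, finrank_self] at *
      omega
    obtain ⟨x, hx, hx0⟩ := Submodule.exists_mem_ne_zero_of_ne_bot fun e => by
      rw [Submodule.finrank_eq_zero.mpr e] at hker; exact lt_irrefl _ hker
    exact ⟨x, hx0, by simpa [dotProductEquiv_apply_apply] using hx⟩
  have h2 := h.axis hx
  rw [hc, smul_mulVec, one_mulVec] at h1 h2
  exact h.diff_ne (by rw [← smul_left_injective K h.ne_zero h1, smul_left_injective K hx0 h2, sub_self])

theorem comm_centre (h : HomData g a φ l) {x : GL (Fin 3) K} (hx : Commute x g) :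
    (x : Matrix (Fin 3) (Fin 3) K) *ᵥ a = (φ ⬝ᵥ ((x : Matrix (Fin 3) (Fin 3) K) *ᵥ a)) • a := by
  have h1 : (g : Matrix (Fin 3) (Fin 3) K) *ᵥ ((x : Matrix (Fin 3) (Fin 3) K) *ᵥ a) =
      (l ^ 2)⁻¹ • ((x : Matrix (Fin 3) (Fin 3) K) *ᵥ a) := by
    rw [← gl_mul_mulVec, ← hx.eq, gl_mul_mulVec, h.centre, mulVec_smul]
  rw [h.mulVec_eq] at h1
  apply smul_right_injective _ h.diff_ne
  simp only
  rw [smul_smul, sub_smul]
  exact (eq_sub_iff_add_eq'.mpr h1).symm

end HomData

variable {G : Subgroup (GL (Fin 3) K)}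

/-- Uniqueness of the homology with given centre: an element of the group fixing the centre
commutes with the homology. -/
theorem commute_of_fix (hTF : IsTF G) {g x : GL (Fin 3) K} (hg : g ∈ G) (hxG : x ∈ G)
    {a φ : Fin 3 → K} {l : K} (h : HomData g a φ l) {c : K}
    (hxa : (x : Matrix (Fin 3) (Fin 3) K) *ᵥ a = c • a) : Commute x g := by
  have hl := h.2.1
  have hc : c ≠ 0 := fun e => h.ne_zero (gl_mulVec_injective x (by simp [hxa, e]))
  set xi : Matrix (Fin 3) (Fin 3) K := ((x⁻¹ : GL (Fin 3) K) : Matrix (Fin 3) (Fin 3) K) with hxi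
  set ψ : Fin 3 → K := c • (φ ᵥ* xi) with hψ
  have hxia : xi *ᵥ a = c⁻¹ • a := by
    apply gl_mulVec_injective x
    show (x : Matrix (Fin 3) (Fin 3) K) *ᵥ _ = (x : Matrix (Fin 3) (Fin 3) K) *ᵥ _
    rw [hxi, gl_mulVec_inv, mulVec_smul, hxa, smul_smul, inv_mul_cancel₀ hc, one_smul]
  have hψa : ψ ⬝ᵥ a = 1 := by
    rw [hψ, smul_dotProduct, ← dotProduct_mulVec, hxia, dotProduct_smul, h.dot, smul_eq_mul,
      smul_eq_mul, mul_one, mul_inv_cancel₀ hc]
  have hy : ∀ w, (((x * g * x⁻¹ : GL (Fin 3) K)) : Matrix (Fin 3) (Fin 3) K) *ᵥ w =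
      homMat a ψ l *ᵥ w := fun w => by
    rw [gl_mul_mulVec, gl_mul_mulVec, h.mulVec_eq, mulVec_add, mulVec_smul, mulVec_smul,
      gl_mulVec_inv, hxa, homMat_mulVec, hψ, smul_dotProduct, ← dotProduct_mulVec, smul_smul,
      smul_eq_mul]
    congr 2; ring
  set χ : Fin 3 → K := (l ^ 2 * ((l ^ 2)⁻¹ - l)) • (ψ - φ) with hχ
  have hχa : χ ⬝ᵥ a = 0 := by
    rw [hχ, smul_dotProduct, sub_dotProduct, hψa, h.dot, sub_self, smul_zero]
  have heq : g * tv a χ = x * g * x⁻¹ := gl_ext fun w => by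
    rw [gl_mul_mulVec, tv_mulVec hχa, mulVec_add, mulVec_smul, h.centre, h.mulVec_eq, hy,
      homMat_mulVec, hχ, smul_dotProduct, sub_dotProduct, smul_smul, smul_eq_mul, add_assoc,
      ← add_smul]
    congr 2
    field_simp
    ring
  have hmem : tv a χ ∈ G := by
    have : tv a χ = g⁻¹ * (x * g * x⁻¹) := by rw [← heq]; group
    rw [this]
    exact G.mul_mem (G.inv_mem hg) (G.mul_mem (G.mul_mem hxG hg) (G.inv_mem hxG))
  rw [hTF a χ hχa hmem, mul_one] at heq
  show x * g = g * x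
  nth_rw 2 [heq]
  group

theorem commute_iff_fix (hTF : IsTF G) {g x : GL (Fin 3) K} (hg : g ∈ G) (hxG : x ∈ G)
    {a φ : Fin 3 → K} {l : K} (h : HomData g a φ l) :
    Commute x g ↔ ∃ c : K, (x : Matrix (Fin 3) (Fin 3) K) *ᵥ a = c • a :=
  ⟨fun hx => ⟨_, h.comm_centre hx⟩, fun ⟨_, hc⟩ => commute_of_fix hTF hg hxG h hc⟩

/-- The elements of `G` acting as scalars on the axis and fixing the centre. -/
def homGrp (G : Subgroup (GL (Fin 3) K)) {a φ : Fin 3 → K} (h : φ ⬝ᵥ a = 1) :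
    Subgroup (GL (Fin 3) K) where
  carrier := {g | g ∈ G ∧ ∃ l : K, l ≠ 0 ∧ (g : Matrix (Fin 3) (Fin 3) K) = homMat a φ l}
  one_mem' := ⟨G.one_mem, 1, one_ne_zero, by rw [homMat_one, Units.val_one]⟩
  mul_mem' := by
    rintro x y ⟨hx, l, hl, ex⟩ ⟨hy, m, hm, ey⟩
    exact ⟨G.mul_mem hx hy, l * m, mul_ne_zero hl hm, by rw [Units.val_mul, ex, ey, homMat_mul h]⟩
  inv_mem' := by
    rintro x ⟨hx, l, hl, ex⟩
    refine ⟨G.inv_mem hx, l⁻¹, inv_ne_zero hl, ?_⟩
    have h1 : (x : Matrix (Fin 3) (Fin 3) K) * homMat a φ l⁻¹ = 1 := by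
      rw [ex, homMat_mul h, mul_inv_cancel₀ hl, homMat_one]
    exact (Units.inv_eq_of_mul_eq_one_right h1)

theorem mem_homGrp {a φ : Fin 3 → K} {h : φ ⬝ᵥ a = 1} {g : GL (Fin 3) K} :
    g ∈ homGrp G h ↔ g ∈ G ∧ ∃ l : K, l ≠ 0 ∧ (g : Matrix (Fin 3) (Fin 3) K) = homMat a φ l :=
  Iff.rfl

theorem homGrp_le {a φ : Fin 3 → K} (h : φ ⬝ᵥ a = 1) : homGrp G h ≤ G := fun _ hg => hg.1

theorem sc_mem_homGrp (hSL : InSL G) {a φ : Fin 3 → K} (h : φ ⬝ᵥ a = 1) {z : GL (Fin 3) K}
    (hz : z ∈ G) (hs : IsSc z) : z ∈ homGrp G h := by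
  obtain ⟨c, hc⟩ := hs
  have hd := hSL z hz
  rw [hc, det_smul, det_one, mul_one, Fintype.card_fin] at hd
  have hc0 : c ≠ 0 := fun e => by rw [e] at hd; simp at hd
  refine ⟨hz, c, hc0, ?_⟩
  have : (c ^ 2)⁻¹ - c = 0 := by field_simp; linear_combination -hd
  rw [hc, homMat, this, zero_smul, add_zero]

/-- An element of `homGrp` is a scalar or a homology with that centre. -/
theorem homGrp_cases {a φ : Fin 3 → K} {h : φ ⬝ᵥ a = 1} {g : GL (Fin 3) K}
    (hg : g ∈ homGrp G h) : IsSc g ∨ ∃ l, HomData g a φ l := by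
  obtain ⟨-, l, hl, e⟩ := hg
  by_cases h3 : l ^ 3 = 1
  · left
    refine ⟨l, ?_⟩
    have : (l ^ 2)⁻¹ - l = 0 := by field_simp; linear_combination -h3
    rw [e, homMat, this, zero_smul, add_zero]
  · exact Or.inr ⟨l, h, hl, h3, e⟩

/-- Everything commuting with one homology commutes with all those of the same centre. -/
theorem commute_homGrp (hTF : IsTF G) {g x y : GL (Fin 3) K} (hg : g ∈ G) (hx : x ∈ G)
    {a φ : Fin 3 → K} {l : K} (h : HomData g a φ l) (hxg : Commute x g)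
    (hy : y ∈ homGrp G h.dot) : Commute x y := by
  rcases homGrp_cases hy with ⟨c, hc⟩ | ⟨m, hm⟩
  · exact Units.ext (by simp [hc])
  · exact commute_of_fix hTF hy.1 hx hm (h.comm_centre hxg)

/-- The multiplier on `homGrp`. -/
theorem homGrp_cyclic [Finite G] {a φ : Fin 3 → K} (h : φ ⬝ᵥ a = 1) : IsCyclic (homGrp G h) := by
  haveI : Finite (homGrp G h) := Finite.of_injective _ (Subgroup.inclusion_injective (homGrp_le h))
  classical
  let f : homGrp G h → K := fun g => g.2.2.choose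
  have hf : ∀ g : homGrp G h, ((g : GL (Fin 3) K) : Matrix (Fin 3) (Fin 3) K) = homMat a φ (f g) :=
    fun g => g.2.2.choose_spec.2
  let F : homGrp G h →* K :=
    { toFun := f
      map_one' := homMat_inj h (by rw [← hf, homMat_one, Subgroup.coe_one, Units.val_one])
      map_mul' := fun x y => homMat_inj h (by rw [← homMat_mul h, ← hf, ← hf, ← hf]; rfl) }
  refine isCyclic_of_subgroup_isDomain F fun x y e => Subtype.ext (Units.ext ?_)
  rw [hf x, hf y]
  exact congrArg (homMat a φ) e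

section Involutions

/-- An involution is a homology with multiplier `-1`. -/
theorem invol_homData (hSL : InSL G) (hTF : IsTF G) (h2 : (2 : K) ≠ 0) {t : GL (Fin 3) K}
    (ht : t ∈ G) (ho : orderOf t = 2) : ∃ a φ, HomData t a φ (-1) := by
  have ht2 : t * t = 1 := by rw [← pow_two, ← ho]; exact pow_orderOf_eq_one t
  have hne : t ≠ 1 := fun e => by rw [e, orderOf_one] at ho; exact absurd ho (by decide)
  set M : Matrix (Fin 3) (Fin 3) K := (t : Matrix (Fin 3) (Fin 3) K) with hM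
  have hMM : M * M = 1 := by rw [hM, ← Units.val_mul, ht2, Units.val_one]
  have hns : ¬ IsSc t := by
    rintro ⟨c, hc⟩
    have hd := hSL t ht
    rw [hc, det_smul, det_one, mul_one, Fintype.card_fin] at hd
    rw [← hM] at hc
    have h1 := congrFun (congrFun hMM 0) 0
    rw [hc] at h1
    simp at h1
    apply hne
    refine Units.ext ?_
    rw [← hM, hc, Units.val_one, show c = 1 by linear_combination hd - c * h1, one_smul]
  have hsum : 3 ≤ finrank K (LinearMap.ker (Matrix.toLin' (M - (1 : K) • 1))) +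
      finrank K (LinearMap.ker (Matrix.toLin' (M - (-1 : K) • 1))) := by
    have hle : LinearMap.range (Matrix.toLin' (M - (1 : K) • 1)) ≤
        LinearMap.ker (Matrix.toLin' (M - (-1 : K) • 1)) := by
      rw [LinearMap.range_le_ker_iff, ← Matrix.toLin'_mul]
      have : (M - (-1 : K) • 1) * (M - (1 : K) • 1) = 0 := by
        simp only [sub_mul, mul_sub, smul_mul_assoc, mul_smul_comm, one_mul, mul_one, hMM]
        module
      rw [this, map_zero]
    have := LinearMap.finrank_range_add_finrank_ker (Matrix.toLin' (M - (1 : K) • 1))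
    rw [finrank_fin_fun] at this
    have := Submodule.finrank_mono hle
    omega
  have hH : IsHom t := by
    by_cases h : 2 ≤ finrank K (LinearMap.ker (Matrix.toLin' (M - (1 : K) • 1)))
    · exact isHom_of_eigenspace hSL hTF ht hns 1 h
    · exact isHom_of_eigenspace hSL hTF ht hns (-1) (by rw [← hM]; omega)
  obtain ⟨a, φ, l, hd⟩ := hH
  have hl : l * l = 1 := homMat_inj hd.dot (by
    rw [← homMat_mul hd.dot, ← hd.2.2.2, ← hM, hMM, homMat_one])
  rcases mul_self_eq_one_iff.mp hl with rfl | rfl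
  · exact absurd (one_pow 3) hd.2.2.1
  · exact ⟨a, φ, hd⟩

theorem invol_of_homData (h2 : (2 : K) ≠ 0) {t : GL (Fin 3) K} {a φ : Fin 3 → K}
    (h : HomData t a φ (-1)) : orderOf t = 2 := by
  refine orderOf_eq_prime ?_ fun e => h.not_sc ⟨1, by rw [e, Units.val_one, one_smul]⟩
  refine Units.ext ?_
  rw [Units.val_pow_eq_pow_val, pow_two, h.2.2.2, homMat_mul h.dot, Units.val_one,
    neg_one_mul, neg_neg, homMat_one]

/-- An involution is determined by its centre. -/
theorem invol_eq_of_centre (hTF : IsTF G) (h2 : (2 : K) ≠ 0) {t s : GL (Fin 3) K} (ht : t ∈ G)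
    (hs : s ∈ G) {a φ b ψ : Fin 3 → K} (hd : HomData t a φ (-1)) (hds : HomData s b ψ (-1))
    {u : K} (hu : b = u • a) : s = t := by
  subst hu
  have hψ : ψ ⬝ᵥ a * u = 1 := by
    have := hds.dot
    rw [dotProduct_smul, smul_eq_mul] at this
    linear_combination this
  set χ : Fin 3 → K := (2 : K) • (u • ψ - φ) with hχ
  have hχa : χ ⬝ᵥ a = 0 := by
    rw [hχ, smul_dotProduct, sub_dotProduct, smul_dotProduct, hd.dot, smul_eq_mul, smul_eq_mul]
    linear_combination 2 * hψ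
  have hts : t * s = tv a χ := gl_ext fun w => by
    rw [gl_mul_mulVec, tv_mulVec hχa, hds.mulVec_eq, mulVec_add, mulVec_smul, mulVec_smul,
      mulVec_smul, hd.centre, hd.mulVec_eq, hχ, smul_dotProduct, sub_dotProduct, smul_dotProduct]
    simp only [smul_eq_mul, neg_one_sq, inv_one]
    match_scalars <;> ring
  have h1 := hTF a χ hχa (hts ▸ G.mul_mem ht hs)
  rw [h1] at hts
  have ht2 : t * t = 1 := by rw [← pow_two, ← invol_of_homData h2 hd]; exact pow_orderOf_eq_one t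
  exact mul_left_cancel (hts.trans ht2.symm)

/-- The centre of one of two commuting distinct involutions lies on the axis of the other. -/
theorem centre_on_axis (hTF : IsTF G) (h2 : (2 : K) ≠ 0) {t s : GL (Fin 3) K} (ht : t ∈ G)
    (hs : s ∈ G) {a φ b ψ : Fin 3 → K} (hd : HomData t a φ (-1)) (hds : HomData s b ψ (-1))
    (hc : Commute t s) (hne : t ≠ s) : φ ⬝ᵥ b = 0 := by
  by_contra h0
  have h1 : (t : Matrix (Fin 3) (Fin 3) K) *ᵥ b = (ψ ⬝ᵥ ((t : Matrix (Fin 3) (Fin 3) K) *ᵥ b)) • b :=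
    hds.comm_centre hc
  generalize he : ψ ⬝ᵥ ((t : Matrix (Fin 3) (Fin 3) K) *ᵥ b) = e at h1
  rw [hd.mulVec_eq b] at h1
  simp only [neg_one_sq, inv_one, sub_neg_eq_add, one_add_one_eq_two] at h1
  have h3 : (e + 1) • b = (2 * (φ ⬝ᵥ b)) • a := by
    linear_combination (norm := module) -h1
  by_cases he1 : e + 1 = 0
  · rw [he1, zero_smul] at h3
    rcases smul_eq_zero.mp h3.symm with h | h
    · exact mul_ne_zero h2 h0 h
    · exact hd.ne_zero h
  refine hne (invol_eq_of_centre hTF h2 ht hs hd hds (u := 2 * (φ ⬝ᵥ b) / (e + 1)) ?_).symm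
  apply smul_right_injective _ he1
  simp only
  rw [smul_smul, mul_div_cancel₀ _ he1, h3]

/-- Data of a four-group: three pairwise orthogonal centres. -/
theorem four_frame (hSL : InSL G) (hTF : IsTF G) (h2 : (2 : K) ≠ 0) {t s : GL (Fin 3) K}
    (ht : t ∈ G) (hs : s ∈ G) (ot : orderOf t = 2) (os : orderOf s = 2) (hc : Commute t s)
    (hne : t ≠ s) :
    ∃ a φ b ψ c χ, HomData t a φ (-1) ∧ HomData s b ψ (-1) ∧ HomData (t * s) c χ (-1) ∧
      φ ⬝ᵥ b = 0 ∧ φ ⬝ᵥ c = 0 ∧ ψ ⬝ᵥ a = 0 ∧ ψ ⬝ᵥ c = 0 ∧ χ ⬝ᵥ a = 0 ∧ χ ⬝ᵥ b = 0 := by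
  have ht2 : t * t = 1 := by rw [← pow_two, ← ot]; exact pow_orderOf_eq_one t
  have hs2 : s * s = 1 := by rw [← pow_two, ← os]; exact pow_orderOf_eq_one s
  have hts1 : t * s ≠ 1 := fun e => hne (mul_left_cancel (ht2.trans e.symm))
  have ots : orderOf (t * s) = 2 := by
    refine orderOf_eq_prime ?_ hts1
    rw [hc.mul_pow, pow_two, pow_two, ht2, hs2, mul_one]
  obtain ⟨a, φ, hd⟩ := invol_homData hSL hTF h2 ht ot
  obtain ⟨b, ψ, hds⟩ := invol_homData hSL hTF h2 hs os
  obtain ⟨c, χ, hdu⟩ := invol_homData hSL hTF h2 (G.mul_mem ht hs) ots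
  have htu : Commute t (t * s) := (Commute.refl t).mul_right hc
  have hsu : Commute s (t * s) := hc.symm.mul_right (Commute.refl s)
  have tne : t ≠ t * s := fun e => by
    have : s = 1 := mul_left_cancel (e.symm.trans (mul_one t).symm)
    rw [this, orderOf_one] at os; exact absurd os (by decide)
  have sne : s ≠ t * s := fun e => by
    have : t = 1 := mul_right_cancel (e.symm.trans (one_mul s).symm)
    rw [this, orderOf_one] at ot; exact absurd ot (by decide)
  exact ⟨a, φ, b, ψ, c, χ, hd, hds, hdu, centre_on_axis hTF h2 ht hs hd hds hc hne,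
    centre_on_axis hTF h2 ht (G.mul_mem ht hs) hd hdu htu tne,
    centre_on_axis hTF h2 hs ht hds hd hc.symm hne.symm,
    centre_on_axis hTF h2 hs (G.mul_mem ht hs) hds hdu hsu sne,
    centre_on_axis hTF h2 (G.mul_mem ht hs) ht hdu hd htu.symm tne.symm,
    centre_on_axis hTF h2 (G.mul_mem ht hs) hs hdu hds hsu.symm sne.symm⟩

end Involutions

end Cfsg.Agent.Lib.Mitchell3
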