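import Cfsg.Agent.Lib.Mitchell3.Residual

/-!
Mitchell package: the maximal subgroups of `SL(3, q)` in the residual class.
-/

set_option autoImplicit false
set_option linter.unusedSectionVars false
set_option linter.style.haveILetI false

namespace Cfsg.Agent.Lib.Mitchell3

open Matrix

universe u

variable {F : Type u} [Field F] [Fintype F]

/-- The conclusion for a core. -/
def LinearCases (p : ℕ) (P : Subgroup (GL (Fin 3) F)) : Prop :=
  (Nonempty (coreQuot P ≃* Matrix.ProjectiveSpecialLinearGroup (Fin 3) (ZMod 2)) ∧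
      Fintype.card F = p ∧ p ≠ 2 ∧ (p % 7 = 1 ∨ p % 7 = 2 ∨ p % 7 = 4)) ∨
   (Nonempty (coreQuot P ≃* alternatingGroup (Fin 6)) ∧
      ((Fintype.card F = p ∧ (p % 15 = 1 ∨ p % 15 = 4)) ∨
        (Fintype.card F = p ^ 2 ∧ p ≠ 3 ∧ (p % 5 = 2 ∨ p % 5 = 3))))

/-- The odd characteristic case. -/
theorem linear_odd {p α : ℕ} [Fact p.Prime] [CharP F p] (hp : p ≠ 2) (hF : Fintype.card F = p ^ α)
    {H P : Subgroup (GL (Fin 3) F)} (hH : Cfsg.Geo.IsMaximalIn (Cfsg.Geo.specialLinear (Fin 3) F) H)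
    (hR : Cfsg.Geo.IsResidualCore H P)
    (hnq : ¬ ∃ Q : (Fin 3 → F) → F, Cfsg.Geo.IsNondegenerateQuadraticForm Q ∧
      Cfsg.Geo.FixesQuadForm (Cfsg.Geo.matrixSet P) Q)
    (hnu : ¬ ∃ (σ : F ≃+* F) (f : (Fin 3 → F) → (Fin 3 → F) → F), Cfsg.Geo.IsUnitaryForm σ f ∧
      Cfsg.Geo.FixesForm (Cfsg.Geo.matrixSet P) f) :
    LinearCases p P := by
  classical
  have hpp : p.Prime := Fact.out
  have h2 : (2 : F) ≠ 0 := fun e => hp ((Nat.prime_dvd_prime_iff_eq hpp Nat.prime_two).mp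
    ((CharP.cast_eq_zero_iff F p 2).mp (by exact_mod_cast e)))
  have hSL : InSL P := fun x hx =>
    (Cfsg.Agent.Lib.Subspaces.Transvection.mem_specialLinear_iff x).mp (hH.1.le (hR.le hx))
  have hTF : IsTF P := by
    by_contra hc
    exact big_linear hH hR hnu (bigCore_of_hasTv hR h2 (hasTv_of_not_tf hc))
  have hone : ∀ {htr : ∀ x ∈ P, tr3 x ^ p = tr3 x}, α = 1 := fun {htr} =>
    Nat.dvd_one.mp (degree_dvd_core hF hR (d := 1) (by simpa using htr))
  rcases odd_cases hp hF hR hSL hTF with hself | ⟨h7, hcase⟩ | ⟨h6, hp3, ha, hb, hc, -, hd⟩ | ⟨-, -, htr⟩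
  · exact (quad_false hR h2 hnq hself).elim
  · rcases hcase with ⟨hm, htr⟩ | ⟨-, htr⟩
    · obtain rfl := hone (htr := htr)
      exact Or.inl ⟨h7, by rw [hF, pow_one], hp, hm⟩
    · exact (twisted_linear_false hF hR h2 hnq hnu htr).elim
  · refine Or.inr ⟨h6, ?_⟩
    have h30 : p % 3 ≠ 0 := fun e => hp3 ((Nat.prime_dvd_prime_iff_eq Nat.prime_three hpp).mp
      (Nat.dvd_of_mod_eq_zero e)).symm
    by_cases h23 : p % 5 = 2 ∨ p % 5 = 3
    · right
      obtain rfl : α = 2 := ((Nat.dvd_prime Nat.prime_two).mp (degree_dvd_core hF hR hb)).resolve_left (hd h23)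
      exact ⟨hF, hp3, h23⟩
    have h5 : p % 5 = 0 → p = 5 := fun e =>
      ((Nat.prime_dvd_prime_iff_eq (by norm_num) hpp).mp (Nat.dvd_of_mod_eq_zero e)).symm
    by_cases h31 : p % 3 = 1
    · have h14 : p % 5 = 1 ∨ p % 5 = 4 := by
        by_cases e : p % 5 = 0
        · rw [h5 e] at h31; norm_num at h31
        · omega
      obtain rfl := hone (htr := ha ⟨h31, h14⟩)
      exact Or.inl ⟨by rw [hF, pow_one], by omega⟩
    · refine (twisted_linear_false hF hR h2 hnq hnu (hc ⟨by omega, ?_⟩)).elim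
      by_cases e : p % 5 = 0
      · exact Or.inr (Or.inr (h5 e))
      · omega
  · exact (twisted_linear_false hF hR h2 hnq hnu htr).elim

end Cfsg.Agent.Lib.Mitchell3
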