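/-!
Mitchell package: image tables for the core `L2(7)` of `SU(3, 5)` on the 105 lines of the `A7` certificate.
-/

set_option autoImplicit false

namespace Cfsg.Agent.Lib.Mitchell3.Seven5Data

/-- An image table. -/
def sigW : List Nat := [
  30, 80, 195, 5, 340, 437, 112, 559, 606, 665, 410, 724, 274, 171, 820, 692, 317, 885, 996, 390, 1130,
  460, 56, 1291, 1330, 834, 1309, 481, 1015, 1385, 1522, 1630, 1071, 874, 630, 134, 1717, 1789, 731, 543, 288, 1867,
  374, 1992, 1813, 1555, 795, 764, 2083, 1452, 1402, 1697, 243, 221, 2188, 963, 2157, 2219, 2073, 1923, 1195, 930, 505,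
  1080, 1105, 1170, 1955, 580, 2236, 1878, 1478, 1533, 1612, 2311, 2294, 2357, 1768, 1362, 2018, 1593, 1667, 2505, 1237, 2120,
  1216, 2043, 1268, 1930, 2254, 904, 1438, 1026, 2326, 1838, 1737, 2612, 2545, 2392, 2555, 2418, 2142, 2488, 2588, 2462, 2445]

/-- An image table. -/
def tauW : List Nat := [
  95, 45, 820, 20, 1395, 295, 970, 370, 220, 420, 670, 145, 1320, 745, 195, 545, 245, 1020, 495, 470, 520,
  395, 1070, 1695, 1345, 870, 270, 995, 895, 345, 1220, 1170, 70, 845, 645, 720, 1270, 1545, 170, 695, 445, 1770,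
  570, 1963, 1942, 1570, 795, 2095, 770, 2270, 920, 1295, 320, 620, 1620, 120, 2245, 2070, 2220, 2295, 2120, 945, 1145,
  2020, 1370, 1630, 1995, 595, 2170, 2345, 1045, 1795, 2195, 2370, 1920, 2320, 1870, 1118, 1087, 1670, 1595, 2520, 1445, 1195,
  1520, 2145, 1720, 1820, 1470, 1420, 1245, 1495, 1895, 1745, 1845, 2495, 2445, 2420, 2570, 2395, 2045, 2620, 2470, 2595, 2545]

/-- An image table. -/
def t1W : List Nat := [
  20, 30, 855, 95, 530, 980, 1305, 1330, 830, 430, 480, 680, 955, 880, 605, 1380, 1005, 230, 655, 255, 520,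
  105, 1055, 1180, 355, 805, 455, 280, 730, 705, 1205, 1555, 630, 205, 55, 330, 2330, 2105, 305, 130, 405, 2255,
  555, 1095, 1120, 1155, 1130, 580, 755, 1755, 1730, 1780, 155, 180, 2005, 380, 1480, 1705, 1880, 1405, 1530, 1505, 780,
  1605, 1580, 1645, 2180, 2080, 1430, 1255, 1230, 1280, 1980, 1855, 1830, 1455, 2355, 1945, 1970, 1805, 1355, 2605, 2155, 1680,
  930, 2580, 2055, 1655, 2305, 2280, 1030, 2230, 2205, 905, 1905, 2480, 2455, 2555, 2405, 2380, 2530, 2505, 2430, 2130, 2030]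

/-- An image table. -/
def uW : List Nat := [
  757, 508, 112, 1207, 63, 2428, 2279, 1859, 2126, 2174, 270, 2403, 2226, 2178, 1909, 867, 1724, 1431, 480, 455, 39,
  642, 1939, 794, 1846, 543, 670, 2552, 1652, 1803, 11, 598, 1387, 2579, 393, 1977, 920, 945, 1479, 2452, 2056, 1366,
  1102, 2385, 1054, 1182, 1698, 1136, 86, 2014, 1270, 1295, 1401, 2371, 1047, 813, 1303, 446, 2535, 952, 2105, 1545, 2082,
  2258, 1772, 1645, 704, 1169, 409, 2330, 1616, 1780, 726, 606, 199, 2040, 374, 558, 2481, 879, 1233, 1885, 1021, 1561,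
  1505, 203, 234, 326, 2610, 303, 1589, 152, 2515, 1730, 1331, 1090, 276, 126, 979, 1971, 2310, 1465, 679, 827, 2215]

/-- An image table. -/
def gW : List Nat := [
  2282, 1948, 637, 2232, 388, 2128, 1404, 1259, 2401, 1524, 470, 2428, 1476, 1603, 2084, 1392, 1774, 1231, 655, 1055, 39,
  967, 1102, 1669, 1746, 818, 570, 2577, 1577, 1128, 3, 1848, 162, 2454, 1318, 1152, 1920, 1445, 1204, 2552, 1531, 1816,
  519, 2035, 254, 1857, 2348, 1361, 91, 1989, 1195, 2320, 751, 1696, 2172, 313, 53, 1346, 2385, 102, 1705, 2270, 907,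
  2058, 2122, 1968, 879, 2019, 984, 2355, 1566, 2205, 326, 1006, 699, 2540, 424, 483, 2606, 204, 933, 1285, 146, 2186,
  1030, 703, 184, 826, 2510, 528, 789, 852, 2490, 580, 281, 1631, 426, 601, 354, 1085, 1885, 1790, 229, 727, 1465]

end Cfsg.Agent.Lib.Mitchell3.Seven5Data
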