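import Cfsg.Agent.Lib.PrimeDim.SU3Cases
import Cfsg.Agent.Lib.Mitchell3.Trace

/-!
Mitchell package: the standard form of four generators of a subgroup `L2(7)` of `SU(3, 5)`.
-/

set_option autoImplicit false
set_option linter.unusedSectionVars false
set_option linter.style.haveILetI false

namespace Cfsg.Agent.Lib.Mitchell3.Seven5

open Matrix Cfsg
open Cfsg.Agent.Lib.Unitary
open Cfsg.Agent.Lib.PrimeDim.SU3Model (K2 M3 Real toMat phi)

/-- The relations satisfied by the four generators. -/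
structure Rels {G : Type*} [Group G] (t s w u : G) : Prop where
  t_sq : t * t = 1
  t_ne : t ≠ 1
  s_cube : s * s * s = 1
  four1 : t * (s * t * s⁻¹) = s * (s * t * s⁻¹) * s⁻¹
  four2 : (s * t * s⁻¹) * t = s * (s * t * s⁻¹) * s⁻¹
  w_sq : w * w = 1
  wt : w * t = t * w
  ws : w * s = s⁻¹ * w
  u_sq : u * u = 1
  u_ne : u ≠ 1
  uw : u * w = w * u
  ut4 : (u * t) * (u * t) * ((u * t) * (u * t)) = 1
  ut2 : (u * t) * (u * t) ≠ 1
  uw4 : (u * (s * w * s⁻¹)) * (u * (s * w * s⁻¹)) * ((u * (s * w * s⁻¹)) * (u * (s * w * s⁻¹))) = 1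
  uw2 : (u * (s * w * s⁻¹)) * (u * (s * w * s⁻¹)) ≠ 1

/-- The model of `t`. -/
def mT : M3 5 := ![![(1, 0), (0, 0), (0, 0)], ![(0, 0), (4, 0), (0, 0)], ![(0, 0), (0, 0), (4, 0)]]

/-- The model of `s`. -/
def mS : M3 5 := ![![(0, 0), (0, 0), (1, 0)], ![(1, 0), (0, 0), (0, 0)], ![(0, 0), (1, 0), (0, 0)]]

/-- The model of `w`. -/
def mW : M3 5 := ![![(4, 0), (0, 0), (0, 0)], ![(0, 0), (0, 0), (4, 0)], ![(0, 0), (4, 0), (0, 0)]]

/-- The model of `u`, for the two roots of `X² - 2X + 3`. -/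
def mU (e : Fin 5) : M3 5 :=
  ![![(0, 0), (1, e), (1, e)], ![(1, -e), (2, 0), (3, 0)], ![(1, -e), (3, 0), (2, 0)]]

variable {F : Type*} [Field F] [Fintype F]


set_option maxHeartbeats 1000000 in
/-- The shape of the fourth generator. -/
theorem u_shape [CharP F 5] (hF : Fintype.card F = 5 ^ 2) (R : Real F 5 2) {g : GL (Fin 3) F}
    (hgU : g ∈ Cfsg.GU 3 F 5) (g2 : g.val * g.val = 1)
    (hcomm : g.val * toMat R.t mW = toMat R.t mW * g.val) (tru : g.val.trace = -1)
    (tru1 : (g.val * toMat R.t mT).trace = 1)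
    (tru2 : (g.val * !![(0 : F), 0, -1; 0, -1, 0; -1, 0, 0]).trace = 1) :
    g.val = toMat R.t (mU 2) ∨ g.val = toMat R.t (mU 3) := by
  classical
  have h5 : (5 : F) = 0 := by exact_mod_cast CharP.cast_eq_zero F 5
  have h2 : (2 : F) ≠ 0 := fun e => by
    have : (1 : F) = 0 := by linear_combination h5 - 2 * e
    exact one_ne_zero this
  have p0 : phi (p := 5) R.t (0, 0) = 0 := by simp [phi]
  have p1 : phi (p := 5) R.t (1, 0) = 1 := by simp [phi]
  have p4 : phi (p := 5) R.t (4, 0) = -1 := by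
    simp [phi]; linear_combination h5
  have p2 : phi (p := 5) R.t (2, 0) = 2 := by simp [phi]
  have p3 : phi (p := 5) R.t (3, 0) = -2 := by
    simp [phi]; linear_combination h5
  have c01 := congrFun (congrFun hcomm 0) 1
  have c10 := congrFun (congrFun hcomm 1) 0
  have c11 := congrFun (congrFun hcomm 1) 1
  have c12 := congrFun (congrFun hcomm 1) 2
  simp [Matrix.mul_apply, Fin.sum_univ_three, toMat, mW, p0, p4] at c01 c10 c11 c12
  simp [Matrix.trace, Matrix.mul_apply, Fin.sum_univ_three, toMat, mT, p0, p1, p4] at tru tru1 tru2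
  have q00 := congrFun (congrFun g2 0) 0
  have q11' := congrFun (congrFun g2 1) 1
  have q01 := congrFun (congrFun g2 0) 1
  simp [Matrix.mul_apply, Fin.sum_univ_three] at q00 q11' q01
  set a00 := g.val 0 0
  set b := g.val 0 1
  set b' := g.val 1 0
  set x11 := g.val 1 1
  set z12 := g.val 1 2
  have e02 : g.val 0 2 = b := c01
  have e20 : g.val 2 0 = b' := c10.symm
  have e21 : g.val 2 1 = z12 := c11.symm
  have e22 : g.val 2 2 = x11 := c12.symm
  rw [e22] at tru
  rw [e22] at tru1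
  rw [e02, e20] at tru2
  rw [e02, e20] at q00
  rw [e21] at q11'
  rw [e02, e21] at q01
  have ha0 : a00 = 0 := (mul_eq_zero.mp (show (2 : F) * a00 = 0 by linear_combination tru + tru1)).resolve_left h2
  have hx2 : x11 = 2 := by
    have : (2 : F) * x11 = 2 * 2 := by linear_combination tru - ha0 - h5
    exact mul_left_cancel₀ h2 this
  have hbs : b + b' = 2 := by linear_combination -tru2 - hx2 - h5
  have hbb : b * b' = 3 := by
    have : (2 : F) * (b * b') = 2 * 3 := by linear_combination q00 - a00 * ha0 - h5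
    exact mul_left_cancel₀ h2 this
  have hz : z12 = -2 := by
    have hb0 : b ≠ 0 := fun e => by
      rw [e, zero_mul] at hbb
      exact one_ne_zero (show (1 : F) = 0 by linear_combination -2 * hbb - h5)
    have : b * (z12 + 2) = 0 := by linear_combination q01 - b * ha0 - b * hx2
    linear_combination (mul_eq_zero.mp this).resolve_left hb0
  have ht2 : R.t * R.t = 2 := by have := R.sq; simpa using this
  have hb5 : b = 1 + 2 * R.t ∨ b = 1 + 3 * R.t := by
    have : (b - (1 + 2 * R.t)) * (b - (1 + 3 * R.t)) = 0 := by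
      linear_combination b * hbs - hbb + 6 * ht2 + (-(R.t * b) + R.t + 2) * h5
    rcases mul_eq_zero.mp this with e | e
    · exact Or.inl (sub_eq_zero.mp e)
    · exact Or.inr (sub_eq_zero.mp e)
  rcases hb5 with e | e
  · refine Or.inl ?_
    have e' : b' = 1 + 3 * R.t := by linear_combination hbs - e - R.t * h5
    have q1 : phi (p := 5) R.t (1, 2) = b := by simp [phi]; linear_combination -e
    have q2 : phi (p := 5) R.t (1, -2) = b' := by rw [show (-2 : Fin 5) = 3 from rfl]; simp [phi]; linear_combination -e'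
    ext i j
    fin_cases i <;> fin_cases j <;>
      simp [toMat, mU, p0, p2, p3, q1, q2] <;>
      first | rfl | assumption | exact e21.trans hz | exact e22.trans hx2
  · refine Or.inr ?_
    have e' : b' = 1 + 2 * R.t := by linear_combination hbs - e - R.t * h5
    have q1 : phi (p := 5) R.t (1, 3) = b := by simp [phi]; linear_combination -e
    have q2 : phi (p := 5) R.t (1, -3) = b' := by rw [show (-3 : Fin 5) = 2 from rfl]; simp [phi]; linear_combination -e'
    ext i j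
    fin_cases i <;> fin_cases j <;>
      simp [toMat, mU, p0, p2, p3, q1, q2] <;>
      first | rfl | assumption | exact e21.trans hz | exact e22.trans hx2


set_option maxHeartbeats 1000000 in
theorem rigid [CharP F 5] (hF : Fintype.card F = 5 ^ 2) (R : Real F 5 2) {t s w u : GL (Fin 3) F}
    (ht : t ∈ Cfsg.GU 3 F 5) (hs : s ∈ Cfsg.GU 3 F 5) (hw : w ∈ Cfsg.GU 3 F 5) (hu : u ∈ Cfsg.GU 3 F 5)
    (dt : t.val.det = 1) (dw : w.val.det = 1) (du : u.val.det = 1)
    (h : Rels t s w u) :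
    ∃ c ∈ Cfsg.GU 3 F 5, (c⁻¹ * t * c : GL (Fin 3) F).val = toMat R.t mT ∧
      (c⁻¹ * s * c : GL (Fin 3) F).val = toMat R.t mS ∧ (c⁻¹ * w * c : GL (Fin 3) F).val = toMat R.t mW ∧
      ((c⁻¹ * u * c : GL (Fin 3) F).val = toMat R.t (mU 2) ∨
        (c⁻¹ * u * c : GL (Fin 3) F).val = toMat R.t (mU 3)) := by
  classical
  haveI : Fact (Nat.Prime 5) := ⟨by norm_num⟩
  have h5 : (5 : F) = 0 := by exact_mod_cast CharP.cast_eq_zero F 5
  have h2 : (2 : F) ≠ 0 := fun e => by
    have : (1 : F) = 0 := by linear_combination h5 - 2 * e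
    exact one_ne_zero this
  set T1 : Matrix (Fin 3) (Fin 3) F := t.val with hT1
  set T2 : Matrix (Fin 3) (Fin 3) F := (s * t * s⁻¹ : GL (Fin 3) F).val with hT2
  set T3 : Matrix (Fin 3) (Fin 3) F := (s * (s * t * s⁻¹) * s⁻¹ : GL (Fin 3) F).val with hT3
  set S : Matrix (Fin 3) (Fin 3) F := s.val with hS
  have q11 : T1 * T1 = 1 := by rw [hT1, ← Units.val_mul, h.t_sq, Units.val_one]
  have q12 : T1 * T2 = T3 := by rw [hT1, hT2, ← Units.val_mul, h.four1]
  have q21 : T2 * T1 = T3 := by rw [hT1, hT2, ← Units.val_mul, h.four2]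
  have hs2 : s * s = s⁻¹ := eq_inv_of_mul_eq_one_left h.s_cube
  have s12 : S * T1 = T2 * S := by
    rw [hS, hT1, hT2, ← Units.val_mul, ← Units.val_mul]; congr 1; group
  have s23 : S * T2 = T3 * S := by
    rw [hS, hT2, hT3, ← Units.val_mul, ← Units.val_mul]; congr 1; group
  have s31 : S * T3 = T1 * S := by
    rw [hS, hT1, hT3, ← Units.val_mul, ← Units.val_mul]; congr 1
    calc s * (s * (s * t * s⁻¹) * s⁻¹) = (s * s * s) * t * (s * s)⁻¹ := by group
      _ = t * s := by rw [h.s_cube, one_mul, hs2, inv_inv]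
  -- the first vector
  obtain ⟨x, hx⟩ : ∃ x, ((1 + T1) * (1 - T2)) *ᵥ x ≠ 0 := by
    by_contra hc
    push Not at hc
    have h0 : (1 + T1) * (1 - T2) = 0 := by
      refine Matrix.mulVec_injective (funext fun y => ?_)
      rw [hc, zero_mulVec]
    have e1 : 1 + T1 - T2 - T3 = 0 := by
      rw [← h0, mul_sub, mul_one, add_mul, one_mul, q12]; abel
    have e2 : 1 + T2 - T3 - T1 = 0 := by
      have h1 : S * (1 + T1 - T2 - T3) = (1 + T2 - T3 - T1) * S := by
        simp only [mul_sub, mul_add, sub_mul, add_mul, mul_one, one_mul, s12, s23, s31]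
      rw [e1, mul_zero] at h1
      have h2' := congrArg (· * (s⁻¹).val) h1
      simpa [hS, mul_assoc] using h2'.symm
    have e3 : (2 : F) • ((1 : Matrix (Fin 3) (Fin 3) F) - T3) = 0 := by
      rw [show (2 : F) • ((1 : Matrix (Fin 3) (Fin 3) F) - T3) =
        (1 + T1 - T2 - T3) + (1 + T2 - T3 - T1) by module, e1, e2, add_zero]
    have e4 := (smul_eq_zero.mp e3).resolve_left h2
    have e5 : s * (s * t * s⁻¹) * s⁻¹ = 1 := Units.ext (sub_eq_zero.mp e4).symm
    refine h.t_ne ?_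
    calc t = s⁻¹ * s⁻¹ * (s * (s * t * s⁻¹) * s⁻¹) * s * s := by group
      _ = 1 := by rw [e5]; group
  set v1 : Fin 3 → F := ((1 + T1) * (1 - T2)) *ᵥ x with hv1
  have a11 : T1 *ᵥ v1 = v1 := by
    rw [hv1, mulVec_mulVec]; congr 1
    rw [← mul_assoc, mul_add, mul_one, q11, add_comm]
  have q22 : T2 * T2 = 1 := by
    rw [hT2, ← Units.val_mul, show s * t * s⁻¹ * (s * t * s⁻¹) = s * (t * t) * s⁻¹ by group, h.t_sq, mul_one,
      mul_inv_cancel, Units.val_one]
  have a21 : T2 *ᵥ v1 = -v1 := by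
    rw [hv1, mulVec_mulVec, ← neg_mulVec]; congr 1
    rw [← mul_assoc, show T2 * (1 + T1) = (1 + T1) * T2 by rw [mul_add, add_mul, mul_one, one_mul, q21, q12],
      mul_assoc, mul_sub, mul_one, q22, ← mul_neg, neg_sub]
  have a31 : T3 *ᵥ v1 = -v1 := by rw [← q12, ← mulVec_mulVec, a21, mulVec_neg, a11]
  set v2 := S *ᵥ v1 with hv2
  set v3 := S *ᵥ v2 with hv3
  have a22 : T2 *ᵥ v2 = v2 := by rw [hv2, mulVec_mulVec, ← s12, ← mulVec_mulVec, a11]
  have a32 : T3 *ᵥ v2 = -v2 := by rw [hv2, mulVec_mulVec, ← s23, ← mulVec_mulVec, a21, mulVec_neg]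
  have a12 : T1 *ᵥ v2 = -v2 := by rw [hv2, mulVec_mulVec, ← s31, ← mulVec_mulVec, a31, mulVec_neg]
  have a33 : T3 *ᵥ v3 = v3 := by rw [hv3, mulVec_mulVec, ← s23, ← mulVec_mulVec, a22]
  have a13 : T1 *ᵥ v3 = -v3 := by rw [hv3, mulVec_mulVec, ← s31, ← mulVec_mulVec, a32, mulVec_neg]
  have a23 : T2 *ᵥ v3 = -v3 := by rw [hv3, mulVec_mulVec, ← s12, ← mulVec_mulVec, a12, mulVec_neg]
  have S3 : S *ᵥ v3 = v1 := by
    rw [hv3, hv2, mulVec_mulVec, mulVec_mulVec, hS, ← Units.val_mul, ← Units.val_mul, h.s_cube, Units.val_one,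
      one_mulVec]
  have hv10 : v1 ≠ 0 := hx
  set P : Matrix (Fin 3) (Fin 3) F := Matrix.of fun a i => (![v1, v2, v3] i) a with hP
  have hPa : ∀ a : Fin 3 → F, P *ᵥ a = a 0 • v1 + a 1 • v2 + a 2 • v3 := fun a => by
    funext i
    simp [hP, Matrix.mulVec, dotProduct, Fin.sum_univ_three, mul_comm]
  have v20 : v2 ≠ 0 := fun e => hv10 (by rw [← S3, hv3, e, mulVec_zero, mulVec_zero])
  have v30 : v3 ≠ 0 := fun e => hv10 (by rw [← S3, e, mulVec_zero])
  have hdetP : P.det ≠ 0 := by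
    intro h0
    obtain ⟨a, ha0, ha⟩ := Matrix.exists_mulVec_eq_zero_iff.mpr h0
    rw [hPa] at ha
    have get : ∀ (Ti : Matrix (Fin 3) (Fin 3) F) (c : F) (vi : Fin 3 → F), vi ≠ 0 →
        (a 0 • v1 + a 1 • v2 + a 2 • v3) + Ti *ᵥ (a 0 • v1 + a 1 • v2 + a 2 • v3) = (2 * c) • vi → c = 0 := by
      intro Ti c vi hvi he
      rw [ha, mulVec_zero, add_zero] at he
      exact (mul_eq_zero.mp ((smul_eq_zero.mp he.symm).resolve_right hvi)).resolve_left h2
    refine ha0 (funext fun i => ?_)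
    fin_cases i
    · refine get T1 (a 0) v1 hv10 ?_
      simp only [mulVec_add, mulVec_smul, a11, a12, a13]; module
    · refine get T2 (a 1) v2 v20 ?_
      simp only [mulVec_add, mulVec_smul, a21, a22, a23]; module
    · refine get T3 (a 2) v3 v30 ?_
      simp only [mulVec_add, mulVec_smul, a31, a32, a33]; module
  -- orthogonality
  have iso : ∀ (g : GL (Fin 3) F), g ∈ Cfsg.GU 3 F 5 → ∀ a b, hermForm 3 F 5 (g.val *ᵥ a) (g.val *ᵥ b) =
      hermForm 3 F 5 a b := fun g hg => hg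
  have hsg : s * t * s⁻¹ ∈ Cfsg.GU 3 F 5 := mul_mem (mul_mem hs ht) (inv_mem hs)
  have hsg3 : s * (s * t * s⁻¹) * s⁻¹ ∈ Cfsg.GU 3 F 5 := mul_mem (mul_mem hs hsg) (inv_mem hs)
  have orth : ∀ (g : GL (Fin 3) F), g ∈ Cfsg.GU 3 F 5 → ∀ a b, g.val *ᵥ a = a → g.val *ᵥ b = -b →
      hermForm 3 F 5 a b = 0 ∧ hermForm 3 F 5 b a = 0 := by
    intro g hg a b ha hb
    have h1 := iso g hg a b
    have h1' := iso g hg b a
    rw [ha, hb, ← neg_one_smul F b, herm_smul_right] at h1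
    rw [ha, hb, ← neg_one_smul F b, herm_smul_left] at h1'
    rw [show (-1 : F) ^ 5 = -1 by norm_num] at h1
    exact ⟨(mul_eq_zero.mp (show (2 : F) * hermForm 3 F 5 a b = 0 by linear_combination -h1)).resolve_left h2,
      (mul_eq_zero.mp (show (2 : F) * hermForm 3 F 5 b a = 0 by linear_combination -h1')).resolve_left h2⟩
  obtain ⟨o12, o21⟩ := orth t ht v1 v2 a11 a12
  obtain ⟨o13, o31⟩ := orth t ht v1 v3 a11 a13
  obtain ⟨o23, o32⟩ := orth _ hsg v2 v3 a22 a23
  set n := hermForm 3 F 5 v1 v1 with hn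
  have n2 : hermForm 3 F 5 v2 v2 = n := iso s hs v1 v1
  have n3 : hermForm 3 F 5 v3 v3 = n := (iso s hs v2 v2).trans n2
  have hgram : Pᵀ * P.map (Cfsg.Agent.Lib.Unitary.conj hF) = Matrix.diagonal fun _ => n := by
    ext i j
    have h1 : (Pᵀ * P.map (Cfsg.Agent.Lib.Unitary.conj hF)) i j =
        hermForm 3 F 5 (![v1, v2, v3] i) (![v1, v2, v3] j) := rfl
    rw [h1, Matrix.diagonal_apply]
    fin_cases i <;> fin_cases j <;> first | exact o12 | exact o21 | exact o13 | exact o31 | exact o23 | exact o32 | exact hn.symm | exact n2 | exact n3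
  have hn0 : n ≠ 0 := by
    intro e
    have hd := congrArg Matrix.det hgram
    rw [det_mul, det_transpose, e, det_diagonal, ← RingHom.mapMatrix_apply, ← RingHom.map_det] at hd
    simp [hdetP] at hd
  obtain ⟨c, hc, ν, hν, hcP, hνeq⟩ :=
    Cfsg.Agent.Lib.PrimeDim.SU3Cases.exists_scaled (p := 5) hF (fun _ => hn0) hgram
  set v : Fin 3 → Fin 3 → F := ![v1, v2, v3] with hv
  have hcol : ∀ i, c.val *ᵥ Pi.single i 1 = ν 0 • v i := fun i => by
    funext a
    rw [hνeq 0 i rfl]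
    simp [hcP, hP, hv, Matrix.mul_diagonal, mul_comm]
  have hconj : ∀ (g : GL (Fin 3) F) (j k : Fin 3) (a : F), g.val *ᵥ v j = a • v k →
      ∀ i, (c⁻¹ * g * c : GL (Fin 3) F).val i j = if i = k then a else 0 := by
    intro g j k a hg i
    have h1 : (c⁻¹ * g * c : GL (Fin 3) F).val *ᵥ Pi.single j 1 = a • Pi.single k 1 := by
      rw [Units.val_mul, Units.val_mul, ← mulVec_mulVec, hcol, mulVec_smul, ← mulVec_mulVec, hg,
        mulVec_smul, smul_smul, mul_comm, ← smul_smul, ← mulVec_smul, ← hcol,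
        Cfsg.Agent.Lib.PrimeDim.Basic.inv_mulVec_cancel]
    have h4 := congrFun h1 i
    rw [mulVec_single_one] at h4
    simpa [Pi.single_apply] using h4
  have p0 : phi (p := 5) R.t (0, 0) = 0 := by simp [phi]
  have p1 : phi (p := 5) R.t (1, 0) = 1 := by simp [phi]
  have p4 : phi (p := 5) R.t (4, 0) = -1 := by
    simp [phi]; linear_combination h5
  have p2 : phi (p := 5) R.t (2, 0) = 2 := by simp [phi]
  have p3 : phi (p := 5) R.t (3, 0) = -2 := by
    simp [phi]; linear_combination h5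
  refine ⟨c, hc, ?_⟩
  -- `t`
  have hTc : (c⁻¹ * t * c : GL (Fin 3) F).val = toMat R.t mT := by
    ext i j
    obtain rfl | rfl | rfl : j = 0 ∨ j = 1 ∨ j = 2 := by fin_cases j <;> simp
    · rw [hconj t 0 0 1 (by rw [one_smul]; exact a11) i]
      fin_cases i <;> simp [toMat, mT, p0, p1, p4]
    · rw [hconj t 1 1 (-1) (by rw [neg_one_smul]; exact a12) i]
      fin_cases i <;> simp [toMat, mT, p0, p1, p4]
    · rw [hconj t 2 2 (-1) (by rw [neg_one_smul]; exact a13) i]
      fin_cases i <;> simp [toMat, mT, p0, p1, p4]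
  have hSc : (c⁻¹ * s * c : GL (Fin 3) F).val = toMat R.t mS := by
    ext i j
    obtain rfl | rfl | rfl : j = 0 ∨ j = 1 ∨ j = 2 := by fin_cases j <;> simp
    · rw [hconj s 0 1 1 (by rw [one_smul]; exact hv2.symm) i]
      fin_cases i <;> simp [toMat, mS, p0, p1]
    · rw [hconj s 1 2 1 (by rw [one_smul]; exact hv3.symm) i]
      fin_cases i <;> simp [toMat, mS, p0, p1]
    · rw [hconj s 2 0 1 (by rw [one_smul]; exact S3) i]
      fin_cases i <;> simp [toMat, mS, p0, p1]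
  -- `w`
  set W : Matrix (Fin 3) (Fin 3) F := w.val with hW
  have w1t : T1 * W = W * T1 := by rw [hT1, hW, ← Units.val_mul, ← Units.val_mul, h.wt]
  obtain ⟨a, ha⟩ : ∃ a : F, W *ᵥ v1 = a • v1 := by
    obtain ⟨b, hb⟩ : ∃ b, P *ᵥ b = W *ᵥ v1 :=
      ⟨P⁻¹ *ᵥ (W *ᵥ v1), by rw [mulVec_mulVec, Matrix.mul_nonsing_inv _ hdetP.isUnit, one_mulVec]⟩
    refine ⟨b 0, ?_⟩
    have e : T1 *ᵥ (W *ᵥ v1) = W *ᵥ v1 := by rw [mulVec_mulVec, w1t, ← mulVec_mulVec, a11]
    rw [← hb, hPa] at e ⊢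
    simp only [mulVec_add, mulVec_smul, a11, a12, a13] at e
    have e2 : (2 : F) • (b 1 • v2 + b 2 • v3) = 0 := by
      rw [← sub_eq_zero.mpr e.symm]; module
    rw [add_assoc, (smul_eq_zero.mp e2).resolve_left h2, add_zero]
  have wsinv : W * S = (s⁻¹).val * W := by rw [hW, hS, ← Units.val_mul, ← Units.val_mul, h.ws]
  have Sinv1 : (s⁻¹).val *ᵥ v1 = v3 := by
    rw [← S3, hS, Cfsg.Agent.Lib.PrimeDim.Basic.inv_mulVec_cancel]
  have Sinv3 : (s⁻¹).val *ᵥ v3 = v2 := by
    rw [hv3, hS, Cfsg.Agent.Lib.PrimeDim.Basic.inv_mulVec_cancel]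
  have hb : W *ᵥ v2 = a • v3 := by
    rw [hv2, mulVec_mulVec, wsinv, ← mulVec_mulVec, ha, mulVec_smul, Sinv1]
  have hb' : W *ᵥ v3 = a • v2 := by
    rw [hv3, mulVec_mulVec, wsinv, ← mulVec_mulVec, hb, mulVec_smul, Sinv3]
  have hWm : ∀ i j, (c⁻¹ * w * c : GL (Fin 3) F).val i j = !![a, 0, 0; 0, 0, a; 0, a, 0] i j := by
    intro i j
    obtain rfl | rfl | rfl : j = 0 ∨ j = 1 ∨ j = 2 := by fin_cases j <;> simp
    · rw [hconj w 0 0 a ha i]; fin_cases i <;> simp
    · rw [hconj w 1 2 a hb i]; fin_cases i <;> simp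
    · rw [hconj w 2 1 a hb' i]; fin_cases i <;> simp
  have ha1 : a = -1 := by
    have hdet : (c⁻¹ * w * c : GL (Fin 3) F).val.det = 1 := by
      rw [Units.val_mul, Units.val_mul, det_units_conj', dw]
    rw [Matrix.ext hWm, det_fin_three] at hdet
    simp at hdet
    have hsq : (a * a) • v1 = v1 := by
      have e := congrArg (fun g : GL (Fin 3) F => g.val *ᵥ v1) h.w_sq
      rw [Units.val_mul, ← mulVec_mulVec, ← hW, ha, mulVec_smul, ha, smul_smul, Units.val_one, one_mulVec] at e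
      exact e
    have haa : a * a = 1 := smul_left_injective F hv10 (by simpa using hsq)
    linear_combination -hdet - a * haa
  subst ha1
  have hWc : (c⁻¹ * w * c : GL (Fin 3) F).val = toMat R.t mW := by
    ext i j
    rw [hWm i j]
    fin_cases i <;> fin_cases j <;> simp [toMat, mW, p0, p4]
  refine ⟨hTc, hSc, hWc, ?_⟩
  -- `u`
  set g : GL (Fin 3) F := c⁻¹ * u * c with hg
  have hgU : g ∈ Cfsg.GU 3 F 5 := mul_mem (mul_mem (inv_mem hc) hu) hc
  have g2 : g.val * g.val = 1 := by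
    rw [← Units.val_mul, hg, show c⁻¹ * u * c * (c⁻¹ * u * c) = c⁻¹ * (u * u) * c by group, h.u_sq, mul_one,
      inv_mul_cancel, Units.val_one]
  have hcomm : g.val * (c⁻¹ * w * c : GL (Fin 3) F).val = (c⁻¹ * w * c : GL (Fin 3) F).val * g.val := by
    rw [← Units.val_mul, ← Units.val_mul, hg, show c⁻¹ * u * c * (c⁻¹ * w * c) = c⁻¹ * (u * w) * c by group, h.uw]
    congr 1; group
  have trconj : ∀ z : GL (Fin 3) F, (c⁻¹ * z * c : GL (Fin 3) F).val.trace = tr3 z := fun z => by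
    rw [Units.val_mul, Units.val_mul, trace_units_conj']; rfl
  have tru : g.val.trace = -1 := by rw [hg, trconj]; exact tr3_invol du h.u_sq h.u_ne
  have ord4 : ∀ z : GL (Fin 3) F, z.val.det = 1 → z * z = 1 → (u * z) * (u * z) * ((u * z) * (u * z)) = 1 →
      (u * z) * (u * z) ≠ 1 → (g.val * (c⁻¹ * z * c : GL (Fin 3) F).val).trace = 1 := by
    intro z dz z2 h4 hne
    rw [← Units.val_mul, hg, show c⁻¹ * u * c * (c⁻¹ * z * c) = c⁻¹ * (u * z) * c by group, trconj]
    refine tr3_order_four (by rw [Units.val_mul, det_mul, du, dz, mul_one]) h4 hne ?_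
    rw [_root_.mul_inv_rev, inv_eq_of_mul_eq_one_right h.u_sq, inv_eq_of_mul_eq_one_right z2, tr3, tr3,
      Units.val_mul, Units.val_mul, trace_mul_comm]
  have tru1 := ord4 t dt h.t_sq h.ut4 h.ut2
  have hwd : (s * w * s⁻¹ : GL (Fin 3) F).val.det = 1 := by
    rw [Units.val_mul, Units.val_mul, det_units_conj, dw]
  have tru2 := ord4 (s * w * s⁻¹) hwd
    (by rw [show s * w * s⁻¹ * (s * w * s⁻¹) = s * (w * w) * s⁻¹ by group, h.w_sq, mul_one, mul_inv_cancel])
    h.uw4 h.uw2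
  have hWs : (c⁻¹ * (s * w * s⁻¹) * c : GL (Fin 3) F).val = !![0, 0, -1; 0, -1, 0; -1, 0, 0] := by
    rw [show c⁻¹ * (s * w * s⁻¹) * c = (c⁻¹ * s * c) * (c⁻¹ * w * c) * (c⁻¹ * s * c)⁻¹ by group, Units.val_mul,
      Units.val_mul, Matrix.coe_units_inv]
    have hi : (c⁻¹ * s * c : GL (Fin 3) F).val⁻¹ = !![0, 1, 0; 0, 0, 1; 1, 0, 0] := by
      refine Matrix.inv_eq_right_inv ?_
      rw [hSc]
      ext i j
      fin_cases i <;> fin_cases j <;> simp [toMat, mS, p0, p1, Matrix.mul_apply, Fin.sum_univ_three]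
    rw [hi, hSc, hWc]
    ext i j
    fin_cases i <;> fin_cases j <;> simp [toMat, mS, mW, p0, p1, p4, Matrix.mul_apply, Fin.sum_univ_three]
  rw [hWs] at tru2
  rw [hWc] at hcomm
  rw [hTc] at tru1
  exact u_shape hF R hgU g2 hcomm tru tru1 tru2

end Cfsg.Agent.Lib.Mitchell3.Seven5
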