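import Cfsg.Agent.Lib.Mitchell3.CoreOdd
import Cfsg.Agent.Lib.Mitchell3.BigCase
import Cfsg.Agent.Lib.Mitchell3.Seven5Rigid
import Cfsg.Agent.Lib.Mitchell3.Seven5Data

/-!
Mitchell package: the core `L2(7)` does not give a maximal subgroup of `SU(3, 5)`.
-/

set_option autoImplicit false
set_option linter.unusedSectionVars false
set_option linter.style.haveILetI false

namespace Cfsg.Agent.Lib.Mitchell3.Seven5

open Matrix
open Cfsg.Agent.Lib.PrimeDim.SU3Model
open Cfsg.Agent.Lib.PrimeDim.SU3Check (mat vec wit okSU smat)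
open Cfsg.Agent.Lib.PrimeDim.SU3Data (a7Pts a7X a7Gens a7P)

/-- The model group. -/
abbrev L : Type := Matrix.ProjectiveSpecialLinearGroup (Fin 3) (ZMod 2)

/-- `SL(3, 2)`. -/
abbrev SL2 : Type := Matrix.SpecialLinearGroup (Fin 3) (ZMod 2)

theorem mk_injective : Function.Injective (QuotientGroup.mk : SL2 → L) := by
  intro a b h
  rw [QuotientGroup.eq, Matrix.SpecialLinearGroup.mem_center_iff] at h
  obtain ⟨r, hr, he⟩ := h
  have h1 : ∀ r : ZMod 2, r ^ Fintype.card (Fin 3) = 1 → r = 1 := by decide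
  rw [h1 r hr, map_one] at he
  exact inv_mul_eq_one.mp (Subtype.ext he.symm)

/-- The generator `t`. -/
def gt : SL2 := ⟨!![0, 0, 1; 0, 1, 0; 1, 0, 0], by decide⟩

/-- The generator `s`. -/
def gs : SL2 := ⟨!![0, 0, 1; 1, 0, 1; 1, 1, 0], by decide⟩

/-- The generator `w`. -/
def gw : SL2 := ⟨!![0, 0, 1; 1, 1, 1; 1, 0, 0], by decide⟩

/-- The generator `u`. -/
def gu : SL2 := ⟨!![1, 1, 1; 0, 0, 1; 0, 1, 0], by decide⟩

theorem Rels.map {G G' : Type*} [Group G] [Group G'] (f : G →* G') (hf : Function.Injective f) {t s w u : G}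
    (h : Rels t s w u) : Rels (f t) (f s) (f w) (f u) := by
  constructor
  all_goals (try simp only [← map_mul, ← map_inv])
  all_goals first
    | (intro e; first
        | exact h.t_ne ((map_eq_one_iff f hf).mp e)
        | exact h.u_ne ((map_eq_one_iff f hf).mp e)
        | exact h.ut2 ((map_eq_one_iff f hf).mp e)
        | exact h.uw2 ((map_eq_one_iff f hf).mp e))
    | exact (congrArg f h.t_sq).trans (map_one f)
    | exact (congrArg f h.s_cube).trans (map_one f)
    | exact congrArg f h.four1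
    | exact congrArg f h.four2
    | exact (congrArg f h.w_sq).trans (map_one f)
    | exact congrArg f h.wt
    | exact congrArg f h.ws
    | exact (congrArg f h.u_sq).trans (map_one f)
    | exact congrArg f h.uw
    | exact (congrArg f h.ut4).trans (map_one f)
    | exact (congrArg f h.uw4).trans (map_one f)

theorem rels_SL : Rels gt gs gw gu := by
  constructor <;> decide +kernel

theorem card_L : Nat.card L = 168 := by
  haveI : Fact (Nat.Prime 7) := ⟨by norm_num⟩
  obtain ⟨e⟩ := Cfsg.Agent.Lib.Linear.SmallIso.nonempty_psl_two_seven (F := ZMod 7) (K := ZMod 2)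
    (ZMod.card 7) (ZMod.card 2)
  rw [← Nat.card_congr e.toEquiv]
  have := Cfsg.Agent.Lib.Linear.two_mul_card_PSL_two_of_odd (F := ZMod 7) (by rw [ZMod.card]; decide)
  rw [ZMod.card] at this
  omega

theorem closure_eq_top [IsSimpleGroup L] :
    Subgroup.closure ({(gt : L), (gs : L), (gw : L), (gu : L)} : Set L) = ⊤ := by
  set S := Subgroup.closure ({(gt : L), (gs : L), (gw : L), (gu : L)} : Set L) with hS
  have ht : (gt : L) ∈ S := Subgroup.subset_closure (by simp)
  have hs : (gs : L) ∈ S := Subgroup.subset_closure (by simp)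
  have hu : (gu : L) ∈ S := Subgroup.subset_closure (by simp)
  have dvd : ∀ (x : SL2) (n : ℕ), (x : L) ∈ S → orderOf x = n → n ∣ Nat.card S := by
    intro x n hx hn
    have e1 : orderOf (x : L) = n := by
      rw [← hn]; exact orderOf_injective (QuotientGroup.mk' _) mk_injective x
    rw [← e1, ← Subgroup.orderOf_mk (x : L) hx]
    exact orderOf_dvd_natCard _
  have h7 : 7 ∣ Nat.card S := dvd (gu * gs * gt) 7 (by
      rw [QuotientGroup.mk_mul, QuotientGroup.mk_mul]; exact mul_mem (mul_mem hu hs) ht) (by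
    haveI : Fact (Nat.Prime 7) := ⟨by norm_num⟩
    exact orderOf_eq_prime (by decide +kernel) (by decide +kernel))
  have h3 : 3 ∣ Nat.card S := dvd gs 3 hs (by
    haveI : Fact (Nat.Prime 3) := ⟨Nat.prime_three⟩
    exact orderOf_eq_prime (by decide +kernel) (by decide +kernel))
  have h4 : 4 ∣ Nat.card S := dvd (gu * gt) 4 (by rw [QuotientGroup.mk_mul]; exact mul_mem hu ht) (by
    haveI : Fact (Nat.Prime 2) := ⟨Nat.prime_two⟩
    exact orderOf_eq_prime_pow (p := 2) (n := 1) (x := gu * gt) (by decide +kernel) (by decide +kernel))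
  have h84 : 84 ∣ Nat.card S := by
    have h12 : 12 ∣ Nat.card S := Nat.Coprime.mul_dvd_of_dvd_of_dvd (by norm_num : Nat.Coprime 4 3) h4 h3
    exact Nat.Coprime.mul_dvd_of_dvd_of_dvd (by norm_num : Nat.Coprime 12 7) h12 h7
  obtain ⟨k, hk⟩ := h84
  have hmul := Subgroup.card_mul_index S
  rw [hk, card_L] at hmul
  have hki : k * S.index = 2 := by
    have : 84 * (k * S.index) = 84 * 2 := by rw [← mul_assoc, hmul]
    exact mul_left_cancel₀ (by norm_num) this
  have hi : S.index ∣ 2 := ⟨k, by rw [mul_comm]; exact hki.symm⟩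
  rcases (Nat.dvd_prime Nat.prime_two).mp hi with e | e
  · exact Subgroup.index_eq_one.mp e
  · have hn : S.Normal := Subgroup.normal_of_index_eq_two e
    refine hn.eq_bot_or_eq_top.resolve_left fun hb => ?_
    rw [hb, Subgroup.mem_bot] at ht
    exact rels_SL.t_ne (mk_injective ht)

variable {F : Type*} [Field F] [Fintype F] {H P : Subgroup (GL (Fin 3) F)}

/-- A core with socle `L2(7)` in `SU(3, 5)` has no scalars, and the socle is all of the automorphisms. -/
theorem core_facts [CharP F 5] (hF : Fintype.card F = 5 ^ 2)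
    (hH : Cfsg.Geo.IsMaximalIn (Cfsg.GU 3 F 5 ⊓ Cfsg.Geo.specialLinear (Fin 3) F) H)
    (hR : Cfsg.Geo.IsResidualCore H P) (e : coreQuot P ≃* L) :
    Function.Injective (QuotientGroup.mk' ((Cfsg.Geo.scalars (Fin 3) F).subgroupOf P)) ∧
      ∀ h ∈ H, ∃ x ∈ P, x⁻¹ * h ∈ Cfsg.Geo.scalars (Fin 3) F := by
  classical
  haveI : Fact (Nat.Prime 5) := ⟨by norm_num⟩
  haveI : Fact (Nat.Prime 7) := ⟨by norm_num⟩
  have h2 : (2 : F) ≠ 0 := fun e2 => by
    have := (CharP.cast_eq_zero_iff F 5 2).mp (by exact_mod_cast e2)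
    norm_num at this
  have hTF : IsTF H := tf_unitary hF h2 hH hR
  have hSL : InSL H := fun h hh =>
    (Cfsg.Agent.Lib.Subspaces.Transvection.mem_specialLinear_iff h).mp (hH.1.le hh).2
  have hTFP : IsTF P := fun v φ h0 hm => hTF v φ h0 (hR.le hm)
  have hSLP : InSL P := fun h hh => hSL h (hR.le hh)
  set K := AlgebraicClosure F
  haveI : CharP K 5 := charP_of_injective_algebraMap (algebraMap F K).injective 5
  obtain ⟨e7⟩ := Cfsg.Agent.Lib.Linear.SmallIso.nonempty_psl_two_seven (F := ZMod 7) (K := ZMod 2)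
    (ZMod.card 7) (ZMod.card 2)
  let g : P →* coreQuot P := QuotientGroup.mk' _
  have hgker : ∀ x, g x = 1 ↔ IsSc (x : GL (Fin 3) F) := fun x => by
    show ((x : coreQuot P)) = 1 ↔ _
    rw [QuotientGroup.eq_one_iff, Subgroup.mem_subgroupOf, isSc_iff]
  let eP : P ≃* P.map (baseChange K) := P.equivMapOfInjective _ (baseChange_injective K)
  haveI : Finite (P.map (baseChange K)) := Finite.of_equiv _ eP.toEquiv
  have hperf : commutator (P.map (baseChange K)) = ⊤ := by
    apply Subgroup.map_injective (P.map (baseChange K)).subtype_injective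
    rw [Subgroup.map_subtype_commutator, ← Subgroup.map_commutator, hR.perfect, ← MonoidHom.range_eq_map,
      Subgroup.range_subtype]
  let eT : coreQuot P ≃* Matrix.ProjectiveSpecialLinearGroup (Fin 2) (ZMod 7) := e.trans e7.symm
  let θ : P.map (baseChange K) →* Matrix.ProjectiveSpecialLinearGroup (Fin 2) (ZMod 7) :=
    eT.toMonoidHom.comp (g.comp eP.symm.toMonoidHom)
  have hθ : Function.Surjective θ := eT.surjective.comp ((QuotientGroup.mk'_surjective _).comp eP.symm.surjective)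
  have hh : Hyp 5 2 θ := ⟨baseChange_inSL hSLP, baseChange_tf hTFP, fun x => by
    obtain ⟨y, rfl⟩ := eP.surjective x
    show eT (g (eP.symm (eP y))) = 1 ↔ IsSc (baseChange K (y : GL (Fin 3) F))
    rw [eP.symm_apply_apply, baseChange_isSc, ← hgker, map_eq_one_iff eT eT.injective],
    by rintro _ ⟨y, -, rfl⟩ i j; exact baseChange_fix hF y i j⟩
  obtain ⟨hinj, -⟩ := traces_seven θ hθ hh hperf (ZMod.card 7) (by norm_num) (by norm_num)
  have hg : Function.Injective g := fun x y hxy => eP.injective (hinj (by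
    show eT (g (eP.symm (eP x))) = eT (g (eP.symm (eP y)))
    rw [eP.symm_apply_apply, eP.symm_apply_apply, hxy]))
  refine ⟨hg, ?_⟩
  -- the action of `H`
  haveI hn : (P.subgroupOf H).Normal := ⟨fun x hx h => hR.normal h h.2 x hx⟩
  let eN : P.subgroupOf H ≃* Matrix.ProjectiveSpecialLinearGroup (Fin 2) (ZMod 7) :=
    (Subgroup.subgroupOfEquivOfLe hR.le).trans
      ((MulEquiv.ofBijective g ⟨hg, QuotientGroup.mk'_surjective _⟩).trans eT)
  let ψ : H →* MulAut (Matrix.ProjectiveSpecialLinearGroup (Fin 2) (ZMod 7)) :=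
    (autCongr eN).comp MulAut.conjNormal
  have hψ : ∀ h : H, ψ h = 1 ↔ IsSc (h : GL (Fin 3) F) := by
    intro h
    show autCongr eN (MulAut.conjNormal h) = 1 ↔ _
    rw [map_eq_one_iff _ (autCongr_injective eN), isSc_iff]
    constructor
    · intro h1
      refine hR.centralizer_scalar h h.2 fun x hx => ?_
      have h3 := congrArg (fun z : P.subgroupOf H => ((z : H) : GL (Fin 3) F))
        (MulEquiv.congr_fun h1 ⟨⟨x, hR.le hx⟩, hx⟩)
      simp only [MulAut.conjNormal_apply, MulAut.one_apply, Subgroup.coe_mul, Subgroup.coe_inv] at h3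
      rw [h3, mul_inv_cancel]
      exact one_mem _
    · intro hs
      refine MulEquiv.ext fun x => Subtype.ext (Subtype.ext ?_)
      simp only [MulAut.conjNormal_apply, MulAut.one_apply, Subgroup.coe_mul, Subgroup.coe_inv]
      rw [(sc_commute (isSc_iff.mpr hs) _).eq, mul_inv_cancel_right]
  let eH : H ≃* H.map (baseChange K) := H.equivMapOfInjective _ (baseChange_injective K)
  haveI : Finite (H.map (baseChange K)) := Finite.of_equiv _ eH.toEquiv
  have hpi : Hyp 5 2 (ψ.comp eH.symm.toMonoidHom) := ⟨baseChange_inSL hSL, baseChange_tf hTF, fun x => by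
    obtain ⟨y, rfl⟩ := eH.surjective x
    show ψ (eH.symm (eH y)) = 1 ↔ IsSc (baseChange K (y : GL (Fin 3) F))
    rw [eH.symm_apply_apply, baseChange_isSc, hψ],
    by rintro _ ⟨y, -, rfl⟩ i j; exact baseChange_fix hF y i j⟩
  have hrange : (ψ.comp eH.symm.toMonoidHom).range = ψ.range := by
    rw [MonoidHom.range_comp, MonoidHom.range_eq_top.mpr eH.symm.surjective, ← MonoidHom.range_eq_map]
  have hr : ψ.range = Cfsg.Inn (Matrix.ProjectiveSpecialLinearGroup (Fin 2) (ZMod 7)) := by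
    rcases ident_psl hpi (hrange.symm ▸ inn_le_range _ eN) (by rw [ZMod.card]; decide) (by rw [ZMod.card]; norm_num)
      (by norm_num) with ⟨b, hb, -, -⟩ | ⟨h5, -⟩ | ⟨-, -, -, hr⟩ | ⟨h9, -⟩
    · rw [ZMod.card] at hb
      rcases b with _ | b
      · simp at hb
      · have : 5 ∣ 7 := ⟨5 ^ b, by rw [hb, pow_succ, mul_comm]⟩
        norm_num at this
    · rw [ZMod.card] at h5; norm_num at h5
    · rw [← hrange]; exact hr
    · rw [ZMod.card] at h9; norm_num at h9
  intro h hh'
  have hm : ψ ⟨h, hh'⟩ ∈ ψ.range := ⟨_, rfl⟩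
  rw [hr] at hm
  obtain ⟨y, hy⟩ := hm
  set x : P.subgroupOf H := eN.symm y with hxdef
  have hx : ψ (x : H) = MulAut.conj y := by
    refine MulEquiv.ext fun z => ?_
    show eN (MulAut.conjNormal (x : H) (eN.symm z)) = MulAut.conj y z
    have h1 : MulAut.conjNormal (x : H) (eN.symm z) = x * eN.symm z * x⁻¹ :=
      Subtype.ext (by rw [MulAut.conjNormal_apply]; rfl)
    rw [h1, hxdef]; simp
  refine ⟨((x : H) : GL (Fin 3) F), x.2, ?_⟩
  have h1 : ψ ((x : H)⁻¹ * ⟨h, hh'⟩) = 1 := by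
    rw [map_mul, map_inv, hx, ← hy]
    exact inv_mul_cancel _
  exact isSc_iff.mp ((hψ _).mp h1)

/-- The lines of the certificate. -/
def pts (b : Bool) : List (Fin 3 → K2 5) :=
  if b then a7Pts.map Cfsg.Agent.Lib.PrimeDim.SU3Check.vec else (a7Pts.map Cfsg.Agent.Lib.PrimeDim.SU3Check.vec).map fun v i => conjK (v i)

/-- An image table for either list. -/
def tw (b : Bool) (w : List ℕ) : List (ℕ × K2 5) :=
  if b then wit w else (wit w).map fun e => (e.1, conjK e.2)

/-- A model matrix for either list. -/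
def tm (b : Bool) (A : M3 5) : M3 5 := if b then A else fun i j => conjK (A i j)

/-- An element of order five of the overgroup. -/
def mG : M3 5 := mm (2 : Fin 5) (mat a7X) (mat (a7Gens.getD 0 0))

theorem wit_ok : ∀ b : Bool, okWit (2 : Fin 5) (pts b) mT (tw b Seven5Data.t1W) = true ∧
    okWit (2 : Fin 5) (pts b) mS (tw b Seven5Data.sigW) = true ∧
    okWit (2 : Fin 5) (pts b) mW (tw b Seven5Data.tauW) = true ∧
    okWit (2 : Fin 5) (pts b) (mU (if b then 2 else 3)) (tw b Seven5Data.uW) = true ∧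
    okWit (2 : Fin 5) (pts b) (tm b mG) (tw b Seven5Data.gW) = true ∧
    moves (2 : Fin 5) (pts b) (tm b (mat a7P)) = true ∧
    okSU (2 : Fin 5) (tm b mG) = true ∧ okSU (2 : Fin 5) (tm b (mat a7P)) = true ∧
    pw (2 : Fin 5) (tm b mG) 5 = one3 ∧ pw (2 : Fin 5) (tm b mG) 3 0 1 ≠ zeroK := by
  decide +kernel

/-- The core `L2(7)` is not maximal in `SU(3, 5)`. -/
theorem seven_five (hF : Fintype.card F = 5 ^ 2)
    (hH : Cfsg.Geo.IsMaximalIn (Cfsg.GU 3 F 5 ⊓ Cfsg.Geo.specialLinear (Fin 3) F) H)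
    (hR : Cfsg.Geo.IsResidualCore H P) (e : coreQuot P ≃* L) : False := by
  classical
  haveI : Fact (Nat.Prime 5) := ⟨by norm_num⟩
  haveI := Cfsg.Agent.Lib.PrimeDim.SU3Model.charP_of_card (p := 5) hF
  obtain ⟨R⟩ := exists_real (p := 5) hF 2 (by decide) (by decide)
  obtain ⟨hg, hin⟩ := core_facts hF hH hR e
  haveI := hR.simple
  haveI : Nontrivial L := e.symm.toEquiv.nontrivial
  haveI : IsSimpleGroup L := IsSimpleGroup.isSimpleGroup_of_surjective e.toMonoidHom e.surjective
  let eP : P ≃* L := (MulEquiv.ofBijective _ ⟨hg, QuotientGroup.mk'_surjective _⟩).trans e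
  let ι : L →* GL (Fin 3) F := P.subtype.comp eP.symm.toMonoidHom
  have hι : Function.Injective ι := P.subtype_injective.comp eP.symm.injective
  have hιP : ∀ y, ι y ∈ P := fun y => (eP.symm y).2
  have hG : ∀ y, ι y ∈ Cfsg.GU 3 F 5 ⊓ Cfsg.Geo.specialLinear (Fin 3) F := fun y => hH.1.le (hR.le (hιP y))
  have hdet : ∀ y, (ι y).val.det = 1 := fun y =>
    (Cfsg.Agent.Lib.Subspaces.Transvection.mem_specialLinear_iff _).mp (hG y).2
  have rels := Rels.map ι hι (Rels.map (QuotientGroup.mk' _) mk_injective rels_SL)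
  obtain ⟨c, hc, et, es, ew, eu⟩ := rigid hF R (hG _).1 (hG _).1 (hG _).1 (hG _).1 (hdet _) (hdet _) (hdet _) rels
  obtain ⟨b, eu⟩ : ∃ b : Bool, (c⁻¹ * ι (gu : L) * c : GL (Fin 3) F).val = toMat R.t (mU (if b then 2 else 3)) := by
    rcases eu with eu | eu
    · exact ⟨true, eu⟩
    · exact ⟨false, eu⟩
  obtain ⟨wt, ws, ww, wu, wg, hmv, sug, sup, g5, g3⟩ := wit_ok b
  set O := (overgroup R (pts b)).comap (MulAut.conj c⁻¹).toMonoidHom with hO
  have memO : ∀ x, x ∈ O ↔ c⁻¹ * x * c ∈ overgroup R (pts b) := fun x => by simp [hO]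
  have hPO : ∀ x ∈ P, x ∈ O := by
    intro x hx
    have hgen : (⊤ : Subgroup L) ≤ O.comap ι := by
      rw [← closure_eq_top, Subgroup.closure_le]
      rintro y (rfl | rfl | rfl | rfl) <;> rw [SetLike.mem_coe, Subgroup.mem_comap, memO]
      · exact mem_overgroup R et wt
      · exact mem_overgroup R es ws
      · exact mem_overgroup R ew ww
      · exact mem_overgroup R eu wu
    have := hgen (Subgroup.mem_top (eP ⟨x, hx⟩))
    rw [Subgroup.mem_comap] at this
    simpa [ι] using this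
  have hHO : ∀ h ∈ H, c⁻¹ * h * c ∈ overgroup R (pts b) := by
    intro h hh
    obtain ⟨x, hx, hz⟩ := hin h hh
    rw [← memO, show h = x * (x⁻¹ * h) by group]
    refine mul_mem (hPO x hx) ((memO _).mpr ?_)
    refine scalars_le_overgroup R _ ?_
    rw [mul_assoc, (sc_commute (isSc_iff.mpr hz) c).eq, inv_mul_cancel_left]
    exact hz
  obtain ⟨sg1, sg2⟩ := Cfsg.Agent.Lib.PrimeDim.SU3Cases.okSU_iff sug
  obtain ⟨sp1, sp2⟩ := Cfsg.Agent.Lib.PrimeDim.SU3Cases.okSU_iff sup
  obtain ⟨gz, hgz, hgzv, -⟩ := exists_SU R hF _ sg1 sg2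
  obtain ⟨gp, hgp, hgpv, -⟩ := exists_SU R hF _ sp1 sp2
  refine not_maximal R hH hc hHO hgp (not_mem_overgroup R hF hgpv hmv) hgz (mem_overgroup R hgzv wg) ?_
  intro hzH
  obtain ⟨x, hx, hz⟩ := hin _ hzH
  have hcard : x ^ 168 = 1 := by
    have h1 : (eP ⟨x, hx⟩) ^ Nat.card L = 1 := pow_card_eq_one'
    rw [card_L, ← map_pow, map_eq_one_iff eP eP.injective] at h1
    simpa using congrArg Subtype.val h1
  have hcomm : Commute x (x⁻¹ * (c * gz * c⁻¹)) := (sc_commute (isSc_iff.mpr hz) x).symm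
  have h168 : (c * gz * c⁻¹) ^ 168 ∈ Cfsg.Geo.scalars (Fin 3) F := by
    have e1 := hcomm.mul_pow 168
    rw [mul_inv_cancel_left, hcard, one_mul] at e1
    rw [e1]
    exact pow_mem hz _
  have hgz5 : gz ^ 5 = 1 := Units.ext (by
    rw [Units.val_pow_eq_pow_val, hgzv, ← toMat_pw R.sq, g5, toMat_one, Units.val_one])
  have hgz3 : gz ^ 3 ∈ Cfsg.Geo.scalars (Fin 3) F := by
    have e1 : gz ^ 168 = gz ^ 3 := by rw [show 168 = 5 * 33 + 3 from rfl, pow_add, pow_mul, hgz5, one_pow, one_mul]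
    rw [conj_pow, e1] at h168
    have := (sc_commute (isSc_iff.mpr h168) c⁻¹).eq
    have e2 : gz ^ 3 = c * gz ^ 3 * c⁻¹ := by
      calc gz ^ 3 = c⁻¹ * (c * gz ^ 3 * c⁻¹) * c := by group
        _ = c * gz ^ 3 * c⁻¹ := by rw [← this, inv_mul_cancel_right]
    rw [e2]; exact h168
  obtain ⟨a, ha⟩ := (Cfsg.Geo.mem_scalars_iff _).mp hgz3
  rw [Units.val_pow_eq_pow_val, hgzv, ← toMat_pw R.sq] at ha
  have h01 := congrFun (congrFun ha 0) 1
  refine g3 (R.inj ?_)
  rw [phi_zero]
  simpa [toMat] using h01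

end Cfsg.Agent.Lib.Mitchell3.Seven5
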