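import Cfsg.Agent.Lib.Mitchell3.Residual
import Cfsg.Agent.Lib.Mitchell3.Seven5
import Cfsg.Agent.Lib.SU3Even96.Full

/-!
Mitchell package: the maximal subgroups of `SU(3, q)` in the residual class.
-/

set_option autoImplicit false
set_option linter.unusedSectionVars false
set_option linter.style.haveILetI false

namespace Cfsg.Agent.Lib.Mitchell3

open Matrix

universe u

variable {F : Type u} [Field F] [Fintype F]

theorem main5779 (q : ℕ) (hF : Fintype.card F = q ^ 2) (hq : 3 ≤ q) (H : Subgroup (GL (Fin 3) F))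
    (hH : Cfsg.Geo.IsMaximalIn (Cfsg.GU 3 F q ⊓ Cfsg.Geo.specialLinear (Fin 3) F) H)
    (hS : Cfsg.Geo.InUnitaryResidualClass H) :
    ∃ P : Subgroup (GL (Fin 3) F), Cfsg.Geo.IsResidualCore H P ∧ q.Prime ∧
    ((Nonempty (coreQuot P ≃* Matrix.ProjectiveSpecialLinearGroup (Fin 3) (ZMod 2)) ∧ q ≠ 5 ∧
        (q % 7 = 3 ∨ q % 7 = 5 ∨ q % 7 = 6)) ∨
     (Nonempty (coreQuot P ≃* alternatingGroup (Fin 6)) ∧ (q % 15 = 11 ∨ q % 15 = 14 ∨ q = 5)) ∨
     (Nonempty (coreQuot P ≃* alternatingGroup (Fin 7)) ∧ q = 5)) := by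
  classical
  obtain ⟨P, hR, hnq, -⟩ := hS
  refine ⟨P, hR, ?_⟩
  by_cases heven : Even q
  · exact (Cfsg.Agent.Lib.SU3Even96.no_core hF heven hq hH.1 hR).elim
  obtain ⟨p, k, hp, hc, hk, rfl⟩ := Cfsg.Agent.Lib.Unitary.q_eq_primePow hF
  haveI := Fact.mk hp
  haveI := hc
  have hp2 : p ≠ 2 := by
    rintro rfl
    exact heven ((Nat.even_pow).mpr ⟨even_two, by omega⟩)
  have h2 : (2 : F) ≠ 0 := fun e => hp2 ((Nat.prime_dvd_prime_iff_eq hp Nat.prime_two).mp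
    ((CharP.cast_eq_zero_iff F p 2).mp (by exact_mod_cast e)))
  have hF2 : Fintype.card F = p ^ (k * 2) := by rw [hF, pow_mul]
  have hSL : InSL P := fun x hx =>
    (Cfsg.Agent.Lib.Subspaces.Transvection.mem_specialLinear_iff x).mp (hH.1.le (hR.le hx)).2
  have hTF : IsTF P := fun v φ h0 hm => tf_unitary hF h2 hH hR v φ h0 (hR.le hm)
  have htwo : k * 2 ∣ 2 → k = 1 := fun hd => by
    have := Nat.le_of_dvd (by norm_num) hd
    omega
  have hone : ¬ k * 2 ∣ 1 := fun hd => by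
    have := Nat.le_of_dvd (by norm_num) hd
    omega
  rcases odd_cases hp2 hF2 hR hSL hTF with hself | ⟨h7, hcase⟩ | ⟨h6, hp3, ha, hb, -, hd, -⟩ | ⟨h7', hp5, htr⟩
  · exact (quad_false hR h2 hnq hself).elim
  · rcases hcase with ⟨-, htr⟩ | ⟨hm, htr⟩
    · exact absurd (degree_dvd_core hF2 hR (d := 1) (by simpa using htr)) hone
    · obtain rfl := htwo (dvd_two_of_twisted hF2 hR htr)
      rw [pow_one] at *
      refine ⟨hp, Or.inl ⟨h7, ?_, hm⟩⟩
      rintro rfl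
      obtain ⟨e⟩ := h7
      exact Seven5.seven_five hF hH hR e
  · obtain rfl := htwo (degree_dvd_core hF2 hR hb)
    rw [pow_one] at *
    have hGU : ∀ x ∈ P, tr3 x ^ p = tr3 x⁻¹ := fun x hx =>
      Cfsg.Agent.Lib.Mitchell96.trace_of_le_GU hF (fun y hy => (hH.1.le (hR.le hy)).1) x hx
    refine ⟨hp, Or.inr (Or.inl ⟨h6, ?_⟩)⟩
    have h23 : ¬ (p % 5 = 2 ∨ p % 5 = 3) := fun hc5 => hd hc5 hGU
    have h14 : ¬ (p % 3 = 1 ∧ (p % 5 = 1 ∨ p % 5 = 4)) := fun hc5 =>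
      hone (degree_dvd_core hF2 hR (d := 1) (by simpa using ha hc5))
    have h30 : p % 3 ≠ 0 := fun e => hp3 ((Nat.prime_dvd_prime_iff_eq Nat.prime_three hp).mp
      (Nat.dvd_of_mod_eq_zero e)).symm
    by_cases h50 : p % 5 = 0
    · exact Or.inr (Or.inr ((Nat.prime_dvd_prime_iff_eq (by norm_num) hp).mp
        (Nat.dvd_of_mod_eq_zero h50)).symm)
    omega
  · obtain rfl := htwo (dvd_two_of_twisted hF2 hR htr)
    rw [pow_one] at *
    exact ⟨hp, Or.inr (Or.inr ⟨h7', hp5⟩)⟩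

end Cfsg.Agent.Lib.Mitchell3
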