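import Cfsg.Agent.Lib.AutPSL.Split
import Cfsg.Agent.Lib.AutPSL.Classes
import Cfsg.Agent.Lib.Linear.Order
import Cfsg.Agent.Lib.Linear.SmallIso.PSL9

/-!
Mitchell package: the model side of the identification, automorphisms of `PSL(2, r)` acting on the root
group and the torus, and the facts about `PSL(2, 9)` used for the alternating group of degree six.
-/

set_option autoImplicit false
set_option linter.unusedSectionVars false
set_option linter.style.haveILetI false

namespace Cfsg.Agent.Lib.Mitchell3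

open Matrix
open Cfsg.Agent.Lib.AutPSL (conjAut fieldAut xr conjAut_diag_xr fieldAut_xr xr_add xr_injective
  conjAut_eq_iff eq_one_of_conj_field conjAut_toGL conjAut_mk)

variable {E : Type} [Field E] [Fintype E]

local notation "PSL2" => Matrix.ProjectiveSpecialLinearGroup (Fin 2) E
local notation "GL2" => GL (Fin 2) E
local notation "SL2" => Matrix.SpecialLinearGroup (Fin 2) E

theorem conj_psl_injective : Function.Injective (MulAut.conj : PSL2 →* MulAut PSL2) := by
  refine (injective_iff_map_eq_one _).mpr fun g hg => ?_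
  obtain ⟨s, rfl⟩ := QuotientGroup.mk_surjective g
  obtain ⟨c, hc⟩ := Cfsg.Agent.Lib.AutPSL.exists_scalar_of_conjAut_eq_one le_rfl
    (g := Matrix.SpecialLinearGroup.toGL s) (by rw [conjAut_toGL, hg])
  refine (QuotientGroup.eq_one_iff s).mpr (Matrix.SpecialLinearGroup.mem_center_iff.mpr ⟨c, ?_, ?_⟩)
  · have h1 := congrArg (fun g : GL2 => (g : Matrix (Fin 2) (Fin 2) E).det) hc
    simp only [Matrix.SpecialLinearGroup.toGL, Matrix.GeneralLinearGroup.coe_scalar] at h1
    simpa [Matrix.scalar_apply] using h1.symm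
  · have h1 := congrArg (fun g : GL2 => (g : Matrix (Fin 2) (Fin 2) E)) hc
    simpa [Matrix.GeneralLinearGroup.coe_scalar] using h1.symm

/-- A diagonal matrix. -/
def dg (a b : Eˣ) : GL2 :=
  ⟨diagonal fun k => ((![a, b] k : Eˣ) : E), diagonal fun k => (((![a, b] k)⁻¹ : Eˣ) : E),
    by simp, by simp⟩

theorem det_dg (a b : Eˣ) : GeneralLinearGroup.det (dg a b) = a * b := by
  refine Units.ext ?_
  simp [dg, Matrix.det_fin_two]

theorem dg_mul (a b c d : Eˣ) : dg a b * dg c d = dg (a * c) (b * d) := by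
  refine Units.ext ?_
  simp only [Units.val_mul, dg, diagonal_mul_diagonal]
  congr 1
  ext k
  fin_cases k <;> simp

theorem conjAut_dg_xr (a b : Eˣ) (t : E) :
    conjAut (dg a b) (xr 0 1 t : PSL2) = xr 0 1 ((a : E) * t * ((b⁻¹ : Eˣ) : E)) :=
  conjAut_diag_xr ![a, b] (by decide) t

/-- The root group inside the automorphism group. -/
noncomputable def uE (t : E) : MulAut PSL2 := MulAut.conj (xr 0 1 t)

theorem uE_add (s t : E) : uE (s + t) = uE s * uE t := by
  rw [uE, xr_add (by decide), map_mul]; rfl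

theorem uE_injective : Function.Injective (uE : E → MulAut PSL2) :=
  conj_psl_injective.comp (xr_injective le_rfl (by decide))

theorem uE_zero : uE (0 : E) = 1 := by
  have h := uE_add (0 : E) 0
  rw [add_zero] at h
  exact left_eq_mul.mp h

theorem uE_eq_one {t : E} : uE t = 1 ↔ t = 0 :=
  ⟨fun h => uE_injective (h.trans uE_zero.symm), fun h => by rw [h, uE_zero]⟩

theorem uE_nsmul (n : ℕ) (t : E) : uE (n • t) = uE t ^ n := by
  induction n with
  | zero => rw [zero_nsmul, uE_zero, pow_zero]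
  | succ n ih => rw [succ_nsmul, uE_add, ih, pow_succ]

theorem uE_pow_char {s : ℕ} [CharP E s] (t : E) : uE t ^ s = 1 := by
  rw [← uE_nsmul, nsmul_eq_mul, CharP.cast_eq_zero, zero_mul, uE_zero]

theorem uE_mem_inn (t : E) : uE t ∈ Cfsg.Inn PSL2 := ⟨_, rfl⟩

theorem aut_uE (β : MulAut PSL2) {t u : E} (h : β (xr 0 1 t) = xr 0 1 u) :
    β * uE t * β⁻¹ = uE u := by
  rw [uE, uE, ← h]
  ext x
  simp [MulAut.conj_apply]

/-- Conjugation by a diagonal element twisted by a field automorphism. -/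
noncomputable def twist (d : Eˣ) (σ : E ≃+* E) : MulAut PSL2 := conjAut (dg d 1) * fieldAut σ

theorem twist_uE (d : Eˣ) (σ : E ≃+* E) (t : E) :
    twist d σ * uE t * (twist d σ)⁻¹ = uE ((d : E) * σ t) := by
  refine aut_uE _ ?_
  rw [twist, MulAut.mul_apply, fieldAut_xr σ (by decide), conjAut_dg_xr]
  simp

/-- An element of the split torus. -/
noncomputable def tor (a : Eˣ) : MulAut PSL2 := conjAut (dg a a⁻¹)

theorem tor_uE (a : Eˣ) (t : E) : tor a * uE t * (tor a)⁻¹ = uE ((a : E) ^ 2 * t) := by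
  refine aut_uE _ ?_
  rw [tor, conjAut_dg_xr, inv_inv]
  congr 1
  ring

theorem conjAut_mem_inn {g : GL2} :
    (conjAut g : MulAut PSL2) ∈ Cfsg.Inn PSL2 ↔ IsSquare (GeneralLinearGroup.det g) := by
  rw [Cfsg.Agent.Lib.AutPSL.inn_eq_map]
  constructor
  · rintro ⟨h, hh, he⟩
    obtain ⟨c, rfl⟩ := (conjAut_eq_iff le_rfl).mp he
    rw [SetLike.mem_coe, MonoidHom.mem_ker] at hh
    refine ⟨c, Units.ext ?_⟩
    rw [map_mul, hh, mul_one]
    simp [Matrix.det_fin_two, pow_two]
  · rintro ⟨e, he⟩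
    refine ⟨GeneralLinearGroup.scalar (Fin 2) e⁻¹ * g, ?_, ((conjAut_eq_iff le_rfl).mpr ⟨e⁻¹, rfl⟩).symm⟩
    rw [SetLike.mem_coe, MonoidHom.mem_ker, map_mul, he]
    refine Units.ext ?_
    simp [Matrix.det_fin_two]
    field_simp

theorem tor_mem_inn (a : Eˣ) : tor a ∈ Cfsg.Inn PSL2 :=
  conjAut_mem_inn.mpr (by rw [det_dg, mul_inv_cancel]; exact IsSquare.one)

variable {M : Subgroup (MulAut (Matrix.ProjectiveSpecialLinearGroup (Fin 2) E))}

/-- Every element of a group containing the inner automorphisms is a twist up to inner automorphisms. -/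
theorem exists_twist (hInn : Cfsg.Inn PSL2 ≤ M) {β : MulAut PSL2} (hβ : β ∈ M) :
    ∃ (d : Eˣ) (σ : E ≃+* E), twist d σ ∈ M ∧ twist d σ * β⁻¹ ∈ Cfsg.Inn PSL2 := by
  obtain ⟨g, σ, γ, hγ, he⟩ := Cfsg.Agent.Lib.AutPSL.exists_decomp (le_refl 2) β
  obtain rfl : γ = 1 := hγ.resolve_right fun h => absurd h.1 (by decide)
  rw [mul_one] at he
  subst he
  set d := GeneralLinearGroup.det g with hd
  have h1 : twist d σ * (conjAut g * fieldAut σ)⁻¹ = conjAut (dg d 1 * g⁻¹) := by
    rw [twist, map_mul, map_inv, _root_.mul_inv_rev, mul_assoc, mul_inv_cancel_left]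
  have h2 : twist d σ * (conjAut g * fieldAut σ)⁻¹ ∈ Cfsg.Inn PSL2 := by
    rw [h1]
    exact conjAut_mem_inn.mpr (by rw [map_mul, det_dg, map_inv, mul_one, ← hd, mul_inv_cancel]; exact IsSquare.one)
  refine ⟨d, σ, ?_, h2⟩
  have := M.mul_mem (hInn h2) hβ
  rwa [inv_mul_cancel_right] at this

theorem twist_mem_inn_of {d : Eˣ} (hd : IsSquare d) : twist d (1 : E ≃+* E) ∈ Cfsg.Inn PSL2 := by
  rw [twist, map_one, mul_one]
  exact conjAut_mem_inn.mpr (by rwa [det_dg, mul_one])

/-- Without twists other than squares, the group is the inner automorphism group. -/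
theorem eq_inn (hInn : Cfsg.Inn PSL2 ≤ M)
    (h : ∀ (d : Eˣ) (σ : E ≃+* E), twist d σ ∈ M → σ = 1 ∧ IsSquare d) : M = Cfsg.Inn PSL2 := by
  refine le_antisymm (fun β hβ => ?_) hInn
  obtain ⟨d, σ, hm, hi⟩ := exists_twist hInn hβ
  obtain ⟨rfl, hd⟩ := h d σ hm
  have := Subgroup.mul_mem _ (Subgroup.inv_mem _ hi) (twist_mem_inn_of hd)
  rwa [_root_.mul_inv_rev, inv_inv, inv_mul_cancel_right] at this

theorem isSquare_mul_inv (hodd : Odd (Fintype.card E)) {a b : Eˣ} (ha : ¬ IsSquare a)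
    (hb : ¬ IsSquare b) : IsSquare (a * b⁻¹) := by
  classical
  have hchar : ringChar E ≠ 2 := fun h => by
    have h2 := FiniteField.even_card_iff_char_two.mp h
    exact Nat.not_even_iff_odd.mpr hodd (Nat.even_iff.mpr h2)
  have key : ∀ u : Eˣ, IsSquare u ↔ quadraticChar E (u : E) = 1 := fun u => by
    rw [quadraticChar_one_iff_isSquare u.ne_zero]
    constructor
    · rintro ⟨r, rfl⟩; exact ⟨r, rfl⟩
    · rintro ⟨r, hr⟩
      have hr0 : r ≠ 0 := fun e => u.ne_zero (by rw [hr, e, mul_zero])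
      exact ⟨Units.mk0 r hr0, Units.ext hr⟩
  have h1 : ∀ u : Eˣ, ¬ IsSquare u → quadraticChar E (u : E) = -1 := fun u hu =>
    (quadraticChar_dichotomy u.ne_zero).resolve_left fun e => hu ((key u).mpr e)
  rw [key, Units.val_mul, map_mul]
  rw [h1 a ha, h1 b⁻¹ (fun h => hb (by simpa using h.inv))]
  norm_num

/-- Without field twists the group is the inner or the inner-diagonal group. -/
theorem eq_inn_or_inndiag (hodd : Odd (Fintype.card E)) (hInn : Cfsg.Inn PSL2 ≤ M)
    (h : ∀ (d : Eˣ) (σ : E ≃+* E), twist d σ ∈ M → σ = 1) :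
    M = Cfsg.Inn PSL2 ∨ M = (conjAut : GL2 →* MulAut PSL2).range := by
  by_cases hsq : ∀ d : Eˣ, twist d (1 : E ≃+* E) ∈ M → IsSquare d
  · refine Or.inl (eq_inn hInn fun d σ hm => ?_)
    obtain rfl := h d σ hm
    exact ⟨rfl, hsq d hm⟩
  push Not at hsq
  obtain ⟨d₀, hd₀, hns⟩ := hsq
  rw [twist, map_one, mul_one] at hd₀
  refine Or.inr (le_antisymm (fun β hβ => ?_) ?_)
  · obtain ⟨d, σ, hm, hi⟩ := exists_twist hInn hβ
    obtain rfl := h d σ hm
    rw [Cfsg.Agent.Lib.AutPSL.inn_eq_map] at hi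
    obtain ⟨g, -, hg⟩ := hi
    refine ⟨g⁻¹ * dg d 1, ?_⟩
    rw [map_mul, map_inv, hg, twist, map_one, mul_one, _root_.mul_inv_rev, inv_inv, inv_mul_cancel_right]
  · rintro _ ⟨g, rfl⟩
    by_cases hg : IsSquare (GeneralLinearGroup.det g)
    · exact hInn (conjAut_mem_inn.mpr hg)
    · have h1 : (conjAut (g * (dg d₀ 1)⁻¹) : MulAut PSL2) ∈ M :=
        hInn (conjAut_mem_inn.mpr (by
          rw [map_mul, map_inv, det_dg, mul_one]; exact isSquare_mul_inv hodd hg hns))
      have := M.mul_mem h1 hd₀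
      rwa [← map_mul, inv_mul_cancel_right] at this

theorem ringEquiv_prime {r : ℕ} [Fact r.Prime] (hE : Fintype.card E = r) (σ : E ≃+* E) : σ = 1 := by
  have h := Cfsg.Agent.Lib.AutPSL.card_fieldAuts (F := E) (p := r) (f := 1) (by rw [hE, pow_one])
  haveI : Finite (E ≃+* E) := Nat.finite_of_card_ne_zero (by omega)
  haveI := (Nat.card_eq_one_iff_unique.mp h).1
  exact Subsingleton.elim _ _

theorem ringEquiv_nine (hE : Fintype.card E = 9) {σ : E ≃+* E} (hσ : σ ≠ 1) :
    (∀ x, σ x = x ^ 3) ∧ ∀ τ : E ≃+* E, τ ≠ 1 → σ * τ = 1 := by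
  haveI : Fact (Nat.Prime 3) := ⟨Nat.prime_three⟩
  haveI : CharP E 3 := charP_of_card_eq_prime_pow (f := 2) (by rw [hE]; norm_num)
  have h := Cfsg.Agent.Lib.AutPSL.card_fieldAuts (F := E) (p := 3) (f := 2) (by rw [hE]; norm_num)
  have key : ∀ a b : E ≃+* E, a ≠ 1 → b ≠ 1 → a = b := fun a b ha hb => by
    obtain ⟨u, hu, huu⟩ := (Nat.card_eq_two_iff' (1 : E ≃+* E)).mp h
    rw [huu a ha, huu b hb]
  have hfr : (frobeniusEquiv E 3 : E ≃+* E) ≠ 1 := fun e => by
    have h3 : ∀ x : E, x ^ 3 = x := fun x => by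
      have := RingEquiv.congr_fun e x
      simpa [frobeniusEquiv_def, frobenius_def] using this
    classical
    have hle : (Finset.univ : Finset E) ⊆
        (Polynomial.X ^ 3 - Polynomial.X : Polynomial E).roots.toFinset := fun x _ => by
      rw [Multiset.mem_toFinset, Polynomial.mem_roots
        (FiniteField.X_pow_card_sub_X_ne_zero E (p := 3) (by norm_num))]
      simp [h3 x]
    have := (Finset.card_le_card hle).trans ((Multiset.toFinset_card_le _).trans
      (Polynomial.card_roots' _))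
    rw [Finset.card_univ, hE, FiniteField.X_pow_card_sub_X_natDegree_eq E (by norm_num)] at this
    omega
  refine ⟨fun x => ?_, fun τ hτ => ?_⟩
  · rw [key σ _ hσ hfr, frobeniusEquiv_def]
  · have h2 : σ ^ 2 = 1 := by
      haveI : Finite (E ≃+* E) := Nat.finite_of_card_ne_zero (by omega)
      rw [← h]; exact pow_card_eq_one'
    rw [key τ σ hτ hσ, ← pow_two, h2]

theorem card_psl_nine (hE : Fintype.card E = 9) : Nat.card PSL2 = 360 := by
  have := Cfsg.Agent.Lib.Linear.two_mul_card_PSL_two_of_odd (F := E) (by rw [hE]; decide)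
  rw [hE] at this
  omega

theorem sq_eq (s : SL2) : (s : Matrix (Fin 2) (Fin 2) E) * s =
    (s : Matrix (Fin 2) (Fin 2) E).trace • (s : Matrix (Fin 2) (Fin 2) E) - 1 := by
  obtain ⟨A, hd⟩ := s
  show A * A = A.trace • A - 1
  rw [Matrix.det_fin_two] at hd
  ext i j
  fin_cases i <;> fin_cases j <;>
    simp [Matrix.mul_apply, Fin.sum_univ_two, Matrix.trace_fin_two] <;>
    grind

theorem trace_five (hE : Fintype.card E = 9) {s : SL2} (hs : orderOf (QuotientGroup.mk s : PSL2) = 5) :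
    ((s : Matrix (Fin 2) (Fin 2) E).trace ^ 2) ^ 3 ≠ (s : Matrix (Fin 2) (Fin 2) E).trace ^ 2 := by
  haveI : Fact (Nat.Prime 3) := ⟨Nat.prime_three⟩
  haveI : CharP E 3 := charP_of_card_eq_prime_pow (f := 2) (by rw [hE]; norm_num)
  have h3 : (3 : E) = 0 := CharP.cast_eq_zero E 3
  set τ := (s : Matrix (Fin 2) (Fin 2) E).trace
  set S := (s : Matrix (Fin 2) (Fin 2) E)
  have hsq : S * S = τ • S - 1 := sq_eq s
  have fin : ∀ (n : ℕ) (c : E), S ^ n = c • 1 → 5 ∣ n := fun n c h => by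
    rw [← hs]
    refine orderOf_dvd_of_pow_eq_one ?_
    rw [← QuotientGroup.mk_pow, QuotientGroup.eq_one_iff, Matrix.SpecialLinearGroup.mem_center_iff]
    refine ⟨c, ?_, by rw [Matrix.SpecialLinearGroup.coe_pow, h, scalar_apply, smul_one_eq_diagonal]⟩
    have h1 := congrArg Matrix.det h
    rw [Matrix.det_pow, s.det_coe, one_pow, det_smul, det_one, mul_one] at h1
    exact h1.symm
  intro he
  rcases eq_or_ne τ 0 with h0 | h0
  · exact absurd (fin 2 (-1) (by rw [pow_two, hsq, h0, zero_smul, zero_sub, neg_smul, one_smul])) (by decide)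
  have h4 : (τ ^ 2 - 1) * (τ ^ 2 + 1) = 0 := by
    have : τ ^ 2 * ((τ ^ 2 - 1) * (τ ^ 2 + 1)) = 0 := by linear_combination he
    exact (mul_eq_zero.mp this).resolve_left (pow_ne_zero 2 h0)
  have hS3 : S ^ 3 = (τ ^ 2 - 1) • S - τ • 1 := by
    rw [pow_succ, pow_two, hsq, sub_mul, smul_mul_assoc, hsq, one_mul]
    module
  rcases mul_eq_zero.mp h4 with h | h
  · exact absurd (fin 3 (-τ) (by rw [hS3, h, zero_smul, zero_sub, neg_smul])) (by decide)
  · have h' : τ ^ 2 - 1 = 1 := by linear_combination h - h3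
    refine absurd (fin 4 (-1) ?_) (by decide)
    rw [pow_succ, hS3, h', one_smul, sub_mul, smul_mul_assoc, one_mul, hsq]
    match_scalars <;> ring

/-- A twist by the non-trivial field automorphism of `F₉` moves every element of order five out of
`{y, y⁻¹}`. -/
theorem semilinear_five (hE : Fintype.card E = 9) {g : GL2} {σ : E ≃+* E} (hσ : σ ≠ 1) {y : PSL2}
    (hy : orderOf y = 5) :
    (conjAut g * fieldAut σ : MulAut PSL2) y ≠ y ∧ (conjAut g * fieldAut σ : MulAut PSL2) y ≠ y⁻¹ := by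
  obtain ⟨s, rfl⟩ := QuotientGroup.mk_surjective y
  set τ := (s : Matrix (Fin 2) (Fin 2) E).trace with hτ
  have main : ∀ t : SL2, (t : Matrix (Fin 2) (Fin 2) E).trace = τ →
      (conjAut g * fieldAut σ : MulAut PSL2) (QuotientGroup.mk s) = QuotientGroup.mk t → False := by
    intro t ht he
    rw [MulAut.mul_apply, Cfsg.Agent.Lib.AutPSL.fieldAut_mk, conjAut_mk,
      Cfsg.Agent.Lib.AutPSL.mk_eq_mk_iff] at he
    obtain ⟨c, hc⟩ := he
    have hd := congrArg Matrix.det hc
    rw [det_smul, t.det_coe, Matrix.SpecialLinearGroup.det_coe, mul_one, Fintype.card_fin] at hd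
    have htr := congrArg Matrix.trace hc
    rw [trace_smul, Cfsg.Agent.Lib.AutPSL.coe_conjSL, Matrix.trace_units_conj,
      Cfsg.Agent.Lib.AutPSL.coe_fieldSL, ht, smul_eq_mul] at htr
    have hm : (((s : Matrix (Fin 2) (Fin 2) E).map σ)).trace = σ τ := by
      simp [hτ, Matrix.trace_fin_two, map_add]
    rw [hm] at htr
    refine trace_five hE hy ?_
    rw [← hτ, ← (ringEquiv_nine hE hσ).1, map_pow]
    calc σ τ ^ 2 = c ^ 2 * σ τ ^ 2 := by rw [← hd, one_mul]
      _ = τ ^ 2 := by conv_rhs => rw [htr, mul_pow]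
  refine ⟨fun h => main s rfl h, fun h => main s⁻¹ ?_ (by rw [h, QuotientGroup.mk_inv])⟩
  simp [Matrix.SpecialLinearGroup.coe_inv, Matrix.adjugate_fin_two, Matrix.trace_fin_two, hτ, add_comm]

/-- An element of order five of `PSL(2, 9)` with an element conjugating it to its inverse. -/
theorem exists_five (hE : Fintype.card E = 9) :
    ∃ y w : PSL2, orderOf y = 5 ∧ w * y * w⁻¹ = y ^ 4 := by
  obtain ⟨e⟩ := Cfsg.Agent.Lib.Linear.SmallIso.nonempty_psl_two_nine hE
  haveI : Fact (Nat.Prime 5) := ⟨by norm_num⟩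
  let y0 : alternatingGroup (Fin 6) := ⟨c[0, 1, 2, 3, 4], by rw [Equiv.Perm.mem_alternatingGroup]; decide⟩
  let w0 : alternatingGroup (Fin 6) := ⟨c[1, 4] * c[2, 3], by rw [Equiv.Perm.mem_alternatingGroup]; decide⟩
  refine ⟨e.symm y0, e.symm w0, ?_, ?_⟩
  · rw [MulEquiv.orderOf_eq]
    exact orderOf_eq_prime (Subtype.ext (Equiv.ext (by decide))) (by decide)
  · rw [← map_inv, ← map_mul, ← map_mul, ← map_pow]
    refine congrArg e.symm ?_
    apply Subtype.ext
    simp only [Subgroup.coe_mul, Subgroup.coe_inv, Subgroup.coe_pow, y0, w0]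
    exact Equiv.ext (by decide)

/-- Every automorphism carries an element of order five of `PSL(2, 9)` to a conjugate of one of its
powers. -/
theorem exists_five_power (hE : Fintype.card E = 9) (β : MulAut PSL2) {y : PSL2} (hy : orderOf y = 5) :
    ∃ (w : PSL2) (k : ℕ), β y = w * y ^ k * w⁻¹ := by
  haveI : Fact (Nat.Prime 5) := ⟨by norm_num⟩
  have hsyl : ∀ z : PSL2, orderOf z = 5 →
      Nat.card (Subgroup.zpowers z) = 5 ^ (Nat.card PSL2).factorization 5 := fun z hz => by
    rw [Nat.card_zpowers, hz, card_psl_nine hE,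
      show (360 : ℕ).factorization 5 = 1 by
        rw [show (360 : ℕ) = 5 * 72 by norm_num, Nat.factorization_mul (by norm_num) (by norm_num),
          Finsupp.add_apply, Nat.Prime.factorization_self (by norm_num),
          Nat.factorization_eq_zero_of_not_dvd (by norm_num)], pow_one]
  let P1 := Sylow.ofCard _ (hsyl y hy)
  let P2 := Sylow.ofCard _ (hsyl (β y) ((MulEquiv.orderOf_eq β y).trans hy))
  obtain ⟨w, hw⟩ := MulAction.exists_smul_eq PSL2 P1 P2
  have h1 : β y ∈ (P2 : Subgroup PSL2) := by simp [P2, Sylow.coe_ofCard, Subgroup.mem_zpowers]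
  rw [← hw] at h1
  rw [Sylow.coe_subgroup_smul, Subgroup.mem_pointwise_smul_iff_inv_smul_mem] at h1
  obtain ⟨k, hk⟩ := (mem_powers_iff_mem_zpowers.mpr (show w⁻¹ * β y * w ∈ Subgroup.zpowers y by
    simpa [P1, Sylow.coe_ofCard, MulAut.smul_def, MulAut.conj_inv_apply] using h1))
  refine ⟨w, k, ?_⟩
  simp only at hk
  rw [hk]
  group

end Cfsg.Agent.Lib.Mitchell3
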