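import Cfsg.Agent.Lib.Mitchell3.Setup

/-!
Mitchell package: eigenvalues of elements of prime order in three dimensions and what conjugacy to powers
and definedness over a finite field say about the field.
-/

set_option autoImplicit false
set_option linter.unusedSectionVars false

namespace Cfsg.Agent.Lib.Mitchell3

open Matrix Module

variable {K : Type*} [Field K]

/-- `c` is an eigenvalue of `x`. -/
def Spec (x : GL (Fin 3) K) (c : K) : Prop :=
  ∃ v : Fin 3 → K, v ≠ 0 ∧ (x : Matrix (Fin 3) (Fin 3) K) *ᵥ v = c • v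

theorem spec_conj {x g : GL (Fin 3) K} {c : K} (h : Spec x c) : Spec (g * x * g⁻¹) c := by
  obtain ⟨v, hv, he⟩ := h
  refine ⟨(g : Matrix (Fin 3) (Fin 3) K) *ᵥ v, fun e => hv ?_, ?_⟩
  · have := congrArg (((g⁻¹ : GL (Fin 3) K) : Matrix (Fin 3) (Fin 3) K) *ᵥ ·) e
    simpa only [mulVec_mulVec, ← Units.val_mul, inv_mul_cancel, Units.val_one, one_mulVec,
      mulVec_zero] using this
  · rw [mulVec_mulVec, ← Units.val_mul, inv_mul_cancel_right, Units.val_mul, ← mulVec_mulVec, he,
      mulVec_smul]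

theorem spec_of_conj {x g : GL (Fin 3) K} {c : K} (h : Spec (g * x * g⁻¹) c) : Spec x c := by
  have := spec_conj (g := g⁻¹) h
  simpa [mul_assoc] using this

theorem spec_pow {x : GL (Fin 3) K} {c : K} (h : Spec x c) (k : ℕ) : Spec (x ^ k) (c ^ k) := by
  obtain ⟨v, hv, he⟩ := h
  refine ⟨v, hv, ?_⟩
  induction k with
  | zero => simp
  | succ k ih =>
    rw [pow_succ, Units.val_mul, ← mulVec_mulVec, he, mulVec_smul, ih, smul_smul, pow_succ']

theorem spec_card {x : GL (Fin 3) K} (T : Finset K) (h : ∀ c ∈ T, Spec x c) : T.card ≤ 3 := by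
  classical
  have hle : T ⊆ (x : Matrix (Fin 3) (Fin 3) K).charpoly.roots.toFinset := by
    intro c hc
    obtain ⟨v, hv, he⟩ := h c hc
    rw [Multiset.mem_toFinset, Polynomial.mem_roots (Matrix.charpoly_monic _).ne_zero,
      Polynomial.IsRoot.def, Matrix.eval_charpoly, ← Matrix.exists_mulVec_eq_zero_iff]
    refine ⟨v, hv, ?_⟩
    rw [sub_mulVec, he]
    simp [Matrix.scalar_apply, mulVec_diagonal, funext_iff]
  refine (Finset.card_le_card hle).trans ((Multiset.toFinset_card_le _).trans ?_)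
  refine (Polynomial.card_roots' _).trans ?_
  rw [Matrix.charpoly_natDegree_eq_dim, Fintype.card_fin]

/-- An invariant non-zero subspace contains an eigenvector. -/
theorem exists_eigvec_in [IsAlgClosed K] (M : Matrix (Fin 3) (Fin 3) K)
    {W : Submodule K (Fin 3 → K)} (hW : ∀ w ∈ W, M *ᵥ w ∈ W) (hne : W ≠ ⊥) :
    ∃ w ∈ W, w ≠ 0 ∧ ∃ c : K, M *ᵥ w = c • w := by
  haveI : Nontrivial W := Submodule.nontrivial_iff_ne_bot.mpr hne
  let f : Module.End K W := (Matrix.toLin' M).restrict fun w hw => by simpa using hW w hw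
  obtain ⟨c, hc⟩ := Module.End.exists_eigenvalue f
  obtain ⟨⟨w, hw⟩, hv, hv0⟩ := hc.exists_hasEigenvector
  refine ⟨w, hw, fun e => hv0 (Subtype.ext e), c, ?_⟩
  have := congrArg Subtype.val (Module.End.mem_eigenspace_iff.mp hv)
  simpa [f] using this

/-- A non-trivial element of order prime to the characteristic has an eigenvalue different from one. -/
theorem spec_ne_one [IsAlgClosed K] {x : GL (Fin 3) K} {n : ℕ} (hx : x ^ n = 1)
    (hn : (n : K) ≠ 0) (hne : x ≠ 1) : ∃ c : K, c ≠ 1 ∧ c ^ n = 1 ∧ Spec x c := by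
  classical
  set X : Matrix (Fin 3) (Fin 3) K := (x : Matrix (Fin 3) (Fin 3) K) with hX
  have hXn : X ^ n = 1 := by rw [hX, ← Units.val_pow_eq_pow_val, hx, Units.val_one]
  set S : Matrix (Fin 3) (Fin 3) K := ∑ i ∈ Finset.range n, X ^ i with hS
  set W := LinearMap.ker (Matrix.toLin' S) with hWdef
  have hne' : W ≠ ⊥ := by
    obtain ⟨v, hv⟩ : ∃ v, (X - 1) *ᵥ v ≠ 0 := by
      by_contra hc
      push Not at hc
      refine hne (Units.ext (sub_eq_zero.mp (Matrix.mulVec_injective (funext fun v => ?_))))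
      rw [← hX, Units.val_one, hc, zero_mulVec]
    intro e
    have : (X - 1) *ᵥ v ∈ W := by
      rw [hWdef, LinearMap.mem_ker, Matrix.toLin'_apply, mulVec_mulVec, hS, geom_sum_mul, hXn,
        sub_self, zero_mulVec]
    rw [e, Submodule.mem_bot] at this
    exact hv this
  have hinv : ∀ w ∈ W, X *ᵥ w ∈ W := fun w hw => by
    rw [hWdef, LinearMap.mem_ker, Matrix.toLin'_apply] at hw ⊢
    rw [mulVec_mulVec, show S * X = X * S by
      rw [hS, Finset.sum_mul, Finset.mul_sum]
      exact Finset.sum_congr rfl fun i _ => by rw [← pow_succ, ← pow_succ'],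
      ← mulVec_mulVec, hw, mulVec_zero]
  obtain ⟨w, hw, hw0, c, hc⟩ := exists_eigvec_in X hinv hne'
  have hp : ∀ i, (X ^ i) *ᵥ w = c ^ i • w := fun i => by
    induction i with
    | zero => simp
    | succ i ih => rw [pow_succ, ← mulVec_mulVec, hc, mulVec_smul, ih, smul_smul, pow_succ']
  refine ⟨c, fun e => hn ?_, ?_, w, hw0, hc⟩
  · rw [hWdef, LinearMap.mem_ker, Matrix.toLin'_apply, hS, sum_mulVec] at hw
    simp only [hp, e, one_pow, one_smul, Finset.sum_const, Finset.card_range] at hw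
    rw [← Nat.cast_smul_eq_nsmul K] at hw
    exact (smul_eq_zero.mp hw).resolve_right hw0
  · have := hp n
    rw [hXn, one_mulVec] at this
    exact smul_left_injective K hw0 (this.symm.trans (one_smul K w).symm)

/-- The spectrum of a matrix with entries fixed by `e ↦ e ^ q` is closed under that map. -/
theorem spec_frob {p α : ℕ} [Fact p.Prime] [CharP K p] {x : GL (Fin 3) K}
    (hx : ∀ i j, (x : Matrix (Fin 3) (Fin 3) K) i j ^ p ^ α = (x : Matrix (Fin 3) (Fin 3) K) i j)
    {c : K} (h : Spec x c) : Spec x (c ^ p ^ α) := by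
  obtain ⟨v, hv, he⟩ := h
  refine ⟨iterateFrobenius K p α ∘ v, fun e => hv (funext fun i => ?_), funext fun i => ?_⟩
  · have := congrFun e i
    simpa [iterateFrobenius_def, (Fact.out : p.Prime).ne_zero] using this
  · have h1 := RingHom.map_mulVec (iterateFrobenius K p α) (x : Matrix (Fin 3) (Fin 3) K) v i
    have h2 : (x : Matrix (Fin 3) (Fin 3) K).map (iterateFrobenius K p α) =
        (x : Matrix (Fin 3) (Fin 3) K) := Matrix.ext fun i j => by
      rw [Matrix.map_apply, iterateFrobenius_def, hx]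
    rw [h2, he] at h1
    rw [← h1]
    simp [iterateFrobenius_def, mul_pow]

/-- An exponent under which the spectrum of `x` is closed. -/
def Good (x : GL (Fin 3) K) (j : ℕ) : Prop := ∀ c, Spec x c → Spec x (c ^ j)

theorem Good.mul {x : GL (Fin 3) K} {i j : ℕ} (hi : Good x i) (hj : Good x j) : Good x (i * j) :=
  fun c hc => by rw [pow_mul]; exact hj _ (hi c hc)

theorem good_of_conj {x g : GL (Fin 3) K} {j : ℕ} (h : g * x * g⁻¹ = x ^ j) : Good x j :=
  fun c hc => spec_of_conj (g := g) (by rw [h]; exact spec_pow hc j)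

theorem good_frob {p α : ℕ} [Fact p.Prime] [CharP K p] {x : GL (Fin 3) K}
    (hx : ∀ i j, (x : Matrix (Fin 3) (Fin 3) K) i j ^ p ^ α = (x : Matrix (Fin 3) (Fin 3) K) i j) :
    Good x (p ^ α) := fun _ hc => spec_frob hx hc

/-- The spectrum of an element of prime order at least five is not closed under all exponents. -/
theorem not_all_good [IsAlgClosed K] {x : GL (Fin 3) K} {s : ℕ} (hs : s.Prime) (h5 : 5 ≤ s)
    (hK : (s : K) ≠ 0) (hx : x ^ s = 1) (hne : x ≠ 1)
    (h : ∀ j, 1 ≤ j → j < s → ∃ i, i % s = j ∧ Good x i) : False := by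
  classical
  obtain ⟨c, hc1, hcs, hc⟩ := spec_ne_one hx hK hne
  have hoc : orderOf c = s := by
    haveI := Fact.mk hs
    exact orderOf_eq_prime hcs hc1
  have hinj : Set.InjOn (fun j => c ^ j) ↑(Finset.Ico 1 s) := fun a ha b hb e => by
    simp only [Finset.coe_Ico, Set.mem_Ico] at ha hb
    exact pow_injOn_Iio_orderOf (by rw [Set.mem_Iio, hoc]; exact ha.2)
      (by rw [Set.mem_Iio, hoc]; exact hb.2) e
  have := spec_card ((Finset.Ico 1 s).image fun j => c ^ j) (x := x) fun d hd => by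
    obtain ⟨j, hj, rfl⟩ := Finset.mem_image.mp hd
    rw [Finset.mem_Ico] at hj
    obtain ⟨i, hi, hg⟩ := h j hj.1 hj.2
    have h1 := hg c hc
    rwa [← pow_mod_orderOf, hoc, hi] at h1
  rw [Finset.card_image_of_injOn hinj, Nat.card_Ico] at this
  omega

section Lift

variable {P : Subgroup (GL (Fin 3) K)} {T : Type*} [Group T] {π : P →* T}

theorem ker_pow_three (hSL : InSL P) (hker : ∀ x, π x = 1 ↔ IsSc (x : GL (Fin 3) K)) {x : P}
    (h : π x = 1) : x ^ 3 = 1 :=
  Subtype.ext (by rw [Subgroup.coe_pow, sc_pow_three hSL x.2 ((hker x).mp h)]; rfl)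

theorem ker_commute (hker : ∀ x, π x = 1 ↔ IsSc (x : GL (Fin 3) K)) {z : P}
    (h : π z = 1) (x : P) : Commute z x :=
  Subtype.ext (sc_commute ((hker z).mp h) (x : GL (Fin 3) K)).eq

/-- An element of order prime to three lifts, compatibly with conjugation to powers. -/
theorem exists_lift (hSL : InSL P) (hker : ∀ x, π x = 1 ↔ IsSc (x : GL (Fin 3) K)) {y : T}
    (hy : y ∈ π.range) {s : ℕ} (hs : s % 3 ≠ 0) (hys : y ^ s = 1) :
    ∃ X : P, π X = y ∧ X ^ s = 1 ∧
      ∀ (W : P) (j : ℕ), π W * y * (π W)⁻¹ = y ^ j → W * X * W⁻¹ = X ^ j := by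
  obtain ⟨x, rfl⟩ := hy
  obtain ⟨d, hd⟩ : 3 ∣ 2 * (s * s) + 1 := by
    rcases (by omega : s % 3 = 1 ∨ s % 3 = 2) with e | e <;>
      · refine Nat.dvd_of_mod_eq_zero ?_
        rw [Nat.add_mod, Nat.mul_mod, Nat.mul_mod s s, e]
  refine ⟨x ^ (2 * (s * s) + 1), ?_, ?_, fun W j hW => ?_⟩
  · rw [map_pow, pow_succ, pow_mul, pow_mul, ← pow_mul _ 2 s, mul_comm 2 s, pow_mul, hys, one_pow,
      one_pow, one_mul]
  · rw [← pow_mul, mul_comm _ s, pow_mul, hd, pow_mul,
      ker_pow_three hSL hker (x := x ^ s) (by rw [map_pow, hys]), one_pow]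
  · have hz : π (W * x * W⁻¹ * (x ^ j)⁻¹) = 1 := by
      rw [map_mul, map_mul, map_mul, map_inv, map_inv, map_pow, hW, mul_inv_cancel]
    have he : W * x * W⁻¹ = (W * x * W⁻¹ * (x ^ j)⁻¹) * x ^ j := by rw [inv_mul_cancel_right]
    rw [← conj_pow, he, (ker_commute hker hz _).mul_pow, hd, pow_mul,
      ker_pow_three hSL hker hz, one_pow, one_mul, ← pow_mul, ← pow_mul, mul_comm]

end Lift

end Cfsg.Agent.Lib.Mitchell3
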