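import Cfsg.Agent.Lib.Mitchell3.Reduce
import Cfsg.Agent.Lib.Mitchell3.Spectrum
import Cfsg.Agent.Lib.DicksonId.Classify
import Cfsg.Agent.Lib.FpfLinear.Perfect
import Cfsg.Agent.Lib.Linear.SmallIso.PSL5

/-!
Mitchell package: subgroups fixing a point or a line of the projective plane, without abelian normal
subgroups.
-/

set_option autoImplicit false
set_option linter.unusedSectionVars false
set_option linter.style.haveILetI false

namespace Cfsg.Agent.Lib.Mitchell3

open Matrix Module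
open Cfsg.Agent.Lib.PrimeDim.Basic
open scoped commutatorElement

variable {F : Type*} [Field F]

theorem exists_gl_col {v : Fin 3 → F} (hv : v ≠ 0) :
    ∃ h : GL (Fin 3) F, ∀ i, (h : Matrix (Fin 3) (Fin 3) F) i 0 = v i := by
  obtain ⟨M, hM, hd⟩ : ∃ M : Matrix (Fin 3) (Fin 3) F, (∀ i, M i 0 = v i) ∧ M.det ≠ 0 := by
    by_cases h0 : v 0 ≠ 0
    · refine ⟨!![v 0, 0, 0; v 1, 1, 0; v 2, 0, 1], fun i => by fin_cases i <;> simp, ?_⟩
      simpa [Matrix.det_fin_three] using h0
    by_cases h1 : v 1 ≠ 0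
    · refine ⟨!![v 0, 1, 0; v 1, 0, 0; v 2, 0, 1], fun i => by fin_cases i <;> simp, ?_⟩
      simpa [Matrix.det_fin_three] using h1
    push Not at h0 h1
    refine ⟨!![v 0, 1, 0; v 1, 0, 1; v 2, 0, 0], fun i => by fin_cases i <;> simp, ?_⟩
    have h2 : v 2 ≠ 0 := fun e => hv (funext fun i => by fin_cases i <;> assumption)
    simpa [Matrix.det_fin_three] using h2
  exact ⟨Matrix.GeneralLinearGroup.mkOfDetNeZero M hd, hM⟩

theorem exists_gl_row {v : Fin 3 → F} (hv : v ≠ 0) :
    ∃ h : GL (Fin 3) F, ∀ j, (h : Matrix (Fin 3) (Fin 3) F) 0 j = v j := by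
  obtain ⟨h, hh⟩ := exists_gl_col hv
  refine ⟨Matrix.GeneralLinearGroup.mkOfDetNeZero (h : Matrix (Fin 3) (Fin 3) F)ᵀ (by
    rw [det_transpose]; exact (Matrix.isUnit_iff_isUnit_det _).mp h.isUnit |>.ne_zero), fun j => ?_⟩
  exact hh j

/-- `M` fixes the first point or the first line. -/
def TriC (M : Matrix (Fin 3) (Fin 3) F) : Prop := M 1 0 = 0 ∧ M 2 0 = 0

/-- The dual condition. -/
def TriR (M : Matrix (Fin 3) (Fin 3) F) : Prop := M 0 1 = 0 ∧ M 0 2 = 0

theorem exists_tri [Finite F] {P : Subgroup (GL (Fin 3) F)} (hirr : ¬ Irred P) :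
    ∃ g : GL (Fin 3) F, (∀ x ∈ P, TriC ((g * x * g⁻¹ : GL (Fin 3) F) : Matrix (Fin 3) (Fin 3) F)) ∨
      (∀ x ∈ P, TriR ((g * x * g⁻¹ : GL (Fin 3) F) : Matrix (Fin 3) (Fin 3) F)) := by
  simp only [Irred, not_forall, not_or] at hirr
  obtain ⟨W, hW, hW0, hW1⟩ := hirr
  have hlt := Submodule.finrank_lt hW1
  rw [finrank_fin_fun] at hlt
  have hpos : finrank F W ≠ 0 := fun e => hW0 (Submodule.finrank_eq_zero.mp e)
  rcases (by omega : finrank F W = 1 ∨ finrank F W = 2) with h | h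
  · obtain ⟨v, hv, hv0⟩ := Submodule.exists_mem_ne_zero_of_ne_bot hW0
    have hWs : W = Submodule.span F {v} := (Submodule.eq_of_le_of_finrank_le
      ((Submodule.span_singleton_le_iff_mem v W).mpr hv) (by rw [h, finrank_span_singleton hv0])).symm
    obtain ⟨g, hg⟩ := exists_gl_col hv0
    refine ⟨g⁻¹, Or.inl fun x hx => ?_⟩
    obtain ⟨c, hc⟩ := Submodule.mem_span_singleton.mp (hWs ▸ hW x hx v hv)
    have hge : (g : Matrix (Fin 3) (Fin 3) F) *ᵥ Pi.single 0 1 = v := funext fun i => by simp [hg i]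
    have he : ((g⁻¹ * x * g⁻¹⁻¹ : GL (Fin 3) F) : Matrix (Fin 3) (Fin 3) F) *ᵥ Pi.single 0 1 =
        c • Pi.single 0 1 := by
      rw [inv_inv, Units.val_mul, Units.val_mul, ← mulVec_mulVec, ← mulVec_mulVec, hge, ← hc, mulVec_smul,
        ← hge, mulVec_mulVec, ← Units.val_mul, inv_mul_cancel, Units.val_one, one_mulVec]
    have h1 := congrFun he 1
    have h2 := congrFun he 2
    simp at h1 h2
    exact ⟨by simpa using h1, by simpa using h2⟩
  · obtain ⟨v, -, hv⟩ := SetLike.exists_of_lt ((lt_top_iff_ne_top (a := W)).mpr hW1)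
    obtain ⟨φ, hφW, hφv⟩ := Subspaces.Transvection.exists_functional hv
    have hφ0 : φ ≠ 0 := fun e => by simp [e] at hφv
    have hsup : W ⊔ Submodule.span F {v} = ⊤ := by
      refine Submodule.eq_top_of_finrank_eq (le_antisymm (Submodule.finrank_le _) ?_)
      rw [finrank_fin_fun]
      have : W < W ⊔ Submodule.span F {v} := lt_of_le_of_ne le_sup_left fun e => hv
        (e ▸ Submodule.mem_sup_right (Submodule.mem_span_singleton_self v))
      have := Submodule.finrank_lt_finrank_of_lt this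
      omega
    obtain ⟨g, hg⟩ := exists_gl_row hφ0
    refine ⟨g, Or.inr fun x hx => ?_⟩
    set X := (x : Matrix (Fin 3) (Fin 3) F)
    have hlin : ∀ y, φ ⬝ᵥ (X *ᵥ y) = (φ ⬝ᵥ (X *ᵥ v)) * (φ ⬝ᵥ y) := fun y => by
      obtain ⟨w, hw, z, hz, rfl⟩ := Submodule.mem_sup.mp (hsup ▸ Submodule.mem_top (x := y))
      obtain ⟨d, rfl⟩ := Submodule.mem_span_singleton.mp hz
      rw [mulVec_add, mulVec_smul, dotProduct_add, dotProduct_add, dotProduct_smul, dotProduct_smul,
        hφW _ (hW x hx w hw), hφW w hw, hφv, smul_eq_mul, smul_eq_mul]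
      ring
    have hrow : ∀ y, (g : Matrix (Fin 3) (Fin 3) F) 0 ⬝ᵥ y = φ ⬝ᵥ y := fun y => by
      simp [dotProduct, hg]
    have he : ∀ y, (((g * x * g⁻¹ : GL (Fin 3) F) : Matrix (Fin 3) (Fin 3) F) *ᵥ y) 0 =
        (φ ⬝ᵥ (X *ᵥ v)) * y 0 := fun y => by
      rw [Units.val_mul, Units.val_mul, ← mulVec_mulVec, ← mulVec_mulVec]
      show (g : Matrix (Fin 3) (Fin 3) F) 0 ⬝ᵥ _ = _
      have hlast : φ ⬝ᵥ (((g⁻¹ : GL (Fin 3) F) : Matrix (Fin 3) (Fin 3) F) *ᵥ y) = y 0 := by
        rw [← hrow]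
        show ((g : Matrix (Fin 3) (Fin 3) F) *ᵥ (((g⁻¹ : GL (Fin 3) F) : Matrix (Fin 3) (Fin 3) F) *ᵥ y)) 0 = y 0
        rw [mulVec_mulVec, ← Units.val_mul, mul_inv_cancel, Units.val_one, one_mulVec]
      rw [hrow, hlin, hlast]
    have h1 := he (Pi.single 1 1)
    have h2 := he (Pi.single 2 1)
    simp at h1 h2
    exact ⟨by simpa using h1, by simpa using h2⟩

/-- The lower block. -/
def blk (M : Matrix (Fin 3) (Fin 3) F) : Matrix (Fin 2) (Fin 2) F := M.submatrix Fin.succ Fin.succ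

theorem blk_mul {M N : Matrix (Fin 3) (Fin 3) F} (h : (TriC M ∧ TriC N) ∨ (TriR M ∧ TriR N)) :
    blk (M * N) = blk M * blk N ∧ (M * N) 0 0 = M 0 0 * N 0 0 := by
  rcases h with ⟨⟨a1, a2⟩, b1, b2⟩ | ⟨⟨a1, a2⟩, b1, b2⟩ <;>
    refine ⟨?_, by simp [Matrix.mul_apply, Fin.sum_univ_three, a1, a2, b1, b2]⟩ <;>
    ext i j <;> fin_cases i <;> fin_cases j <;>
    simp [blk, Matrix.mul_apply, Fin.sum_univ_three, Fin.sum_univ_two, a1, a2, b1, b2]

theorem translation_comm {M N : Matrix (Fin 3) (Fin 3) F} (h : (TriC M ∧ TriC N) ∨ (TriR M ∧ TriR N))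
    (hM : blk M = 1) (hN : blk N = 1) (hM0 : M 0 0 = 1) (hN0 : N 0 0 = 1) : M * N = N * M := by
  have m := fun i j => congrFun (congrFun hM i) j
  have n := fun i j => congrFun (congrFun hN i) j
  have m11 := m 0 0; have m12 := m 0 1; have m21 := m 1 0; have m22 := m 1 1
  have n11 := n 0 0; have n12 := n 0 1; have n21 := n 1 0; have n22 := n 1 1
  simp [blk] at m11 m12 m21 m22 n11 n12 n21 n22
  rcases h with ⟨⟨a1, a2⟩, b1, b2⟩ | ⟨⟨a1, a2⟩, b1, b2⟩ <;>
    ext i j <;> fin_cases i <;> fin_cases j <;>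
    simp [Matrix.mul_apply, Fin.sum_univ_three, a1, a2, b1, b2, hM0, hN0, m11, m12, m21, m22, n11, n12,
      n21, n22] <;> exact add_comm _ _

/-- A reducible group without abelian normal subgroups embeds projectively in `PGL(2, F)`. -/
theorem exists_pgl [Finite F] {P : Subgroup (GL (Fin 3) F)} (hirr : ¬ Irred P) {H : Type*} [Group H]
    (f : P →* H) (hf : Function.Surjective f) (hker : ∀ x, f x = 1 ↔ IsSc (x : GL (Fin 3) F))
    (hab : ∀ N : Subgroup H, N.Normal → (∀ x ∈ N, ∀ y ∈ N, x * y = y * x) → N = ⊥) :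
    ∃ ψ : H →* Matrix.ProjGenLinGroup (Fin 2) F, Function.Injective ψ := by
  obtain ⟨g, hg⟩ := exists_tri hirr
  let ι : P →* GL (Fin 3) F := (MulAut.conj g).toMonoidHom.comp P.subtype
  have hι : ∀ x y : P, (TriC (ι x : Matrix (Fin 3) (Fin 3) F) ∧ TriC (ι y : Matrix (Fin 3) (Fin 3) F)) ∨
      (TriR (ι x : Matrix (Fin 3) (Fin 3) F) ∧ TriR (ι y : Matrix (Fin 3) (Fin 3) F)) := fun x y => by
    rcases hg with h | h
    · exact Or.inl ⟨h _ x.2, h _ y.2⟩
    · exact Or.inr ⟨h _ x.2, h _ y.2⟩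
  let B : P →* GL (Fin 2) F := MonoidHom.toHomUnits
    { toFun := fun x => blk (ι x : Matrix (Fin 3) (Fin 3) F)
      map_one' := by
        simp only [map_one, Units.val_one]
        ext i j
        fin_cases i <;> fin_cases j <;> simp [blk]
      map_mul' := fun x y => by rw [map_mul, Units.val_mul]; exact (blk_mul (hι x y)).1 }
  let lam : P →* Fˣ := MonoidHom.toHomUnits
    { toFun := fun x => (ι x : Matrix (Fin 3) (Fin 3) F) 0 0
      map_one' := by simp
      map_mul' := fun x y => by rw [map_mul, Units.val_mul]; exact (blk_mul (hι x y)).2 }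
  have hBc : ∀ z : P, f z = 1 → B z ∈ Subgroup.center (GL (Fin 2) F) := by
    intro z hz
    obtain ⟨c, hc⟩ := (hker z).mp hz
    rw [Subgroup.mem_center_iff]
    intro y
    refine Units.ext ?_
    have e : ((B z : GL (Fin 2) F) : Matrix (Fin 2) (Fin 2) F) = c • 1 := by
      show blk (ι z : Matrix (Fin 3) (Fin 3) F) = _
      have hz' : ι z = z := by
        show g * (z : GL (Fin 3) F) * g⁻¹ = z
        rw [← (sc_commute ((hker z).mp hz) g).eq, mul_inv_cancel_right]
      rw [hz', hc]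
      ext i j
      fin_cases i <;> fin_cases j <;> simp [blk]
    rw [Units.val_mul, Units.val_mul, e]
    simp
  -- the kernel
  set K0 : Subgroup P := (Subgroup.center (GL (Fin 2) F)).comap B with hK0
  have hM0 : K0.map f = ⊥ := by
    haveI : K0.Normal := inferInstance
    have hn : (K0.map f).Normal := Subgroup.Normal.map inferInstance f hf
    haveI := hn
    have hD : ⁅K0.map f, K0.map f⁆ = ⊥ := by
      refine hab _ inferInstance ?_
      rw [← Subgroup.map_commutator]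
      rintro _ ⟨a, ha, rfl⟩ _ ⟨b, hb, rfl⟩
      rw [← map_mul, ← map_mul]
      congr 1
      have hle : ⁅K0, K0⁆ ≤ B.ker ⊓ lam.ker := by
        rw [Subgroup.commutator_le]
        intro x hx y hy
        refine Subgroup.mem_inf.mpr ⟨?_, ?_⟩
        · rw [MonoidHom.mem_ker, map_commutatorElement, commutatorElement_eq_one_iff_mul_comm]
          exact ((Subgroup.mem_center_iff.mp hx) (B y)).symm
        · rw [MonoidHom.mem_ker, map_commutatorElement, commutatorElement_eq_one_iff_mul_comm]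
          exact mul_comm _ _
      have hιinj : Function.Injective ι := fun x y e => Subtype.ext ((MulAut.conj g).injective e)
      apply hιinj
      rw [map_mul, map_mul]
      refine Units.ext ?_
      rw [Units.val_mul, Units.val_mul]
      exact translation_comm (hι a b) (congrArg Units.val (MonoidHom.mem_ker.mp (hle ha).1))
        (congrArg Units.val (MonoidHom.mem_ker.mp (hle hb).1))
        (congrArg Units.val (MonoidHom.mem_ker.mp (hle ha).2))
        (congrArg Units.val (MonoidHom.mem_ker.mp (hle hb).2))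
    refine hab _ hn fun x hx y hy => commutatorElement_eq_one_iff_mul_comm.mp ?_
    have h1 := Subgroup.commutator_mem_commutator hx hy
    rwa [hD, Subgroup.mem_bot] at h1
  let B' : P →* Matrix.ProjGenLinGroup (Fin 2) F := Matrix.ProjGenLinGroup.mk.comp B
  refine ⟨MonoidHom.liftOfSurjective f hf ⟨B', fun z hz => ?_⟩, ?_⟩
  · exact Matrix.ProjGenLinGroup.mk_eq_one.mpr (hBc z hz)
  · refine (injective_iff_map_eq_one _).mpr fun h hh => ?_
    obtain ⟨x, rfl⟩ := hf h
    erw [MonoidHom.liftOfRightInverse_comp_apply] at hh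
    have : f x ∈ K0.map f := ⟨x, Matrix.ProjGenLinGroup.mk_eq_one.mp hh, rfl⟩
    rwa [hM0, Subgroup.mem_bot] at this

/-- `A₅` needs `q ≡ ±1 (mod 10)` in characteristic different from five. -/
theorem five_mod [Fintype F] {p α : ℕ} [Fact p.Prime] [CharP F p] (hp : p ≠ 5) (hp2 : p ≠ 2)
    (hF : Fintype.card F = p ^ α) {P : Subgroup (GL (Fin 3) F)} (hSL : InSL P) {H : Type*} [Group H]
    (f : P →* H) (hf : Function.Surjective f) (hker : ∀ x, f x = 1 ↔ IsSc (x : GL (Fin 3) F))
    (e : H ≃* alternatingGroup (Fin 5)) : p ^ α % 10 = 1 ∨ p ^ α % 10 = 9 := by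
  classical
  let π : P →* alternatingGroup (Fin 5) := e.toMonoidHom.comp f
  have hπ : Function.Surjective π := e.surjective.comp hf
  have hk : ∀ x, π x = 1 ↔ IsSc (x : GL (Fin 3) F) := fun x => by
    rw [← hker]; exact e.map_eq_one_iff
  let y : alternatingGroup (Fin 5) := ⟨c[0, 1, 2, 3, 4], by rw [Equiv.Perm.mem_alternatingGroup]; decide⟩
  let w : alternatingGroup (Fin 5) := ⟨c[1, 4] * c[2, 3], by rw [Equiv.Perm.mem_alternatingGroup]; decide⟩
  have hy : y ^ 5 = 1 := Subtype.ext (by rw [Subgroup.coe_pow]; exact Equiv.ext (by decide +kernel))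
  obtain ⟨X, hXy, hX5, hXc⟩ := exists_lift (π := π) hSL hk (y := y) (hπ y) (s := 5) (by norm_num) hy
  obtain ⟨W, hW⟩ := hπ w
  have hW4 := hXc W 4 (by rw [hW]; exact Subtype.ext (Equiv.ext (by decide +kernel)))
  set K := AlgebraicClosure F
  haveI : CharP K p := charP_of_injective_algebraMap (algebraMap F K).injective p
  set x := baseChange K (X : GL (Fin 3) F) with hx
  have hx5 : x ^ 5 = 1 := by rw [hx, ← map_pow, ← Subgroup.coe_pow, hX5, Subgroup.coe_one, map_one]
  have hxne : x ≠ 1 := fun e1 => by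
    have : X = 1 := Subtype.ext (baseChange_injective K (by rw [← hx, e1, Subgroup.coe_one, map_one]))
    rw [this, map_one] at hXy
    exact absurd (congrArg (fun z : alternatingGroup (Fin 5) => (z : Equiv.Perm (Fin 5)) 0) hXy.symm) (by decide)
  have g4 : Good x 4 := by
    refine good_of_conj (g := baseChange K (W : GL (Fin 3) F)) ?_
    rw [hx, ← map_inv, ← map_mul, ← map_mul, ← map_pow]
    exact congrArg (baseChange K) (by simpa using congrArg (fun z : P => (z : GL (Fin 3) F)) hW4)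
  have gq : Good x (p ^ α) := good_frob (p := p) (α := α) fun i j => baseChange_fix hF _ i j
  have h5K : ((5 : ℕ) : K) ≠ 0 := fun e1 => hp ((Nat.prime_dvd_prime_iff_eq (Fact.out : p.Prime)
    (by norm_num)).mp ((CharP.cast_eq_zero_iff K p 5).mp e1))
  have hne : p ^ α % 5 ≠ 2 ∧ p ^ α % 5 ≠ 3 := by
    have key : ¬ (p ^ α % 5 = 2 ∨ p ^ α % 5 = 3) := fun hk23 => by
      refine not_all_good (by norm_num : Nat.Prime 5) le_rfl h5K hx5 hxne fun j hj1 hj5 => ?_
      interval_cases j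
      · exact ⟨4 * 4, by norm_num, g4.mul g4⟩
      · rcases hk23 with e1 | e1
        · exact ⟨_, e1, gq⟩
        · exact ⟨4 * p ^ α, by omega, g4.mul gq⟩
      · rcases hk23 with e1 | e1
        · exact ⟨4 * p ^ α, by omega, g4.mul gq⟩
        · exact ⟨_, e1, gq⟩
      · exact ⟨4, by norm_num, g4⟩
    exact ⟨fun e1 => key (Or.inl e1), fun e1 => key (Or.inr e1)⟩
  have hodd : p ^ α % 2 = 1 := Nat.odd_iff.mp ((Fact.out : p.Prime).odd_of_ne_two hp2).pow
  have hq0 : p ^ α % 5 ≠ 0 := fun e1 => hp ((Nat.prime_dvd_prime_iff_eq (by norm_num)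
    (Fact.out : p.Prime)).mp ((by norm_num : Nat.Prime 5).dvd_of_dvd_pow (Nat.dvd_of_mod_eq_zero e1))).symm
  omega

/-- Reducible subgroups without abelian normal subgroups. -/
theorem reducible_cases [Fintype F] {p α : ℕ} [Fact p.Prime] [CharP F p] (hp : p ≠ 2) (hα : α ≠ 0)
    (hF : Fintype.card F = p ^ α) {P : Subgroup (GL (Fin 3) F)} (hSL : InSL P) (hirr : ¬ Irred P)
    {H : Type*} [Group H] [Finite H] [Nontrivial H] (f : P →* H) (hf : Function.Surjective f)
    (hker : ∀ x, f x = 1 ↔ IsSc (x : GL (Fin 3) F))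
    (hab : ∀ N : Subgroup H, N.Normal → (∀ x ∈ N, ∀ y ∈ N, x * y = y * x) → N = ⊥) :
    (∃ (K : Type) (_ : Field K) (_ : Fintype K) (β : ℕ), Fintype.card K = p ^ β ∧ β ∣ α ∧ p ^ β ≠ 3 ∧
      (Nonempty (H ≃* Matrix.ProjectiveSpecialLinearGroup (Fin 2) K) ∨
        Nonempty (H ≃* (GL (Fin 2) K ⧸ Subgroup.center (GL (Fin 2) K))))) ∨
    ((p ^ α % 10 = 1 ∨ p ^ α % 10 = 9) ∧ ∃ (K : Type) (_ : Field K) (_ : Fintype K),
      Fintype.card K = 5 ∧ Nonempty (H ≃* Matrix.ProjectiveSpecialLinearGroup (Fin 2) K)) := by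
  classical
  have hpp : p.Prime := Fact.out
  obtain ⟨ψ, hψ⟩ := exists_pgl hirr f hf hker hab
  haveI : Fintype (GaloisField p (α * 2)) := Fintype.ofFinite _
  have hF2 : Fintype.card (GaloisField p (α * 2)) = p ^ (α * 2) := by
    rw [← Nat.card_eq_fintype_card, GaloisField.card p _ (by omega)]
  obtain ⟨j⟩ := DicksonFull.exists_ringHom (K := F) (F := GaloisField p (α * 2)) hF hF2
  haveI : CharP (GaloisField p (α * 2)) p := inferInstance
  have hj : ∀ a : F, IsSquare (j a) := by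
    intro a
    by_cases ha : a = 0
    · rw [ha, map_zero]; exact IsSquare.zero
    have hchar : ringChar (GaloisField p (α * 2)) ≠ 2 := by rw [ringChar.eq _ p]; exact hp
    rw [FiniteField.isSquare_iff hchar (by simpa using ha), hF2]
    obtain ⟨m, hm⟩ := (hpp.odd_of_ne_two hp).pow (n := α)
    have : p ^ (α * 2) / 2 = (p ^ α - 1) * (m + 1) := by
      rw [pow_mul, hm, show (2 * m + 1) ^ 2 = 2 * (2 * m * (m + 1)) + 1 by ring, Nat.add_sub_cancel,
        Nat.mul_add_div (by norm_num)]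
      omega
    rw [this, pow_mul, ← map_pow, ← hF, FiniteField.pow_card_sub_one_eq_one a ha, map_one, one_pow]
  obtain ⟨φ, hφ, -⟩ := DicksonFull.exists_pgl_hom j hj
  set Ψ := φ.comp ψ with hΨdef
  have hΨ : Function.Injective Ψ := hφ.comp hψ
  set G := Ψ.range
  let e : H ≃* G := MonoidHom.ofInjective hΨ
  have habG : ∀ N : Subgroup G, N.Normal → (∀ x ∈ N, ∀ y ∈ N, x * y = y * x) → N = ⊥ := fun N hn hc => by
    have h0 := hab (N.comap e.toMonoidHom) (hn.comap _) fun x hx y hy =>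
      e.injective (by rw [map_mul, map_mul]; exact hc _ hx _ hy)
    rw [eq_bot_iff]
    intro x hx
    have : e.symm x ∈ N.comap e.toMonoidHom := by
      rw [Subgroup.mem_comap]; show e (e.symm x) ∈ N; rwa [e.apply_symm_apply]
    rw [h0, Subgroup.mem_bot] at this
    simpa using congrArg e this
  haveI : Nontrivial G := e.symm.toEquiv.nontrivial
  have hns : ¬ Group.IsSolvable G := not_solvable habG
  have hprime : ∀ (r : ℕ), r.Prime → ∀ N : Subgroup G, N.Normal → Nat.card N ≠ r := fun r hr N hn hc => by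
    haveI := Fact.mk hr
    haveI := isCyclic_of_prime_card hc
    letI : CommGroup N := IsCyclic.commGroup
    have := habG N hn fun x hx y hy => congrArg Subtype.val (mul_comm (⟨x, hx⟩ : N) ⟨y, hy⟩)
    rw [this, Subgroup.card_bot] at hc
    exact hr.ne_one hc.symm
  haveI s4 := FpfLinear.Perfect.solvable_perm_le_four (α := Fin 4) (by simp)
  have ha5 : Nonempty (G ≃* alternatingGroup (Fin 5)) →
      (∃ (K : Type) (_ : Field K) (_ : Fintype K) (β : ℕ), Fintype.card K = p ^ β ∧ β ∣ α ∧ p ^ β ≠ 3 ∧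
        (Nonempty (H ≃* Matrix.ProjectiveSpecialLinearGroup (Fin 2) K) ∨
          Nonempty (H ≃* (GL (Fin 2) K ⧸ Subgroup.center (GL (Fin 2) K))))) ∨
      ((p ^ α % 10 = 1 ∨ p ^ α % 10 = 9) ∧ ∃ (K : Type) (_ : Field K) (_ : Fintype K),
        Fintype.card K = 5 ∧ Nonempty (H ≃* Matrix.ProjectiveSpecialLinearGroup (Fin 2) K)) := fun h5 => by
    obtain ⟨e5⟩ := h5
    obtain ⟨e0⟩ := Linear.SmallIso.nonempty_psl_two_five (F := ZMod 5) (ZMod.card 5)
    haveI : Fact (Nat.Prime 5) := ⟨by norm_num⟩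
    by_cases hp5 : p = 5
    · subst hp5
      exact Or.inl ⟨ZMod 5, inferInstance, inferInstance, 1, by rw [ZMod.card, pow_one], one_dvd _, by norm_num,
        Or.inl ⟨(e.trans e5).trans e0.symm⟩⟩
    · exact Or.inr ⟨five_mod hp5 hp hF hSL f hf hker (e.trans e5), ZMod 5, inferInstance, inferInstance,
        ZMod.card 5, ⟨(e.trans e5).trans e0.symm⟩⟩
  have h12 : Nat.card G ≠ 12 := fun h => by
    obtain ⟨e4⟩ := DicksonId.nonempty_alt_four h (fun N hn => hprime 3 Nat.prime_three N hn)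
      (fun N hn => hprime 2 Nat.prime_two N hn)
    exact hns (Group.isSolvable_of_isSolvable_injective
      (f := (alternatingGroup (Fin 4)).subtype.comp e4.toMonoidHom)
      ((alternatingGroup (Fin 4)).subtype_injective.comp e4.injective))
  have hS4 : ¬ Nonempty (G ≃* Equiv.Perm (Fin 4)) := fun ⟨e4⟩ =>
    hns (Group.isSolvable_of_isSolvable_injective (f := e4.toMonoidHom) e4.injective)
  by_cases hpG : p ∣ Nat.card G
  swap
  · rcases psl_two_cases (fun s => ⟨⊤, inferInstance, by simp⟩) hp G hpG with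
      ⟨C, hC, hi⟩ | h | h | h
    · exfalso
      have hn : C.Normal := by
        rcases (by have := C.index_ne_zero_of_finite; omega : C.index = 1 ∨ C.index = 2) with h1 | h1
        · rw [Subgroup.index_eq_one.mp h1]; infer_instance
        · exact Subgroup.normal_of_index_eq_two h1
      haveI := hC
      letI : CommGroup C := IsCyclic.commGroup
      have hb := habG C hn fun x hx y hy => congrArg Subtype.val (mul_comm (⟨x, hx⟩ : C) ⟨y, hy⟩)
      rw [hb, Subgroup.index_bot] at hi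
      have h2 : Nat.card G = 2 := le_antisymm hi Finite.one_lt_card
      exact hprime 2 Nat.prime_two ⊤ inferInstance (by rw [Subgroup.card_top, h2])
    · exact absurd h h12
    · exact ha5 (DicksonId.nonempty_alt_five h (fun N hn => hprime 5 (by norm_num) N hn)
        (fun N hn => hprime 2 Nat.prime_two N hn))
    · exact absurd h hS4
  rcases DicksonId.classify (p := p) G with ⟨-, h⟩ | ⟨k, hk, -, ⟨ek⟩⟩ | ⟨Q, hQ⟩ | ⟨h, -⟩ | ⟨h, -⟩ | ⟨-, h⟩ |
    ⟨k, hk0, -, hkf, g, φk, hgk⟩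
  · exact absurd hpG h
  · exfalso
    rw [Nat.card_congr ek.toEquiv, DihedralGroup.nat_card] at hpG
    rcases hpp.dvd_mul.mp hpG with h | h
    · exact hp ((Nat.prime_dvd_prime_iff_eq hpp Nat.prime_two).mp h)
    · exact hk h
  · exfalso
    set A : Subgroup G := (Q : Subgroup (Matrix.ProjectiveSpecialLinearGroup (Fin 2) (GaloisField p (α * 2)))).subgroupOf G
    have hA : A.Normal := ⟨fun x hx y => by
      rw [Subgroup.mem_subgroupOf] at hx ⊢
      exact (Subgroup.mem_normalizer_iff.mp (hQ y.2) _).mp hx⟩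
    have hAp : IsPGroup p A := Q.isPGroup'.comap_subtype
    obtain ⟨z, hz⟩ := exists_prime_orderOf_dvd_card' p hpG
    have hzA : z ∈ A := by
      rw [Subgroup.mem_subgroupOf]
      have hzp : IsPGroup p (Subgroup.zpowers ((z : G) : Matrix.ProjectiveSpecialLinearGroup (Fin 2) (GaloisField p (α * 2)))) :=
        IsPGroup.of_card (n := 1) (by rw [Nat.card_zpowers, Subgroup.orderOf_coe, hz, pow_one])
      have hle : Subgroup.zpowers ((z : G) : Matrix.ProjectiveSpecialLinearGroup (Fin 2) (GaloisField p (α * 2))) ≤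
          Subgroup.normalizer ((Q : Subgroup (Matrix.ProjectiveSpecialLinearGroup (Fin 2) (GaloisField p (α * 2)))) : Set _) := by
        rw [Subgroup.zpowers_le]; exact hQ z.2
      have hsup := hzp.to_sup_of_normal_right' Q.isPGroup' hle
      have heq := Q.is_maximal' hsup le_sup_right
      exact heq ▸ Subgroup.mem_sup_left (Subgroup.mem_zpowers _)
    haveI : Nontrivial A := ⟨⟨⟨z, hzA⟩, 1, fun e1 => by
      rw [show z = 1 from congrArg Subtype.val e1, orderOf_one] at hz; exact hpp.ne_one hz.symm⟩⟩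
    haveI := hA
    haveI := hAp.center_nontrivial
    have hb := habG ((Subgroup.center A).map A.subtype) inferInstance fun x hx y hy => by
      obtain ⟨a, ha, rfl⟩ := hx
      obtain ⟨b, -, rfl⟩ := hy
      exact congrArg A.subtype ((Subgroup.mem_center_iff.mp ha) b).symm
    rw [Subgroup.map_eq_bot_iff_of_injective _ A.subtype_injective] at hb
    exact (Subgroup.nontrivial_iff_ne_bot _).mp inferInstance hb
  · exact absurd hpG h
  · exact absurd hpG h
  · exact ha5 h
  haveI : Fintype (GaloisField p k) := Fintype.ofFinite _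
  have hKc : Fintype.card (GaloisField p k) = p ^ k := by
    rw [← Nat.card_eq_fintype_card, GaloisField.card p _ hk0.ne']
  have hodd : Odd (Fintype.card (GaloisField p k)) := by rw [hKc]; exact (hpp.odd_of_ne_two hp).pow
  have hdist : Nonempty (H ≃* Matrix.ProjectiveSpecialLinearGroup (Fin 2) (GaloisField p k)) ∨
      Nonempty (H ≃* Matrix.ProjGenLinGroup (Fin 2) (GaloisField p k)) := by
    rcases hgk with hgk | ⟨-, -, ψk, hψk, hgk⟩
    · exact Or.inl ⟨(e.trans (DicksonId.conjGEquiv g G)).trans ((MulEquiv.subgroupCongr hgk).trans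
        (MonoidHom.ofInjective (DicksonFull.pslExt_injective φk)).symm)⟩
    · exact Or.inr ⟨(e.trans (DicksonId.conjGEquiv g G)).trans ((MulEquiv.subgroupCongr hgk).trans
        (MonoidHom.ofInjective hψk.injective).symm)⟩
  have hcardPSL := Linear.two_mul_card_PSL_two_of_odd (F := GaloisField p k) hodd
  have hcardPGL := Linear.card_PGL_eq_card_SL (ι := Fin 2) (F := GaloisField p k)
  rw [Linear.card_SL_two, hKc] at hcardPGL
  rw [hKc] at hcardPSL
  -- both cases: the order
  have hord : ∃ c : ℕ, (c = 1 ∨ c = 2) ∧ 2 * Nat.card G = c * (p ^ k * (p ^ k - 1) * (p ^ k + 1)) := by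
    rcases hdist with h' | h' <;> obtain ⟨e'⟩ := h'
    · exact ⟨1, Or.inl rfl, by rw [← Nat.card_congr e.toEquiv, Nat.card_congr e'.toEquiv, one_mul, hcardPSL]⟩
    · exact ⟨2, Or.inr rfl, by rw [← Nat.card_congr e.toEquiv, Nat.card_congr e'.toEquiv, hcardPGL]⟩
  have h3 : p ^ k ≠ 3 := by
    intro h3
    obtain ⟨c, hc, hcc⟩ := hord
    rw [h3] at hcc
    rcases hc with rfl | rfl
    · exact h12 (by omega)
    · exact hS4 (DicksonId.nonempty_perm_four (by omega) (fun N hn => hprime 3 Nat.prime_three N hn)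
        (fun N hn => hprime 2 Nat.prime_two N hn))
  refine Or.inl ⟨GaloisField p k, inferInstance, inferInstance, k, hKc, ?_, h3, hdist⟩
  -- the degree divides
  by_contra hkα
  have hk2 : k ∣ α * 2 := hkf _ hF2
  obtain ⟨c, hc, hcc⟩ := hord
  have hdiv : Nat.card G ∣ p ^ α * (p ^ α - 1) * (p ^ α + 1) := by
    rw [← Nat.card_congr e.toEquiv, ← hF, ← Linear.card_SL_two, ← Linear.card_PGL_eq_card_SL,
      Nat.card_congr (MonoidHom.ofInjective hψ).toEquiv]
    exact Subgroup.card_subgroup_dvd_card _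
  -- `p ^ k + 1` divides `2 (q² - 1)`
  have hsq : ∀ m : ℕ, (m - 1) * (m + 1) = m ^ 2 - 1 := fun m => by
    have h := Nat.sq_sub_sq m 1
    rw [one_pow] at h
    rw [h, mul_comm]
  have h1 : p ^ k + 1 ∣ 2 * (p ^ α * ((p ^ α) ^ 2 - 1)) := by
    rw [← hsq, ← mul_assoc (p ^ α)]
    refine dvd_trans ?_ (Nat.mul_dvd_mul_left 2 hdiv)
    rw [hcc]
    exact (dvd_mul_left _ _).trans (dvd_mul_left _ _)
  have hcop : Nat.Coprime (p ^ k + 1) (p ^ α) := by
    refine Nat.Coprime.pow_right _ (Nat.coprime_comm.mp (hpp.coprime_iff_not_dvd.mpr fun hd => ?_))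
    have : p ∣ 1 := (Nat.dvd_add_right (dvd_pow_self p hk0.ne')).mp hd
    exact hpp.not_dvd_one this
  have h2 : p ^ k + 1 ∣ 2 * (p ^ (2 * α) - 1) := by
    rw [show 2 * (p ^ α * ((p ^ α) ^ 2 - 1)) = p ^ α * (2 * ((p ^ α) ^ 2 - 1)) by ring] at h1
    have := hcop.dvd_of_dvd_mul_left h1
    rwa [← pow_mul, mul_comm α 2] at this
  have h4 : p ^ k + 1 ∣ 2 * (p ^ (2 * k) - 1) := by
    refine (dvd_mul_left _ 2).trans (Nat.mul_dvd_mul_left 2 ?_)
    rw [mul_comm 2 k, pow_mul, ← hsq]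
    exact dvd_mul_left _ _
  have hg : Nat.gcd (2 * α) (2 * k) = k := by
    have hgk : Nat.gcd α k ∣ k := Nat.gcd_dvd_right _ _
    obtain ⟨d, hd⟩ := hgk
    have hk2' : k ∣ 2 * Nat.gcd α k := by
      rw [← Nat.gcd_mul_left]
      exact Nat.dvd_gcd (by rwa [mul_comm]) (dvd_mul_left k 2)
    rw [Nat.gcd_mul_left]
    have hd2 : d ∣ 2 := by
      nth_rw 1 [hd] at hk2'
      rw [mul_comm 2] at hk2'
      exact Nat.dvd_of_mul_dvd_mul_left (Nat.gcd_pos_of_pos_right α hk0) hk2'
    rcases (Nat.dvd_prime Nat.prime_two).mp hd2 with rfl | rfl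
    · rw [mul_one] at hd
      exact absurd (hd ▸ Nat.gcd_dvd_left α k) hkα
    · omega
  have h5 := Nat.dvd_gcd h2 h4
  rw [Nat.gcd_mul_left, Nat.pow_sub_one_gcd_pow_sub_one, hg] at h5
  have h6 : p ^ k + 1 ∣ 4 := by
    have h7 : p ^ k + 1 ∣ 2 * (p ^ k + 1) := dvd_mul_left _ _
    have hle : 2 * (p ^ k - 1) ≤ 2 * (p ^ k + 1) := by omega
    have := Nat.dvd_sub h7 h5
    rwa [show 2 * (p ^ k + 1) - 2 * (p ^ k - 1) = 4 by have := Nat.one_le_pow k p hpp.pos; omega] at this
  have hge : 3 ≤ p := by have := hpp.two_le; omega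
  have : p ≤ p ^ k := Nat.le_self_pow hk0.ne' p
  have := Nat.le_of_dvd (by norm_num) h6
  omega

end Cfsg.Agent.Lib.Mitchell3
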