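import Cfsg.Agent.Lib.Mitchell3.CoreOdd
import Cfsg.Agent.Lib.Mitchell3.BigCase

/-!
Mitchell package: consequences of the trace identities for residual cores.
-/

set_option autoImplicit false
set_option linter.unusedSectionVars false
set_option linter.style.haveILetI false

namespace Cfsg.Agent.Lib.Mitchell3

open Matrix

variable {F : Type*} [Field F] [Fintype F] {H P : Subgroup (GL (Fin 3) F)}

/-- The traces of a core generate the field. -/
theorem trace_field (hR : Cfsg.Geo.IsResidualCore H P) (F₀ : Subfield F) (h : ∀ x ∈ P, tr3 x ∈ F₀) :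
    F₀ = ⊤ := by
  by_contra hne
  exact hR.no_subfield F₀ hne (Cfsg.Agent.Lib.Mitchell96.realisable_of_trace hR.absIrred F₀ h)

theorem degree_dvd_core {p α d : ℕ} [Fact p.Prime] [CharP F p] (hF : Fintype.card F = p ^ α)
    (hR : Cfsg.Geo.IsResidualCore H P) (htr : ∀ x ∈ P, tr3 x ^ p ^ d = tr3 x) : α ∣ d :=
  degree_dvd hF (trace_field hR) htr

/-- A twisted self-duality of the traces bounds the degree by two. -/
theorem dvd_two_of_twisted {p α : ℕ} [Fact p.Prime] [CharP F p] (hF : Fintype.card F = p ^ α)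
    (hR : Cfsg.Geo.IsResidualCore H P) (htr : ∀ x ∈ P, tr3 x ^ p = tr3 x⁻¹) : α ∣ 2 :=
  degree_dvd_core hF hR fun x hx => by
    rw [pow_two, pow_mul, htr x hx, htr x⁻¹ (inv_mem hx), inv_inv]

/-- Self-dual traces give an invariant quadratic form. -/
theorem quad_false (hR : Cfsg.Geo.IsResidualCore H P) (h2 : (2 : F) ≠ 0)
    (hnq : ¬ ∃ Q : (Fin 3 → F) → F, Cfsg.Geo.IsNondegenerateQuadraticForm Q ∧
      Cfsg.Geo.FixesQuadForm (Cfsg.Geo.matrixSet P) Q)
    (htr : ∀ x ∈ P, tr3 x⁻¹ = tr3 x) : False :=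
  hnq (Cfsg.Agent.Lib.Mitchell96.quad_of_trace hR.absIrred h2 fun x hx => (htr x hx).symm)

theorem twisted_linear_false {p α : ℕ} [Fact p.Prime] [CharP F p] (hF : Fintype.card F = p ^ α)
    (hR : Cfsg.Geo.IsResidualCore H P) (h2 : (2 : F) ≠ 0)
    (hnq : ¬ ∃ Q : (Fin 3 → F) → F, Cfsg.Geo.IsNondegenerateQuadraticForm Q ∧
      Cfsg.Geo.FixesQuadForm (Cfsg.Geo.matrixSet P) Q)
    (hnu : ¬ ∃ (σ : F ≃+* F) (f : (Fin 3 → F) → (Fin 3 → F) → F), Cfsg.Geo.IsUnitaryForm σ f ∧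
      Cfsg.Geo.FixesForm (Cfsg.Geo.matrixSet P) f)
    (htr : ∀ x ∈ P, tr3 x ^ p = tr3 x⁻¹) : False := by
  rcases (Nat.dvd_prime Nat.prime_two).mp (dvd_two_of_twisted hF hR htr) with rfl | rfl
  · refine quad_false hR h2 hnq fun x hx => ?_
    rw [← htr x hx]
    conv_lhs => rw [← pow_one p, ← hF]
    exact FiniteField.pow_card _
  · obtain ⟨f, hf⟩ := Cfsg.Agent.Lib.Mitchell96.unitary_of_trace hR.absIrred _
      (Cfsg.Agent.Lib.Mitchell96.powQ_ne_refl hF) (Cfsg.Agent.Lib.Mitchell96.powQ_powQ hF) fun x hx => by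
        rw [Cfsg.Agent.Lib.Mitchell96.powQ_apply]
        exact htr x hx
    exact hnu ⟨_, f, hf⟩

end Cfsg.Agent.Lib.Mitchell3
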