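import Cfsg.Agent.Lib.Mitchell3.Spectrum
import Cfsg.Agent.Lib.Mitchell3.PSLTwo

/-!
Mitchell package: the preimage of the root group of a section isomorphic to `PSL(2, r)`.
-/

set_option autoImplicit false
set_option linter.unusedSectionVars false
set_option linter.style.haveILetI false

namespace Cfsg.Agent.Lib.Mitchell3

open Matrix Module
open Cfsg.Agent.Lib.Subspaces.Transvection

variable {K : Type*} [Field K] {P : Subgroup (GL (Fin 3) K)}
variable {E : Type} [Field E] [Fintype E]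

/-- A projective model: `P` acts on `T` with the scalars as kernel, and is defined over `q = p ^ α`
elements. -/
structure Hyp {T : Type*} [Group T] (p α : ℕ) (π : P →* T) : Prop where
  sl : InSL P
  tf : IsTF P
  ker : ∀ x, π x = 1 ↔ IsSc (x : GL (Fin 3) K)
  fix : ∀ x ∈ P, ∀ i j, (x : Matrix (Fin 3) (Fin 3) K) i j ^ p ^ α = (x : Matrix (Fin 3) (Fin 3) K) i j

/-- The commutator. -/
def cm {G : Type*} [Group G] (x y : G) : G := x * y * x⁻¹ * y⁻¹

theorem cm_eq_one {G : Type*} [Group G] {x y : G} : cm x y = 1 ↔ Commute x y := by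
  rw [cm, mul_inv_eq_one, mul_inv_eq_iff_eq_mul]; rfl

theorem cm_inv {G : Type*} [Group G] (x y : G) : (cm x y)⁻¹ = cm y x := by
  simp only [cm]; group

variable {p : ℕ} [Fact p.Prime] [CharP K p] {α : ℕ}

section Gen

variable {T : Type*} [Group T] {π : P →* T} (h : Hyp p α π)
include h

theorem Hyp.central {z : P} (hz : π z = 1) (x : P) : Commute z x := ker_commute h.ker hz x

theorem Hyp.cube {z : P} (hz : π z = 1) : z ^ 3 = 1 := ker_pow_three h.sl h.ker hz

/-- A scalar of `s`-power one is trivial, unless `s = 3 ≠ p`. -/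
theorem Hyp.sc_eq_one {z : P} (hz : π z = 1) {s : ℕ} (hs : s.Prime) (hzs : z ^ s = 1)
    (hbad : s ≠ 3 ∨ s = p) : z = 1 := by
  by_cases h3 : s = 3
  · obtain ⟨c, hc⟩ := (h.ker z).mp hz
    have hsp : s = p := hbad.resolve_left (not_not.mpr h3)
    have hz' : (((z ^ s : P) : GL (Fin 3) K) : Matrix (Fin 3) (Fin 3) K) = c ^ p • 1 := by
      rw [Subgroup.coe_pow, Units.val_pow_eq_pow_val, hc, smul_pow, one_pow, hsp]
    rw [hzs, Subgroup.coe_one, Units.val_one] at hz'
    have hcp : c ^ p = 1 := by simpa using (congrFun (congrFun hz' 0) 0).symm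
    have hc1 : (c - 1) ^ p = 0 := by rw [sub_pow_char, hcp, one_pow, sub_self]
    rw [pow_eq_zero_iff (Fact.out : p.Prime).ne_zero, sub_eq_zero] at hc1
    refine Subtype.ext (Units.ext ?_)
    rw [hc, hc1, one_smul]; rfl
  · have h1 : orderOf z ∣ Nat.gcd 3 s := Nat.dvd_gcd (orderOf_dvd_of_pow_eq_one (h.cube hz))
      (orderOf_dvd_of_pow_eq_one hzs)
    rw [(Nat.coprime_primes Nat.prime_three hs).mpr (Ne.symm h3)] at h1
    exact orderOf_eq_one_iff.mp (Nat.dvd_one.mp h1)

end Gen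

variable {π : P →* MulAut (Matrix.ProjectiveSpecialLinearGroup (Fin 2) E)}

/-- `x` lies over the root group. -/
def IsRoot (π : P →* MulAut (Matrix.ProjectiveSpecialLinearGroup (Fin 2) E)) (x : P) : Prop :=
  ∃ t : E, π x = uE t

theorem IsRoot.mul {x y : P} (hx : IsRoot π x) (hy : IsRoot π y) : IsRoot π (x * y) := by
  obtain ⟨t, ht⟩ := hx; obtain ⟨u, hu⟩ := hy
  exact ⟨t + u, by rw [map_mul, ht, hu, uE_add]⟩

/-- The preimage of the root group is abelian. -/
def AbRoot (π : P →* MulAut (Matrix.ProjectiveSpecialLinearGroup (Fin 2) E)) : Prop :=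
  ∀ x y : P, IsRoot π x → IsRoot π y → Commute x y

variable (h : Hyp p α π)
include h

theorem cm_ker {x y : P} (hx : IsRoot π x) (hy : IsRoot π y) : π (cm x y) = 1 := by
  obtain ⟨t, ht⟩ := hx; obtain ⟨u, hu⟩ := hy
  have hc : uE t * uE u = uE u * uE t := by rw [← uE_add, ← uE_add, add_comm]
  simp only [cm, map_mul, map_inv, ht, hu]
  rw [hc]; group

/-- The preimage is abelian unless `s = 3 ≠ p`. -/
theorem abRoot_of_ne {s : ℕ} [hs : Fact s.Prime] [CharP E s] (hbad : s ≠ 3 ∨ s = p) : AbRoot π := by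
  intro x y hx hy
  have hk := cm_ker h hx hy
  rw [← cm_eq_one]
  refine h.sc_eq_one hk hs.out ?_ hbad
  obtain ⟨u, hu⟩ := hy
  have hys : π (y ^ s) = 1 := by rw [map_pow, hu, uE_pow_char]
  have h1 : cm x y * y = x * y * x⁻¹ := by rw [cm, inv_mul_cancel_right]
  have h2 := congrArg (· ^ s) h1
  simp only [(h.central hk y).mul_pow, conj_pow] at h2
  rw [show x * y ^ s * x⁻¹ = y ^ s by rw [← (h.central hys x).eq, mul_inv_cancel_right]] at h2
  exact mul_eq_right.mp h2

variable (hInn : Cfsg.Inn (Matrix.ProjectiveSpecialLinearGroup (Fin 2) E) ≤ π.range)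
include hInn

theorem exists_rootLift (t : E) : ∃ x : P, π x = uE t := hInn (uE_mem_inn t)

theorem exists_torLift (a : Eˣ) : ∃ x : P, π x = tor a := hInn (tor_mem_inn a)

omit h hInn in
/-- A homomorphic section over the root group. -/
structure Sec (π : P →* MulAut (Matrix.ProjectiveSpecialLinearGroup (Fin 2) E)) where
  S : E → P
  map_add : ∀ t u, S (t + u) = S t * S u
  proj_eq : ∀ t, π (S t) = uE t
  torus : ∀ (b : Eˣ) (W : P), π W = tor b → ∀ t, W * S t * W⁻¹ = S ((b : E) ^ 2 * t)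

theorem nonempty_sec (hab : AbRoot π) {a : Eˣ} (ha : (a : E) ^ 2 ≠ 1) : Nonempty (Sec π) := by
  choose L hL using exists_rootLift h hInn
  obtain ⟨T, hT⟩ := exists_torLift h hInn a
  have he : (a : E) ^ 2 - 1 ≠ 0 := sub_ne_zero_of_ne ha
  -- the commutator with the torus element
  have himg : ∀ (x : P) (t : E), π x = uE t → π (cm T x) = uE (((a : E) ^ 2 - 1) * t) := by
    intro x t hx
    have h1 : uE ((a : E) ^ 2 * t) = uE (((a : E) ^ 2 - 1) * t) * uE t := by
      rw [← uE_add]; congr 1; ring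
    simp only [cm, map_mul, map_inv, hT, hx, tor_uE, h1]
    group
  have hind : ∀ x y : P, π x = π y → cm T x = cm T y := by
    intro x y hxy
    have hz : π (x * y⁻¹) = 1 := by rw [map_mul, map_inv, hxy, mul_inv_cancel]
    have e : x = (x * y⁻¹) * y := (inv_mul_cancel_right x y).symm
    rw [e]
    simp only [cm, _root_.mul_inv_rev]
    have c1 := (h.central hz T).eq
    calc T * (x * y⁻¹ * y) * T⁻¹ * (y⁻¹ * (x * y⁻¹)⁻¹)
        = (T * (x * y⁻¹)) * (y * T⁻¹ * y⁻¹) * (x * y⁻¹)⁻¹ := by group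
      _ = (x * y⁻¹) * (T * y * T⁻¹ * y⁻¹) * (x * y⁻¹)⁻¹ := by rw [← c1]; group
      _ = T * y * T⁻¹ * y⁻¹ := by rw [(h.central hz _).eq, mul_inv_cancel_right]
  have hmul : ∀ x y : P, IsRoot π x → IsRoot π y → cm T (x * y) = cm T x * cm T y := by
    intro x y hx hy
    obtain ⟨u, hu⟩ := hy
    have hc : Commute (cm T y) x⁻¹ := (hab _ _ ⟨_, himg y u hu⟩ hx).inv_right
    calc cm T (x * y) = T * x * T⁻¹ * (cm T y * x⁻¹) := by simp only [cm]; group
      _ = cm T x * cm T y := by rw [hc.eq, cm, cm]; group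
  refine ⟨⟨fun t => cm T (L (t / ((a : E) ^ 2 - 1))), fun t u => ?_, fun t => ?_,
    fun b W hW t => ?_⟩⟩
  · rw [← hmul _ _ ⟨_, hL _⟩ ⟨_, hL _⟩]
    exact hind _ _ (by rw [map_mul, hL, hL, hL, ← uE_add, add_div])
  · rw [himg _ _ (hL _), mul_div_cancel₀ t he]
  · have hWT : π (W * T * W⁻¹) = π T := by
      rw [map_mul, map_mul, map_inv, hW, hT, tor, tor, ← map_inv, ← map_mul, ← map_mul]
      congr 1
      rw [dg_mul, mul_inv_eq_iff_eq_mul, dg_mul, mul_comm b a, mul_comm b⁻¹ a⁻¹]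
    have hzT : π (W * T * W⁻¹ * T⁻¹) = 1 := by rw [map_mul, map_inv, hWT, mul_inv_cancel]
    have key : ∀ x : P, cm (W * T * W⁻¹) x = cm T x := fun x => by
      have e : W * T * W⁻¹ = (W * T * W⁻¹ * T⁻¹) * T := (inv_mul_cancel_right _ T).symm
      rw [e]
      clear e hWT
      generalize W * T * W⁻¹ * T⁻¹ = z at hzT ⊢
      simp only [cm, _root_.mul_inv_rev]
      rw [show z * T * x * (T⁻¹ * z⁻¹) * x⁻¹ = z * (T * x * T⁻¹) * z⁻¹ * x⁻¹ by group,
        (h.central hzT (T * x * T⁻¹)).eq, mul_inv_cancel_right]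
    calc W * cm T (L (t / ((a : E) ^ 2 - 1))) * W⁻¹
        = cm (W * T * W⁻¹) (W * L (t / ((a : E) ^ 2 - 1)) * W⁻¹) := by simp only [cm]; group
      _ = cm T (W * L (t / ((a : E) ^ 2 - 1)) * W⁻¹) := key _
      _ = cm T (L ((b : E) ^ 2 * t / ((a : E) ^ 2 - 1))) := hind _ _ (by
          rw [map_mul, map_mul, map_inv, hW, hL, hL, tor_uE, mul_div_assoc])

omit hInn

variable (σ : Sec π)

theorem Sec.map_zero : σ.S 0 = 1 := by
  have := σ.map_add 0 0
  rw [add_zero] at this
  exact left_eq_mul.mp this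

theorem Sec.map_nsmul (n : ℕ) (t : E) : σ.S (n • t) = σ.S t ^ n := by
  induction n with
  | zero => rw [zero_nsmul, σ.map_zero h, pow_zero]
  | succ n ih => rw [succ_nsmul, σ.map_add, ih, pow_succ]

theorem Sec.pow_char {s : ℕ} [CharP E s] (t : E) : σ.S t ^ s = 1 := by
  rw [← σ.map_nsmul h, nsmul_eq_mul, CharP.cast_eq_zero, zero_mul, σ.map_zero h]

theorem Sec.commute (t u : E) : Commute (σ.S t) (σ.S u) := by
  show σ.S t * σ.S u = σ.S u * σ.S t
  rw [← σ.map_add, ← σ.map_add, add_comm]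

theorem Sec.inj {t : E} (ht : σ.S t = 1) : t = 0 := by
  have := σ.proj_eq t
  rw [ht, _root_.map_one] at this
  exact uE_eq_one.mp this.symm

theorem Sec.ne_one : ((σ.S 1 : P) : GL (Fin 3) K) ≠ 1 := fun e =>
  one_ne_zero (σ.inj h (Subtype.ext e))

/-- The section is respected by the normaliser of the root group. -/
theorem Sec.conj {s : ℕ} [hs : Fact s.Prime] [CharP E s] (hbad : s ≠ 3 ∨ s = p) {x : P} {φ : E → E}
    (hx : ∀ t, π x * uE t * (π x)⁻¹ = uE (φ t)) (t : E) : x * σ.S t * x⁻¹ = σ.S (φ t) := by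
  have hz : π (x * σ.S t * x⁻¹ * (σ.S (φ t))⁻¹) = 1 := by
    rw [map_mul, map_mul, map_mul, map_inv, map_inv, σ.proj_eq, σ.proj_eq, hx, mul_inv_cancel]
  refine mul_inv_eq_one.mp (h.sc_eq_one hz hs.out ?_ hbad)
  have e1 : (x * σ.S t * x⁻¹ * (σ.S (φ t))⁻¹) * σ.S (φ t) = x * σ.S t * x⁻¹ := inv_mul_cancel_right _ _
  have e2 := congrArg (· ^ s) e1
  simp only [(h.central hz (σ.S (φ t))).mul_pow, σ.pow_char h, mul_one, conj_pow] at e2
  rw [e2, mul_inv_cancel]

omit h in
theorem exists_common_eigvec [IsAlgClosed K] {ι : Type*} (M : ι → Matrix (Fin 3) (Fin 3) K)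
    (hM : ∀ i j, Commute (M i) (M j)) (s : Finset ι) :
    ∀ W : Submodule K (Fin 3 → K), W ≠ ⊥ → (∀ i, ∀ w ∈ W, M i *ᵥ w ∈ W) →
      ∃ v ∈ W, v ≠ 0 ∧ ∀ i ∈ s, ∃ c : K, M i *ᵥ v = c • v := by
  classical
  induction s using Finset.induction_on with
  | empty =>
    intro W hW _
    obtain ⟨v, hv, hv0⟩ := Submodule.exists_mem_ne_zero_of_ne_bot hW
    exact ⟨v, hv, hv0, by simp⟩
  | insert a s _ ih =>
    intro W hW hinv
    obtain ⟨w, hw, hw0, c, hc⟩ := exists_eigvec_in (M a) (hinv a) hW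
    set W' := W ⊓ LinearMap.ker (Matrix.toLin' (M a - c • 1)) with hW'
    have hmem : ∀ u, u ∈ W' ↔ u ∈ W ∧ M a *ᵥ u = c • u := fun u => by
      rw [hW', Submodule.mem_inf, LinearMap.mem_ker, Matrix.toLin'_apply, sub_mulVec, smul_mulVec,
        one_mulVec, sub_eq_zero]
    obtain ⟨v, hv, hv0, hvs⟩ := ih W'
      (fun e => hw0 (by
        have := (hmem w).mpr ⟨hw, hc⟩
        rwa [e, Submodule.mem_bot] at this))
      (fun i u hu => by
        obtain ⟨h1, h2⟩ := (hmem u).mp hu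
        refine (hmem _).mpr ⟨hinv i u h1, ?_⟩
        rw [mulVec_mulVec, (hM a i).eq, ← mulVec_mulVec, h2, mulVec_smul])
    refine ⟨v, ((hmem v).mp hv).1, hv0, fun i hi => ?_⟩
    rcases Finset.mem_insert.mp hi with rfl | hi
    · exact ⟨c, ((hmem v).mp hv).2⟩
    · exact hvs i hi

include hInn in
/-- In cross characteristic the field has at most seven elements. -/
theorem Sec.card_le [IsAlgClosed K] (σ : Sec π) {s : ℕ} [Fact s.Prime] [CharP E s] (hsK : (s : K) ≠ 0) :
    Fintype.card E ≤ 7 := by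
  classical
  set M : E → Matrix (Fin 3) (Fin 3) K := fun t => ((σ.S t : GL (Fin 3) K) : Matrix (Fin 3) (Fin 3) K)
    with hM
  have hcomm : ∀ t u, Commute (M t) (M u) := fun t u => by
    have := congrArg (fun z : P => ((z : GL (Fin 3) K) : Matrix (Fin 3) (Fin 3) K)) (σ.commute h t u).eq
    exact this
  obtain ⟨c₁, hc1, -, w, hw0, hw⟩ := spec_ne_one (x := (σ.S 1 : GL (Fin 3) K))
    (by rw [← Subgroup.coe_pow, σ.pow_char h, Subgroup.coe_one]) hsK (σ.ne_one h)
  have hmem : ∀ u, u ∈ LinearMap.ker (Matrix.toLin' (M 1 - c₁ • 1)) ↔ M 1 *ᵥ u = c₁ • u := fun u => by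
    rw [LinearMap.mem_ker, Matrix.toLin'_apply, sub_mulVec, smul_mulVec, one_mulVec, sub_eq_zero]
  obtain ⟨v, hvW, hv0, hv⟩ := exists_common_eigvec M hcomm Finset.univ
    (LinearMap.ker (Matrix.toLin' (M 1 - c₁ • 1)))
    (fun e => hw0 (by have := (hmem w).mpr hw; rwa [e, Submodule.mem_bot] at this))
    (fun t u hu => by
      rw [hmem] at hu ⊢
      rw [mulVec_mulVec, (hcomm 1 t).eq, ← mulVec_mulVec, hu, mulVec_smul])
  choose χ hχ using fun t => hv t (Finset.mem_univ t)
  have hχadd : ∀ t u, χ (t + u) = χ t * χ u := fun t u => by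
    refine smul_left_injective K hv0 ?_
    show χ (t + u) • v = (χ t * χ u) • v
    rw [← hχ, show M (t + u) = M t * M u by simp [hM, σ.map_add], ← mulVec_mulVec, hχ, mulVec_smul, hχ,
      smul_smul, mul_comm]
  have hχ0 : χ 0 = 1 := by
    refine smul_left_injective K hv0 ?_
    show χ 0 • v = (1 : K) • v
    rw [← hχ, show M 0 = 1 by simp [hM, σ.map_zero h], one_mulVec, one_smul]
  have hχ1 : χ 1 ≠ 1 := fun e => hc1 (by
    refine smul_left_injective K hv0 ?_
    show c₁ • v = (1 : K) • v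
    rw [← (hmem v).mp hvW, hχ, e])
  let F : E → (Multiplicative E →* K) := fun m =>
    { toFun := fun t => χ (m * t.toAdd)
      map_one' := by simp [hχ0]
      map_mul' := fun t u => by simp [mul_add, hχadd] }
  have hFinj : Function.Injective F := fun m m' e => by
    by_contra hne
    have hd : m - m' ≠ 0 := sub_ne_zero_of_ne hne
    apply hχ1
    have h1 := DFunLike.congr_fun e (Multiplicative.ofAdd (m - m')⁻¹)
    simp only [F, MonoidHom.coe_mk, OneHom.coe_mk, toAdd_ofAdd] at h1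
    have h2 : χ (m * (m - m')⁻¹) = χ 1 * χ (m' * (m - m')⁻¹) := by
      rw [← hχadd]; congr 1; field_simp; ring
    rw [h1] at h2
    have hne0 : χ (m' * (m - m')⁻¹) ≠ 0 := fun e0 => by
      have := hχadd (m' * (m - m')⁻¹) (-(m' * (m - m')⁻¹))
      rw [add_neg_cancel, hχ0, e0, zero_mul] at this
      exact one_ne_zero this
    exact (mul_eq_right₀ hne0).mp h2.symm
  set Q : Finset E := Finset.univ.image (fun b : Eˣ => (b : E) ^ 2) with hQ
  have hex : ∀ m : Q, ∃ u : Fin 3 → K, u ≠ 0 ∧ ∀ t, M t *ᵥ u = χ ((m : E) * t) • u := by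
    rintro ⟨m, hm⟩
    obtain ⟨b, -, rfl⟩ := Finset.mem_image.mp hm
    obtain ⟨W, hW⟩ := exists_torLift h hInn b
    refine ⟨(((W : GL (Fin 3) K)⁻¹ : GL (Fin 3) K) : Matrix (Fin 3) (Fin 3) K) *ᵥ v, fun e => hv0 ?_,
      fun t => ?_⟩
    · have := congrArg (((W : GL (Fin 3) K) : Matrix (Fin 3) (Fin 3) K) *ᵥ ·) e
      simpa only [mulVec_mulVec, ← Units.val_mul, mul_inv_cancel, Units.val_one, one_mulVec,
        mulVec_zero] using this
    · have h1 := congrArg (fun z : P => (z : GL (Fin 3) K)) (σ.torus b W hW t)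
      simp only [Subgroup.coe_mul, Subgroup.coe_inv] at h1
      have h2 : (σ.S t : GL (Fin 3) K) * (W : GL (Fin 3) K)⁻¹ =
          (W : GL (Fin 3) K)⁻¹ * (σ.S ((b : E) ^ 2 * t) : GL (Fin 3) K) := by
        rw [← h1]; group
      show M t *ᵥ _ = _
      rw [mulVec_mulVec]
      simp only [hM, ← Units.val_mul]
      rw [h2, Units.val_mul, ← mulVec_mulVec]
      rw [show ((σ.S ((b : E) ^ 2 * t) : GL (Fin 3) K) : Matrix (Fin 3) (Fin 3) K) =
        M ((b : E) ^ 2 * t) from rfl, hχ, mulVec_smul]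
  choose u hu0 hu using hex
  have hli : LinearIndependent K u := by
    rw [Fintype.linearIndependent_iff]
    intro g hg m
    obtain ⟨i, hi⟩ : ∃ i, u m i ≠ 0 := by
      by_contra hc; push Not at hc; exact hu0 m (funext hc)
    have hD := (linearIndependent_monoidHom (Multiplicative E) K).comp (fun m : Q => F (m : E))
      (hFinj.comp Subtype.val_injective)
    rw [Fintype.linearIndependent_iff] at hD
    refine (mul_eq_zero.mp (hD (fun j => g j * u j i) ?_ m)).resolve_right hi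
    funext t
    have h1 := congrArg (M t.toAdd *ᵥ ·) hg
    simp only [mulVec_sum, mulVec_smul, hu, mulVec_zero, smul_smul] at h1
    have h2 := congrFun h1 i
    simp only [Finset.sum_apply, Pi.smul_apply, smul_eq_mul, Pi.zero_apply] at h2
    simp only [Finset.sum_apply, Pi.smul_apply, smul_eq_mul, Function.comp_apply, Pi.zero_apply]
    rw [← h2]
    exact Finset.sum_congr rfl fun j _ => by simp [F]; ring
  have h3 := hli.fintype_card_le_finrank
  rw [Fintype.card_coe, finrank_fin_fun] at h3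
  have h4 := Finset.card_le_mul_card_image (f := fun b : Eˣ => (b : E) ^ 2) (Finset.univ : Finset Eˣ) 2
    (fun m hm => by
      obtain ⟨b₀, -, rfl⟩ := Finset.mem_image.mp hm
      refine (Finset.card_le_card (t := {b₀, -b₀}) fun b hb => ?_).trans Finset.card_le_two
      rw [Finset.mem_filter] at hb
      rcases sq_eq_sq_iff_eq_or_eq_neg.mp hb.2 with e | e
      · simp [Units.ext e]
      · simp [show b = -b₀ from Units.ext (by simpa using e)])
  rw [Finset.card_univ, Fintype.card_units] at h4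
  rw [← hQ] at h4
  omega

end Cfsg.Agent.Lib.Mitchell3
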