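import Cfsg.Agent.Lib.Mitchell3.Root

/-!
Mitchell package: a non-abelian root group preimage gives nine elements; in the defining characteristic the
coefficient at the regular unipotent is a field embedding.
-/

set_option autoImplicit false
set_option linter.unusedSectionVars false
set_option linter.style.haveILetI false

namespace Cfsg.Agent.Lib.Mitchell3

open Matrix Module
open Cfsg.Agent.Lib.Subspaces.Transvection

variable {K : Type*} [Field K] {P : Subgroup (GL (Fin 3) K)}
variable {E : Type} [Field E] [Fintype E]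
variable {p : ℕ} [Fact p.Prime] [CharP K p] {α : ℕ}

/-- Only scalars commute with two elements whose commutator is a primitive cube root of unity. -/
theorem scalar_of_commute_pair [IsAlgClosed K] {x y : Matrix (Fin 3) (Fin 3) K} {ω : K}
    (hω : ω ≠ 1) (hω3 : ω ^ 3 = 1) (hxy : x * y = ω • (y * x)) (hy : IsUnit y) (hx : IsUnit x)
    {M : Matrix (Fin 3) (Fin 3) K} (hMx : Commute M x) (hMy : Commute M y) :
    ∃ a : K, M = a • 1 := by
  obtain ⟨v, -, hv0, μ, hv⟩ := exists_eigvec_in x (W := ⊤) (fun _ _ => Submodule.mem_top)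
    (by simp)
  have hμ : μ ≠ 0 := fun e => hv0 (by
    apply (Matrix.mulVec_injective_iff_isUnit.mpr hx)
    simp only [hv, e, zero_smul, mulVec_zero])
  have hy1 : ∀ (u : Fin 3 → K) (c : K), x *ᵥ u = c • u → x *ᵥ (y *ᵥ u) = (ω * c) • (y *ᵥ u) :=
    fun u c hu => by
      rw [mulVec_mulVec, hxy, smul_mulVec, ← mulVec_mulVec, hu, mulVec_smul, smul_smul]
  have hw1 := hy1 v μ hv
  have hw2 := hy1 _ _ hw1
  have hinj := Matrix.mulVec_injective_iff_isUnit.mpr hy
  have hω2 : ω ^ 2 ≠ 1 := fun e => hω (by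
    have := hω3
    rw [pow_succ, e, one_mul] at this
    exact this)
  have hne : ∀ {u : Fin 3 → K}, u ≠ 0 → y *ᵥ u ≠ 0 := fun {u} hu e => hu (hinj (by rw [e, mulVec_zero]))
  have hvec : ∀ i : Fin 3, Module.End.HasEigenvector (Matrix.toLin' x) (![μ, ω * μ, ω * (ω * μ)] i)
      (![v, y *ᵥ v, y *ᵥ (y *ᵥ v)] i) := fun i => by
    refine ⟨Module.End.mem_eigenspace_iff.mpr ?_, ?_⟩
    · fin_cases i <;> simp [hv, hw1, hw2, -mulVec_mulVec]
    · fin_cases i <;> simp [hv0, hne hv0, hne (hne hv0), -mulVec_mulVec]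
  have hinjμ : Function.Injective ![μ, ω * μ, ω * (ω * μ)] := by
    have h01 : μ ≠ ω * μ := fun e => hω (mul_right_cancel₀ hμ (by rw [one_mul]; exact e.symm))
    have h02 : μ ≠ ω * (ω * μ) := fun e => hω2 (mul_right_cancel₀ hμ (by
      rw [one_mul, pow_two, mul_assoc]; exact e.symm))
    have hω0 : ω ≠ 0 := fun e => by simp [e] at hω3
    have h12 : ω * μ ≠ ω * (ω * μ) := fun e => h01 (mul_left_cancel₀ hω0 e)
    intro i j hij
    fin_cases i <;> fin_cases j <;>
      simp [h01, h02, h12, h01.symm, h02.symm, h12.symm] at hij ⊢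
  have hli := Module.End.eigenvectors_linearIndependent' (Matrix.toLin' x) _ hinjμ _ hvec
  let B := basisOfLinearIndependentOfCardEqFinrank hli (by simp)
  obtain ⟨a, ha⟩ : ∃ a : K, M *ᵥ v = a • v := by
    have hs := B.sum_repr (M *ᵥ v)
    have hB : ⇑B = ![v, y *ᵥ v, y *ᵥ (y *ᵥ v)] := coe_basisOfLinearIndependentOfCardEqFinrank _ _
    rw [hB, Fin.sum_univ_three] at hs
    simp [-mulVec_mulVec] at hs
    set a := B.repr (M *ᵥ v) 0
    set b := B.repr (M *ᵥ v) 1
    set c := B.repr (M *ᵥ v) 2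
    have hMv : x *ᵥ (M *ᵥ v) = μ • (M *ᵥ v) := by
      rw [mulVec_mulVec, ← hMx.eq, ← mulVec_mulVec, hv, mulVec_smul]
    rw [← hs, mulVec_add, mulVec_add, mulVec_smul, mulVec_smul, mulVec_smul, hv, hw1, hw2] at hMv
    have hz : (0 : K) • v + (b * (ω * μ - μ)) • (y *ᵥ v) + (c * (ω * (ω * μ) - μ)) • (y *ᵥ (y *ᵥ v)) = 0 := by
      rw [← sub_eq_zero] at hMv
      rw [← hMv]
      module
    have hzz := Fintype.linearIndependent_iff.mp hli ![0, b * (ω * μ - μ), c * (ω * (ω * μ) - μ)]
      (by simpa [Fin.sum_univ_three, -mulVec_mulVec] using hz)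
    have hb : b = 0 := (mul_eq_zero.mp (hzz 1)).resolve_right (sub_ne_zero_of_ne
      (hinjμ.ne (show (1 : Fin 3) ≠ 0 by decide)))
    have hc : c = 0 := (mul_eq_zero.mp (hzz 2)).resolve_right (sub_ne_zero_of_ne
      (hinjμ.ne (show (2 : Fin 3) ≠ 0 by decide)))
    exact ⟨a, by rw [← hs, hb, hc, zero_smul, zero_smul, add_zero, add_zero]⟩
  refine ⟨a, Matrix.toLin'.injective (B.ext fun i => ?_)⟩
  fin_cases i <;>
    simp only [B, coe_basisOfLinearIndependentOfCardEqFinrank, Matrix.toLin'_apply, smul_mulVec, one_mulVec]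
  · simpa using ha
  · show M *ᵥ (y *ᵥ v) = a • (y *ᵥ v)
    rw [mulVec_mulVec, hMy.eq, ← mulVec_mulVec, ha, mulVec_smul]
  · show M *ᵥ (y *ᵥ (y *ᵥ v)) = a • (y *ᵥ (y *ᵥ v))
    have e : ∀ w, M *ᵥ (y *ᵥ w) = y *ᵥ (M *ᵥ w) := fun w => by rw [mulVec_mulVec, mulVec_mulVec, hMy.eq]
    rw [e, e, ha, mulVec_smul, mulVec_smul]

variable {π : P →* MulAut (Matrix.ProjectiveSpecialLinearGroup (Fin 2) E)} (h : Hyp p α π)
  (hInn : Cfsg.Inn (Matrix.ProjectiveSpecialLinearGroup (Fin 2) E) ≤ π.range)
include h hInn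

theorem exists_pair (hab : ¬ AbRoot π) : ∃ (x y : P) (ω : K), IsRoot π x ∧ IsRoot π y ∧ ω ≠ 1 ∧ ω ^ 3 = 1 ∧
    ω ^ p ^ α = ω ∧
    ((x : GL (Fin 3) K) : Matrix (Fin 3) (Fin 3) K) * (y : GL (Fin 3) K) =
      ω • (((y : GL (Fin 3) K) : Matrix (Fin 3) (Fin 3) K) * (x : GL (Fin 3) K)) := by
  simp only [AbRoot, not_forall] at hab
  obtain ⟨x, y, hx, hy, hne⟩ := hab
  have hk := cm_ker h hx hy
  obtain ⟨c, hc⟩ := (h.ker _).mp hk
  have h3 : c ^ 3 = 1 := by
    have e := congrArg (fun z : P => ((z : GL (Fin 3) K) : Matrix (Fin 3) (Fin 3) K)) (h.cube hk)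
    simp only [Subgroup.coe_pow, Units.val_pow_eq_pow_val, hc, smul_pow, one_pow, Subgroup.coe_one,
      Units.val_one] at e
    simpa using congrFun (congrFun e 0) 0
  have hxy : x * y = cm x y * (y * x) := by simp only [cm]; group
  refine ⟨x, y, c, hx, hy, fun e => hne ?_, h3, ?_, ?_⟩
  · rw [← cm_eq_one]
    exact Subtype.ext (Units.ext (by rw [hc, e, one_smul]; rfl))
  · have := h.fix _ (cm x y).2 0 0
    rw [hc] at this
    simpa using this
  · have e := congrArg (fun z : P => ((z : GL (Fin 3) K) : Matrix (Fin 3) (Fin 3) K)) hxy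
    simp only [Subgroup.coe_mul, Units.val_mul] at e
    rw [e, hc, smul_mul_assoc, one_mul]

/-- A non-abelian preimage of the root group: nine elements and `q ≡ 1 (mod 3)`. -/
theorem nine_of_nonab [IsAlgClosed K] {s : ℕ} [hs : Fact s.Prime] [CharP E s] (h3 : 3 < Fintype.card E)
    (hab : ¬ AbRoot π) : Fintype.card E = 9 ∧ p ≠ 3 ∧ p ^ α % 3 = 1 := by
  classical
  have hsp : s = 3 ∧ p ≠ 3 := by
    by_contra hc
    refine hab (abRoot_of_ne h (s := s) ?_)
    by_cases hs3 : s = 3
    · have hp : p = 3 := by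
        by_contra hp; exact hc ⟨hs3, hp⟩
      exact Or.inr (hs3.trans hp.symm)
    · exact Or.inl hs3
  obtain ⟨x, y, ω, hx, hy, hω, hω3, hωq, hxy⟩ := exists_pair h hInn hab
  choose L hL using exists_rootLift h hInn
  have hscal : ∀ (a : P) (t : E), IsRoot π a → ∃ c : K, c ^ 3 = 1 ∧
      ((a : GL (Fin 3) K) : Matrix (Fin 3) (Fin 3) K) * (L t : GL (Fin 3) K) =
        c • (((L t : GL (Fin 3) K) : Matrix (Fin 3) (Fin 3) K) * (a : GL (Fin 3) K)) := by
    intro a t ha
    have hk := cm_ker h ha ⟨t, hL t⟩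
    obtain ⟨c, hc⟩ := (h.ker _).mp hk
    refine ⟨c, ?_, ?_⟩
    · have e := congrArg (fun z : P => ((z : GL (Fin 3) K) : Matrix (Fin 3) (Fin 3) K)) (h.cube hk)
      simp only [Subgroup.coe_pow, Units.val_pow_eq_pow_val, hc, smul_pow, one_pow, Subgroup.coe_one,
        Units.val_one] at e
      simpa using congrFun (congrFun e 0) 0
    · have e := congrArg (fun z : P => ((z : GL (Fin 3) K) : Matrix (Fin 3) (Fin 3) K))
        (show a * L t = cm a (L t) * (L t * a) by simp only [cm]; group)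
      simp only [Subgroup.coe_mul, Units.val_mul] at e
      rw [e, hc, smul_mul_assoc, one_mul]
  choose cx hcx3 hcx using fun t => hscal x t hx
  choose cy hcy3 hcy using fun t => hscal y t hy
  set R := Polynomial.nthRootsFinset 3 (1 : K) with hR
  have hRc : R.card ≤ 3 := by
    rw [hR, Polynomial.nthRootsFinset_def]
    exact (Multiset.toFinset_card_le _).trans (Polynomial.card_nthRoots 3 _)
  have hmaps : ∀ t, (cx t, cy t) ∈ R ×ˢ R := fun t =>
    Finset.mk_mem_product ((Polynomial.mem_nthRootsFinset (by norm_num) _).mpr (hcx3 t))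
      ((Polynomial.mem_nthRootsFinset (by norm_num) _).mpr (hcy3 t))
  have hinj : Function.Injective fun t => (cx t, cy t) := fun t u e => by
    simp only [Prod.mk.injEq] at e
    set D : P := (L t)⁻¹ * L u with hD
    have key : ∀ (a : P) (c : K), c ^ 3 = 1 →
        ((a : GL (Fin 3) K) : Matrix (Fin 3) (Fin 3) K) * (L t : GL (Fin 3) K) =
          c • (((L t : GL (Fin 3) K) : Matrix (Fin 3) (Fin 3) K) * (a : GL (Fin 3) K)) →
        ((a : GL (Fin 3) K) : Matrix (Fin 3) (Fin 3) K) * (L u : GL (Fin 3) K) =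
          c • (((L u : GL (Fin 3) K) : Matrix (Fin 3) (Fin 3) K) * (a : GL (Fin 3) K)) →
        Commute ((D : GL (Fin 3) K) : Matrix (Fin 3) (Fin 3) K) ((a : GL (Fin 3) K) : Matrix (Fin 3) (Fin 3) K) := by
      intro a c hc3 e1 e2
      have hc0 : c ≠ 0 := fun h0 => by simp [h0] at hc3
      have hLu : L u = L t * D := by rw [hD, mul_inv_cancel_left]
      rw [hLu, Subgroup.coe_mul, Units.val_mul, ← mul_assoc, e1, smul_mul_assoc, mul_assoc, mul_assoc] at e2
      have e3 := smul_right_injective _ hc0 e2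
      exact ((Units.isUnit (L t : GL (Fin 3) K)).mul_left_cancel e3).symm
    obtain ⟨c, hc⟩ := scalar_of_commute_pair hω hω3 hxy (Units.isUnit _) (Units.isUnit _)
      (key x _ (hcx3 t) (hcx t) (by rw [e.1]; exact hcx u))
      (key y _ (hcy3 t) (hcy t) (by rw [e.2]; exact hcy u))
    have h1 := (h.ker D).mpr ⟨c, hc⟩
    rw [hD, map_mul, map_inv, inv_mul_eq_one, hL, hL] at h1
    exact uE_injective h1
  have hle := Finset.card_le_card_of_injOn (s := (Finset.univ : Finset E)) (t := R ×ˢ R) _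
    (fun t _ => Finset.mem_coe.mpr (hmaps t)) hinj.injOn
  rw [Finset.card_univ, Finset.card_product] at hle
  obtain ⟨k, -, hk⟩ := FiniteField.card E s
  refine ⟨?_, hsp.2, ?_⟩
  · rw [hk, hsp.1] at hle h3 ⊢
    have h9 : 3 ^ (k : ℕ) ≤ 9 := hle.trans (Nat.mul_le_mul hRc hRc)
    have hk2 : (k : ℕ) ≤ 2 := by
      by_contra hc
      have := Nat.pow_le_pow_right (n := 3) (by norm_num) (show 3 ≤ (k : ℕ) by omega)
      omega
    interval_cases hkk : (k : ℕ) <;> simp_all
  · have ho : orderOf ω = 3 := by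
      haveI : Fact (Nat.Prime 3) := ⟨Nat.prime_three⟩
      exact orderOf_eq_prime hω3 hω
    have hω0 : ω ≠ 0 := fun e => by simp [e] at hω3
    rw [← pow_mod_orderOf, ho] at hωq
    rcases (by omega : p ^ α % 3 = 0 ∨ p ^ α % 3 = 1 ∨ p ^ α % 3 = 2) with e | e | e
    · rw [e, pow_zero] at hωq; exact absurd hωq.symm hω
    · exact e
    · rw [e, pow_two] at hωq
      exact absurd (mul_right_cancel₀ hω0 (hωq.trans (one_mul ω).symm)) hω

/-- Over nine elements a group containing an outer diagonal twist has abelian root group preimage. -/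
theorem abRoot_of_nonsquare (hE : Fintype.card E = 9) {d : Eˣ} (hd : ¬ IsSquare d)
    (hdM : twist d (1 : E ≃+* E) ∈ π.range) : AbRoot π := by
  classical
  haveI : Fact (Nat.Prime 3) := ⟨Nat.prime_three⟩
  haveI : CharP E 3 := charP_of_card_eq_prime_pow (f := 2) (by rw [hE]; norm_num)
  have h3 : (3 : E) = 0 := CharP.cast_eq_zero E 3
  have hodd : Odd (Fintype.card E) := by rw [hE]; decide
  choose L hL using exists_rootLift h hInn
  have hroot : ∀ t, IsRoot π (L t) := fun t => ⟨t, hL t⟩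
  let P2 : E → E → P := fun t u => cm (L t) (L u)
  have hP2 : ∀ (x y : P) (t u : E), π x = uE t → π y = uE u → cm x y = P2 t u := by
    intro x y t u hx hy
    have hzx : π (x * (L t)⁻¹) = 1 := by rw [map_mul, map_inv, hx, hL, mul_inv_cancel]
    have hzy : π (y * (L u)⁻¹) = 1 := by rw [map_mul, map_inv, hy, hL, mul_inv_cancel]
    have ex : x = (x * (L t)⁻¹) * L t := (inv_mul_cancel_right _ _).symm
    have ey : y = (y * (L u)⁻¹) * L u := (inv_mul_cancel_right _ _).symm
    rw [ex, ey]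
    generalize x * (L t)⁻¹ = a at hzx
    generalize y * (L u)⁻¹ = b at hzy
    show cm (a * L t) (b * L u) = cm (L t) (L u)
    have ha1 : ∀ g, cm (a * g) (b * L u) = cm g (b * L u) := fun g => by
      simp only [cm, _root_.mul_inv_rev]
      rw [show a * g * (b * L u) * (g⁻¹ * a⁻¹) * ((L u)⁻¹ * b⁻¹) =
        a * (g * (b * L u) * g⁻¹) * a⁻¹ * ((L u)⁻¹ * b⁻¹) by group,
        (h.central hzx (g * (b * L u) * g⁻¹)).eq, mul_inv_cancel_right]
    rw [ha1]
    simp only [cm, _root_.mul_inv_rev]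
    rw [← mul_assoc (L t) b, ← (h.central hzy (L t)).eq,
      show b * L t * L u * (L t)⁻¹ * ((L u)⁻¹ * b⁻¹) = b * (L t * L u * (L t)⁻¹ * (L u)⁻¹) * b⁻¹ by group,
      (h.central hzy _).eq, mul_inv_cancel_right]
  have hadd : ∀ t u v, P2 t (u + v) = P2 t u * P2 t v := by
    intro t u v
    rw [← hP2 (L t) (L u * L v) t (u + v) (hL t) (by rw [map_mul, hL, hL, uE_add])]
    have hc := h.central (cm_ker h (hroot t) (hroot v)) (L u)⁻¹
    show cm (L t) (L u * L v) = cm (L t) (L u) * cm (L t) (L v)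
    calc cm (L t) (L u * L v) = L t * L u * (L t)⁻¹ * (cm (L t) (L v) * (L u)⁻¹) := by
          simp only [cm]; group
      _ = cm (L t) (L u) * cm (L t) (L v) := by rw [hc.eq, cm, cm]; group
  have hself : ∀ t, P2 t t = 1 := fun t => cm_eq_one.mpr (Commute.refl _)
  have hk : ∀ t u, π (P2 t u) = 1 := fun t u => cm_ker h (hroot t) (hroot u)
  have hscale : ∀ (m : Eˣ) (t u : E), P2 ((m : E) * t) ((m : E) * u) = P2 t u := by
    intro m t u
    obtain ⟨W, hW⟩ : ∃ W : P, ∀ e, π W * uE e * (π W)⁻¹ = uE ((m : E) * e) := by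
      by_cases hm : IsSquare m
      · obtain ⟨b, rfl⟩ := hm
        obtain ⟨W, hW⟩ := exists_torLift h hInn b
        exact ⟨W, fun e => by rw [hW, tor_uE, Units.val_mul, pow_two]⟩
      · obtain ⟨b, hb⟩ := isSquare_mul_inv hodd hm hd
        obtain ⟨W, hW⟩ := exists_torLift h hInn b
        obtain ⟨D, hD⟩ := hdM
        refine ⟨W * D, fun e => ?_⟩
        have hm' : (m : E) = (b : E) ^ 2 * (d : E) := by
          rw [pow_two, ← Units.val_mul, ← hb, ← Units.val_mul, inv_mul_cancel_right]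
        rw [map_mul, hW, hD, _root_.mul_inv_rev, hm', mul_assoc _ (d : E) e]
        have ht : twist d (1 : E ≃+* E) * uE e * (twist d 1)⁻¹ = uE ((d : E) * e) := twist_uE d 1 e
        calc tor b * twist d 1 * uE e * ((twist d 1)⁻¹ * (tor b)⁻¹)
            = tor b * (twist d 1 * uE e * (twist d 1)⁻¹) * (tor b)⁻¹ := by group
          _ = _ := by rw [ht, tor_uE]
    rw [← hP2 (W * L t * W⁻¹) (W * L u * W⁻¹) ((m : E) * t) ((m : E) * u)
      (by rw [map_mul, map_mul, map_inv, hL, hW]) (by rw [map_mul, map_mul, map_inv, hL, hW])]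
    calc cm (W * L t * W⁻¹) (W * L u * W⁻¹) = W * P2 t u * W⁻¹ := by simp only [P2, cm]; group
      _ = P2 t u := by rw [← (h.central (hk t u) W).eq, mul_inv_cancel_right]
  obtain ⟨η, hη⟩ : ∃ η : Eˣ, ¬ IsSquare η := ⟨d, hd⟩
  have hη0 : (η : E) ≠ 0 := η.ne_zero
  have hη4 : (η : E) ^ 4 = -1 := by
    have hc : ringChar E ≠ 2 := by rw [ringChar.eq E 3]; norm_num
    have h1 := FiniteField.pow_dichotomy hc hη0
    rw [hE] at h1
    rcases h1 with h1 | h1
    · exfalso
      have := (FiniteField.isSquare_iff hc hη0).mpr (by rw [hE]; exact h1)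
      obtain ⟨r, hr⟩ := this
      have hr0 : r ≠ 0 := fun e => hη0 (by rw [hr, e, mul_zero])
      exact hη ⟨Units.mk0 r hr0, Units.ext hr⟩
    · exact h1
  obtain ⟨k, hk2⟩ : ∃ k : ℕ, (η : E) ^ 2 = 1 + k • (η : E) := by
    have : ((η : E) ^ 2 - 1 - η) * ((η : E) ^ 2 - 1 + η) = 0 := by
      linear_combination hη4 - (η : E) ^ 2 * h3
    rcases mul_eq_zero.mp this with e | e
    · exact ⟨1, by rw [one_smul]; linear_combination e⟩
    · exact ⟨2, by rw [nsmul_eq_mul, Nat.cast_ofNat]; linear_combination e - (η : E) * h3⟩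
  have hz0 : ∀ t, P2 t 0 = 1 := fun t => by
    have := hadd t 0 0; rw [add_zero] at this; exact left_eq_mul.mp this
  have hD1 : P2 1 (η : E) = 1 := by
    have h1 := hscale η 1 (η : E)
    rw [mul_one, ← pow_two, hk2, hadd] at h1
    have hkk : ∀ n : ℕ, P2 (η : E) (n • (η : E)) = 1 := fun n => by
      induction n with
      | zero => rw [zero_nsmul, hz0]
      | succ n ih => rw [succ_nsmul, hadd, hself, mul_one, ih]
    rw [hkk, mul_one] at h1
    have hinv : (P2 (η : E) 1)⁻¹ = P2 1 (η : E) := cm_inv _ _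
    rw [h1] at hinv
    have h2 : P2 1 (η : E) * P2 1 (η : E) = 1 := by
      nth_rw 1 [← hinv]; exact inv_mul_cancel _
    have h33 := h.cube (hk 1 (η : E))
    rwa [pow_succ, pow_two, h2, one_mul] at h33
  -- the kernel of the pairing with one
  let A : AddSubgroup E :=
    { carrier := {t | P2 1 t = 1}
      zero_mem' := hz0 1
      add_mem' := fun {a b} ha hb => by
        show P2 1 (a + b) = 1; rw [hadd, ha, hb, mul_one]
      neg_mem' := fun {a} ha => by
        show P2 1 (-a) = 1
        have := hadd 1 a (-a)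
        rw [add_neg_cancel, hz0, ha, one_mul] at this
        exact this.symm }
  have hA : A = ⊤ := by
    refine AddSubgroup.eq_top_of_card_eq _ ?_
    have hdvd := AddSubgroup.card_addSubgroup_dvd_card A
    rw [Nat.card_eq_fintype_card (α := E), hE] at hdvd ⊢
    have h1 : (1 : E) ∈ A := hself 1
    have hsub : ({0, 1, -1, (η : E)} : Finset E) ⊆ (A : Set E).toFinset := by
      intro t ht
      rw [Set.mem_toFinset]
      simp only [Finset.mem_insert, Finset.mem_singleton] at ht
      rcases ht with rfl | rfl | rfl | rfl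
      · exact A.zero_mem
      · exact h1
      · exact A.neg_mem h1
      · exact hD1
    have hne2 : (2 : E) ≠ 0 := fun e => one_ne_zero (α := E) (by linear_combination h3 - e)
    have e4 : ({0, 1, -1, (η : E)} : Finset E).card = 4 := by
      have hm : (-1 : E) ≠ 1 := fun e => hne2 (by linear_combination -e)
      have hη1 : (η : E) ≠ 1 := fun e => by rw [e, one_pow] at hη4; exact hm hη4.symm
      have hηm : (η : E) ≠ -1 := fun e => by
        rw [e] at hη4; exact hm (by rw [← hη4]; ring)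
      rw [Finset.card_insert_of_notMem, Finset.card_insert_of_notMem, Finset.card_pair hηm.symm] <;>
        simp [hη0.symm, hη1.symm, hm.symm]
    have h4 := Finset.card_le_card hsub
    rw [e4, Set.toFinset_card, ← Nat.card_eq_fintype_card] at h4
    have : Nat.card A ∈ Nat.divisors 9 := Nat.mem_divisors.mpr ⟨hdvd, by norm_num⟩
    rw [show Nat.divisors 9 = {1, 3, 9} by decide] at this
    simp only [Finset.mem_insert, Finset.mem_singleton] at this
    have h4' : 4 ≤ Nat.card A := h4
    omega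
  have hall : ∀ t u, P2 t u = 1 := by
    intro t u
    by_cases ht : t = 0
    · rw [ht]
      have : (P2 u 0)⁻¹ = P2 0 u := cm_inv _ _
      rw [← this, hz0, inv_one]
    · have := hscale (Units.mk0 t ht) 1 (u / t)
      rw [Units.val_mk0, mul_one, mul_div_cancel₀ u ht] at this
      rw [this]
      exact (show u / t ∈ A from hA ▸ AddSubgroup.mem_top _)
  intro x y hx hy
  obtain ⟨t, ht⟩ := hx
  obtain ⟨u, hu⟩ := hy
  rw [← cm_eq_one, hP2 x y t u ht hu, hall]

section Defining

omit hInn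

variable [IsAlgClosed K]

omit h in
/-- In a transvection-free group an element of order `p` is `1` or regular. -/
theorem eq_one_of_sq_zero (hSL : InSL P) (hTF : IsTF P) {x : GL (Fin 3) K} (hx : x ∈ P) (hxp : x ^ p = 1)
    (h2 : ((x : Matrix (Fin 3) (Fin 3) K) - 1) * ((x : Matrix (Fin 3) (Fin 3) K) - 1) = 0) : x = 1 := by
  set N := (x : Matrix (Fin 3) (Fin 3) K) - 1 with hN
  by_cases hsc : IsSc x
  · obtain ⟨c, hc⟩ := hsc
    have hN' : N = (c - 1) • 1 := by rw [hN, hc, sub_smul, one_smul]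
    rw [hN'] at h2
    have h0 := congrFun (congrFun h2 0) 0
    simp at h0
    exact Units.ext (by rw [hc, sub_eq_zero.mp h0, one_smul]; rfl)
  have hk : 2 ≤ finrank K (LinearMap.ker (Matrix.toLin' ((x : Matrix (Fin 3) (Fin 3) K) - (1 : K) • 1))) := by
    rw [one_smul, ← hN]
    have hle : LinearMap.range (Matrix.toLin' N) ≤ LinearMap.ker (Matrix.toLin' N) := by
      rintro _ ⟨w, rfl⟩
      rw [LinearMap.mem_ker, Matrix.toLin'_apply, Matrix.toLin'_apply, mulVec_mulVec, h2, zero_mulVec]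
    have h3 := LinearMap.finrank_range_add_finrank_ker (Matrix.toLin' N)
    have h4 := Submodule.finrank_mono hle
    rw [finrank_fin_fun] at h3
    omega
  obtain ⟨a, φ, m, hd⟩ := isHom_of_eigenspace hSL hTF hx hsc 1 hk
  exfalso
  have hpow : ∀ k : ℕ, ((x ^ k : GL (Fin 3) K) : Matrix (Fin 3) (Fin 3) K) = homMat a φ (m ^ k) := fun k => by
    induction k with
    | zero => rw [pow_zero, pow_zero, homMat_one, Units.val_one]
    | succ k ih => rw [pow_succ, Units.val_mul, ih, hd.2.2.2, homMat_mul hd.1, pow_succ]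
  have hm1 : m ^ p = 1 := homMat_inj hd.1 (by rw [← hpow, hxp, homMat_one, Units.val_one])
  have hm : (m - 1) ^ p = 0 := by rw [sub_pow_char, hm1, one_pow, sub_self]
  rw [pow_eq_zero_iff (Fact.out : p.Prime).ne_zero, sub_eq_zero] at hm
  exact hd.2.2.1 (by rw [hm, one_pow])

omit h in
theorem coeff_unique {N : Matrix (Fin 3) (Fin 3) K} (h3 : N * N * N = 0) (h2 : N * N ≠ 0) {a b c : K}
    (he : a • (1 : Matrix (Fin 3) (Fin 3) K) + b • N + c • (N * N) = 0) : a = 0 ∧ b = 0 ∧ c = 0 := by
  have h4 : N * (N * N) = 0 := by rw [← mul_assoc, h3]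
  have ha : a = 0 := by
    have := congrArg (· * (N * N)) he
    simp only [add_mul, smul_mul_assoc, one_mul, zero_mul, h4, mul_assoc, mul_zero, smul_zero, add_zero] at this
    exact (smul_eq_zero.mp this).resolve_right h2
  rw [ha, zero_smul, zero_add] at he
  have hb : b = 0 := by
    have := congrArg (· * N) he
    simp only [add_mul, smul_mul_assoc, h3, zero_mul, smul_zero, add_zero] at this
    exact (smul_eq_zero.mp this).resolve_right h2
  rw [hb, zero_smul, zero_add] at he
  exact ⟨ha, hb, (smul_eq_zero.mp he).resolve_right h2⟩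

omit h in
theorem coeff_exists {N : Matrix (Fin 3) (Fin 3) K} (h3 : N * N * N = 0) (h2 : N * N ≠ 0)
    {X : Matrix (Fin 3) (Fin 3) K} (hX : Commute X N) :
    ∃ a b c : K, X = a • (1 : Matrix (Fin 3) (Fin 3) K) + b • N + c • (N * N) := by
  obtain ⟨v, hv⟩ : ∃ v, (N * N) *ᵥ v ≠ 0 := by
    by_contra hc
    push Not at hc
    exact h2 (Matrix.mulVec_injective (funext fun v => by rw [hc, zero_mulVec]))
  have hli : LinearIndependent K ![v, N *ᵥ v, N *ᵥ (N *ᵥ v)] := by
    rw [Fintype.linearIndependent_iff]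
    intro g hg i
    simp [Fin.sum_univ_three] at hg
    have h0 : g 0 = 0 := by
      have := congrArg ((N * N) *ᵥ ·) hg
      simp only [mulVec_add, mulVec_smul, mulVec_zero, mulVec_mulVec] at this
      rw [h3, ← mul_assoc, h3, zero_mul] at this
      simp only [zero_mulVec, smul_zero, add_zero] at this
      exact (smul_eq_zero.mp this).resolve_right hv
    rw [h0, zero_smul, zero_add] at hg
    have h1 : g 1 = 0 := by
      have := congrArg (N *ᵥ ·) hg
      simp only [mulVec_add, mulVec_smul, mulVec_zero, mulVec_mulVec] at this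
      rw [← mul_assoc, h3] at this
      simp only [zero_mulVec, smul_zero, add_zero] at this
      exact (smul_eq_zero.mp this).resolve_right hv
    rw [h1, zero_smul, zero_add] at hg
    have h22 := (smul_eq_zero.mp hg).resolve_right hv
    fin_cases i <;> assumption
  let B := basisOfLinearIndependentOfCardEqFinrank hli (by simp)
  refine ⟨B.repr (X *ᵥ v) 0, B.repr (X *ᵥ v) 1, B.repr (X *ᵥ v) 2, ?_⟩
  set Y := B.repr (X *ᵥ v) 0 • (1 : Matrix (Fin 3) (Fin 3) K) + B.repr (X *ᵥ v) 1 • N +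
    B.repr (X *ᵥ v) 2 • (N * N)
  have hY : Commute Y N :=
    (((Commute.one_left N).smul_left _).add_left ((Commute.refl N).smul_left _)).add_left
      (((Commute.refl N).mul_left (Commute.refl N)).smul_left _)
  have hv' : X *ᵥ v = Y *ᵥ v := by
    have hs := B.sum_repr (X *ᵥ v)
    simp [Fin.sum_univ_three, B] at hs
    conv_lhs => rw [← hs]
    simp [Y, B, add_mulVec, smul_mulVec, mulVec_mulVec]
  have hcomm : ∀ {A : Matrix (Fin 3) (Fin 3) K}, Commute A N → ∀ w, A *ᵥ (N *ᵥ w) = N *ᵥ (A *ᵥ w) :=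
    fun hA w => by rw [mulVec_mulVec, mulVec_mulVec, hA.eq]
  refine Matrix.toLin'.injective (B.ext fun i => ?_)
  fin_cases i <;> simp only [B, coe_basisOfLinearIndependentOfCardEqFinrank, Matrix.toLin'_apply]
  · exact hv'
  · show X *ᵥ (N *ᵥ v) = Y *ᵥ (N *ᵥ v)
    rw [hcomm hX, hcomm hY, hv']
  · show X *ᵥ (N *ᵥ (N *ᵥ v)) = Y *ᵥ (N *ᵥ (N *ᵥ v))
    rw [hcomm hX, hcomm hX, hcomm hY, hcomm hY, hv']

/-- The defining characteristic: the root field embeds in the field of `p ^ α` elements and every twist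
normalising is by the trivial field automorphism. -/
theorem Sec.defining (σ : Sec π) (hInn : Cfsg.Inn (Matrix.ProjectiveSpecialLinearGroup (Fin 2) E) ≤ π.range)
    [CharP E p] (hp2 : p ≠ 2) :
    (∀ t : E, t ^ p ^ α = t) ∧ ∀ (d : Eˣ) (τ : E ≃+* E), twist d τ ∈ π.range → τ = 1 := by
  set N := ((σ.S 1 : GL (Fin 3) K) : Matrix (Fin 3) (Fin 3) K) - 1 with hN
  have hpow : ∀ t : E, ((σ.S t : P) : GL (Fin 3) K) ^ p = 1 := fun t => by
    rw [← Subgroup.coe_pow, σ.pow_char h, Subgroup.coe_one]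
  have hNp : N ^ p = 0 := by
    rw [hN, sub_pow_char_of_commute p (Commute.one_right _), one_pow, ← Units.val_pow_eq_pow_val, hpow,
      Units.val_one, sub_self]
  have h3 : N * N * N = 0 := by
    have hnil := Matrix.isNilpotent_charpoly_sub_pow_of_isNilpotent (M := N) ⟨p, hNp⟩
    have h0 := Matrix.aeval_self_charpoly N
    rw [sub_eq_zero.mp hnil.eq_zero, Fintype.card_fin, map_pow, Polynomial.aeval_X] at h0
    rwa [pow_succ, pow_two] at h0
  have h2 : N * N ≠ 0 := fun e => σ.ne_one h (eq_one_of_sq_zero h.sl h.tf (σ.S 1).2 (hpow 1) e)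
  have hS : ∀ t : E, ∃ a b : K, ((σ.S t : GL (Fin 3) K) : Matrix (Fin 3) (Fin 3) K) =
      1 + a • N + b • (N * N) := by
    intro t
    have hc : Commute ((σ.S t : GL (Fin 3) K) : Matrix (Fin 3) (Fin 3) K) N := by
      rw [hN]
      refine Commute.sub_right ?_ (Commute.one_right _)
      exact congrArg (fun z : P => ((z : GL (Fin 3) K) : Matrix (Fin 3) (Fin 3) K)) (σ.commute h t 1).eq
    obtain ⟨c, a, b, he⟩ := coeff_exists h3 h2 hc
    refine ⟨a, b, ?_⟩
    have hcp : c ^ p = 1 := by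
      have e := congrArg (fun z : GL (Fin 3) K => (z : Matrix (Fin 3) (Fin 3) K)) (hpow t)
      simp only [Units.val_pow_eq_pow_val, Units.val_one, he, add_assoc] at e
      rw [add_pow_char_of_commute p (((Commute.one_left _).smul_left c)), smul_pow, one_pow] at e
      have hz : (a • N + b • (N * N)) ^ p = 0 := by
        have hf : a • N + b • (N * N) = N * (a • 1 + b • N) := by
          rw [mul_add, mul_smul_comm, mul_smul_comm, mul_one]
        rw [hf, ((((Commute.one_right N).smul_right a)).add_right ((Commute.refl N).smul_right b)).mul_pow,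
          hNp, zero_mul]
      rw [hz, add_zero] at e
      simpa using congrFun (congrFun e 0) 0
    have hc1 : (c - 1) ^ p = 0 := by rw [sub_pow_char, hcp, one_pow, sub_self]
    rw [pow_eq_zero_iff (Fact.out : p.Prime).ne_zero, sub_eq_zero] at hc1
    rw [he, hc1, one_smul]
  choose f g hfg using hS
  have uniq : ∀ {t : E} {a b : K}, ((σ.S t : GL (Fin 3) K) : Matrix (Fin 3) (Fin 3) K) =
      1 + a • N + b • (N * N) → a = f t := by
    intro t a b e
    rw [hfg] at e
    have := (coeff_unique h3 h2 (a := 0) (b := f t - a) (c := g t - b) (by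
      rw [zero_smul, zero_add, sub_smul, sub_smul, sub_add_sub_comm, sub_eq_zero]
      rwa [add_assoc, add_assoc, add_right_inj] at e)).2.1
    exact (sub_eq_zero.mp this).symm
  have h4 : N * (N * N) = 0 := by rw [← mul_assoc, h3]
  have hadd : ∀ t u, f (t + u) = f t + f u := fun t u => by
    refine (uniq (b := g t + g u + f t * f u) ?_).symm
    rw [σ.map_add, Subgroup.coe_mul, Units.val_mul, hfg, hfg]
    simp only [add_mul, mul_add, one_mul, mul_one, smul_mul_assoc, mul_smul_comm, smul_smul, h3, h4,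
      mul_assoc, mul_zero, zero_mul, smul_zero, add_zero]
    module
  have hf1 : f 1 = 1 := (uniq (b := 0) (by rw [one_smul, zero_smul, add_zero, hN, add_sub_cancel])).symm
  have hf0 : ∀ t, f t = 0 → t = 0 := fun t ht => σ.inj h (Subtype.ext (eq_one_of_sq_zero h.sl h.tf
    (σ.S t).2 (hpow t) (by
      rw [hfg, ht, zero_smul, add_zero, add_sub_cancel_left, smul_mul_smul_comm,
        show N * N * (N * N) = 0 by rw [mul_assoc, h4, mul_zero], smul_zero])))
  -- normalising elements multiply the coefficient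
  have hnorm : ∀ (x : P) (φ : E → E), (∀ t, π x * uE t * (π x)⁻¹ = uE (φ t)) → ∀ t, f (φ t) = f (φ 1) * f t := by
    intro x φ hx t
    haveI : Fact p.Prime := inferInstance
    have hc := fun u => σ.conj h (s := p) (Or.inr rfl) hx u
    set X := ((x : GL (Fin 3) K) : Matrix (Fin 3) (Fin 3) K)
    set Y := (((x : GL (Fin 3) K)⁻¹ : GL (Fin 3) K) : Matrix (Fin 3) (Fin 3) K)
    have hXY : X * Y = 1 := by rw [← Units.val_mul, mul_inv_cancel, Units.val_one]
    have hYX : Y * X = 1 := by rw [← Units.val_mul, inv_mul_cancel, Units.val_one]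
    have hc' : ∀ u, X * ((σ.S u : GL (Fin 3) K) : Matrix (Fin 3) (Fin 3) K) * Y =
        ((σ.S (φ u) : GL (Fin 3) K) : Matrix (Fin 3) (Fin 3) K) := fun u => by
      rw [← hc u]; rfl
    have hXN : X * N * Y = f (φ 1) • N + g (φ 1) • (N * N) := by
      rw [hN, mul_sub, mul_one, sub_mul, hc', hXY, hfg, add_assoc, add_sub_cancel_left, ← hN]
    have hXNN : X * (N * N) * Y = (f (φ 1) * f (φ 1)) • (N * N) := by
      calc X * (N * N) * Y = X * N * (Y * X) * N * Y := by rw [hYX]; simp [mul_assoc]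
        _ = (X * N * Y) * (X * N * Y) := by simp [mul_assoc]
        _ = _ := by
          rw [hXN]
          simp only [add_mul, mul_add, smul_mul_assoc, mul_smul_comm, smul_smul, h3, h4, mul_assoc,
            mul_zero, zero_mul, smul_zero, add_zero]
    refine (uniq (b := f t * g (φ 1) + g t * (f (φ 1) * f (φ 1))) ?_).symm
    rw [← hc', hfg, mul_add, mul_add, add_mul, add_mul, mul_one, hXY, mul_smul_comm, mul_smul_comm,
      smul_mul_assoc, smul_mul_assoc, hXN, hXNN]
    module
  have hsq : ∀ b t : E, f (b ^ 2 * t) = f (b ^ 2) * f t := by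
    intro b t
    by_cases hb : b = 0
    · have : f 0 = 0 := by have := hadd 0 0; rw [add_zero] at this; exact left_eq_add.mp this
      simp [hb, this]
    obtain ⟨W, hW⟩ := hInn (tor_mem_inn (Units.mk0 b hb))
    have := hnorm W (fun u => b ^ 2 * u) (fun u => by rw [hW, tor_uE, Units.val_mk0]) t
    simpa using this
  have hne2 : (2 : E) ≠ 0 := fun e => hp2 ((Nat.prime_dvd_prime_iff_eq Fact.out Nat.prime_two).mp
    ((CharP.cast_eq_zero_iff E p 2).mp (by exact_mod_cast e)))
  have hmul : ∀ m t : E, f (m * t) = f m * f t := by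
    intro m t
    have he : m = ((m + 1) / 2) ^ 2 - ((m - 1) / 2) ^ 2 := by field_simp; ring
    have hsub : ∀ u v, f (u - v) = f u - f v := fun u v => by
      rw [eq_sub_iff_add_eq, ← hadd, sub_add_cancel]
    rw [he, sub_mul, hsub, hsub, hsq, hsq, sub_mul]
  let F : E →+* K :=
    { toFun := f
      map_one' := hf1
      map_mul' := hmul
      map_zero' := by have := hadd 0 0; rw [add_zero] at this; exact left_eq_add.mp this
      map_add' := hadd }
  refine ⟨fun t => ?_, fun d τ hm => ?_⟩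
  · apply F.injective
    rw [map_pow]
    set φ := iterateFrobenius K p α
    have hmapS : ∀ u, ((σ.S u : GL (Fin 3) K) : Matrix (Fin 3) (Fin 3) K).map φ =
        ((σ.S u : GL (Fin 3) K) : Matrix (Fin 3) (Fin 3) K) := fun u => Matrix.ext fun i j => by
      rw [Matrix.map_apply, iterateFrobenius_def, h.fix _ (σ.S u).2]
    have hmapN : N.map φ = N := by
      rw [hN, Matrix.map_sub _ (_root_.map_sub φ), hmapS, Matrix.map_one _ (_root_.map_zero φ) (_root_.map_one φ)]
    show f t ^ p ^ α = f t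
    refine uniq (b := φ (g t)) ?_
    rw [← iterateFrobenius_def (R := K) (p := p) (n := α) (f t)]
    conv_lhs => rw [← hmapS t, hfg t]
    have hsm : ∀ (c : K) (A : Matrix (Fin 3) (Fin 3) K), (c • A).map φ = φ c • A.map φ := fun c A =>
      Matrix.ext fun i j => by simp [Matrix.map_apply]
    rw [Matrix.map_add _ (_root_.map_add φ), Matrix.map_add _ (_root_.map_add φ), Matrix.map_one _ (_root_.map_zero φ) (_root_.map_one φ),
      hsm, hsm, Matrix.map_mul, hmapN]
  · obtain ⟨x, hx⟩ := hm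
    have hn := hnorm x (fun u => (d : E) * τ u) (fun u => by rw [hx, twist_uE])
    refine RingEquiv.ext fun t => F.injective ?_
    have h1 := hn t
    simp only [map_one, mul_one, hmul] at h1
    exact mul_left_cancel₀ (fun e => d.ne_zero (hf0 _ e)) h1

end Defining

end Cfsg.Agent.Lib.Mitchell3
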