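import Cfsg.Agent.Lib.Mitchell3.PGLTwo

/-!
Mitchell package: the standing hypotheses of the transvection-free case; lifting of involutions from the
central quotient, centralisers, frames of four-groups, and the 2-rank.
-/

set_option autoImplicit false
set_option linter.unusedSectionVars false
set_option linter.style.haveILetI false

namespace Cfsg.Agent.Lib.Mitchell3

open Matrix Module
open Cfsg.Agent.Lib.Subspaces.Transvection

variable {K : Type*} [Field K]

/-- The scalars of `G`, as a subgroup of `G`. -/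
abbrev scIn (G : Subgroup (GL (Fin 3) K)) : Subgroup G :=
  (Cfsg.Geo.scalars (Fin 3) K).subgroupOf G

/-- The standing hypotheses. -/
structure Ctx (G : Subgroup (GL (Fin 3) K)) : Prop where
  fin : Finite G
  loc : LocFin K
  two : (2 : K) ≠ 0
  sl : InSL G
  tf : IsTF G
  simple : IsSimpleGroup (G ⧸ scIn G)
  nonab : ¬ IsMulCommutative (G ⧸ scIn G)

variable {G : Subgroup (GL (Fin 3) K)}

theorem isSc_iff {g : GL (Fin 3) K} : IsSc g ↔ g ∈ Cfsg.Geo.scalars (Fin 3) K := by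
  rw [Cfsg.Geo.mem_scalars_iff]
  constructor
  · rintro ⟨c, hc⟩
    have hc0 : c ≠ 0 := fun e => by
      have h := congrArg Matrix.det hc
      rw [e, zero_smul, Matrix.det_zero] at h
      exact (Matrix.isUnit_iff_isUnit_det _).mp g.isUnit |>.ne_zero h
    exact ⟨Units.mk0 c hc0, hc⟩
  · rintro ⟨c, hc⟩
    exact ⟨c, hc⟩

theorem mem_scIn {g : G} : g ∈ scIn G ↔ IsSc (g : GL (Fin 3) K) := isSc_iff.symm

theorem sc_commute {z : GL (Fin 3) K} (hz : IsSc z) (x : GL (Fin 3) K) : Commute z x := by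
  obtain ⟨c, hc⟩ := hz
  exact Units.ext (by simp [hc])

theorem sc_pow_three (hSL : InSL G) {z : GL (Fin 3) K} (hz : z ∈ G) (hs : IsSc z) : z ^ 3 = 1 := by
  obtain ⟨c, hc⟩ := hs
  have hd := hSL z hz
  rw [hc, det_smul, det_one, mul_one, Fintype.card_fin] at hd
  refine Units.ext ?_
  rw [Units.val_pow_eq_pow_val, hc, Units.val_one, pow_succ, pow_two]
  simp [smul_smul]
  rw [show c * (c * c) = c ^ 3 by ring, hd, one_smul]

theorem sc_invol_eq_one (hSL : InSL G) {z : GL (Fin 3) K} (hz : z ∈ G) (hs : IsSc z)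
    (h2 : z * z = 1) : z = 1 := by
  have h3 := sc_pow_three hSL hz hs
  rw [pow_succ, pow_two, h2, one_mul] at h3
  exact h3

/-- Two involutions differing by a scalar are equal. -/
theorem invol_eq_of_sc (hSL : InSL G) {x y : GL (Fin 3) K} (hx : x ∈ G) (hy : y ∈ G)
    (ox : orderOf x = 2) (oy : orderOf y = 2) (hs : IsSc (x⁻¹ * y)) : x = y := by
  have hz : x⁻¹ * y ∈ G := G.mul_mem (G.inv_mem hx) hy
  have x2 : x * x = 1 := by rw [← pow_two, ← ox]; exact pow_orderOf_eq_one x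
  have y2 : y * y = 1 := by rw [← pow_two, ← oy]; exact pow_orderOf_eq_one y
  have hc := sc_commute hs x
  have h1 : (x⁻¹ * y) * (x⁻¹ * y) = 1 := by
    have hxi : x⁻¹ = x := inv_eq_of_mul_eq_one_right x2
    rw [hxi] at hc ⊢
    calc x * y * (x * y) = (x * y) * x * y := by group
      _ = x * (x * y) * y := by rw [hc.eq]
      _ = (x * x) * (y * y) := by group
      _ = 1 := by rw [x2, y2, one_mul]
  exact inv_mul_eq_one.mp (sc_invol_eq_one hSL hz hs h1)

section Frame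

theorem eig_swap {M N : Matrix (Fin 3) (Fin 3) K} {v : Fin 3 → K} (hM : ∃ e : K, M *ᵥ v = e • v)
    (hN : ∃ e : K, N *ᵥ v = e • v) : M *ᵥ (N *ᵥ v) = N *ᵥ (M *ᵥ v) := by
  obtain ⟨e, he⟩ := hM
  obtain ⟨f, hf⟩ := hN
  rw [hf, mulVec_smul, he, mulVec_smul, hf, smul_smul, smul_smul, mul_comm]

/-- Two matrices agreeing on the three centres of a frame are equal. -/
theorem frame_ext {a φ b ψ c χ : Fin 3 → K} (ha : φ ⬝ᵥ a = 1) (hb : ψ ⬝ᵥ b = 1) (hc : χ ⬝ᵥ c = 1)
    (hab : φ ⬝ᵥ b = 0) (hac : φ ⬝ᵥ c = 0) (hba : ψ ⬝ᵥ a = 0) (hbc : ψ ⬝ᵥ c = 0)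
    (hca : χ ⬝ᵥ a = 0) (hcb : χ ⬝ᵥ b = 0) :
    LinearIndependent K ![a, b, c] ∧
    ∀ M N : Matrix (Fin 3) (Fin 3) K, M *ᵥ a = N *ᵥ a → M *ᵥ b = N *ᵥ b → M *ᵥ c = N *ᵥ c → M = N := by
  have hli : LinearIndependent K ![a, b, c] := by
    rw [Fintype.linearIndependent_iff]
    intro g hg i
    simp [Fin.sum_univ_three] at hg
    have h0 := congrArg (φ ⬝ᵥ ·) hg
    have h1 := congrArg (ψ ⬝ᵥ ·) hg
    have h2 := congrArg (χ ⬝ᵥ ·) hg
    simp [ha, hb, hc, hab, hac, hba, hbc, hca, hcb] at h0 h1 h2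
    fin_cases i <;> assumption
  refine ⟨hli, fun M N h0 h1 h2 => ?_⟩
  let B := basisOfLinearIndependentOfCardEqFinrank hli (by simp)
  refine Matrix.toLin'.injective (B.ext fun i => ?_)
  fin_cases i <;> simp [B, Matrix.toLin'_apply, h0, h1, h2]

/-- A vector killed by the three functionals of a frame vanishes. -/
theorem frame_zero {a φ b ψ c χ : Fin 3 → K} (ha : φ ⬝ᵥ a = 1) (hb : ψ ⬝ᵥ b = 1) (hc : χ ⬝ᵥ c = 1)
    (hab : φ ⬝ᵥ b = 0) (hac : φ ⬝ᵥ c = 0) (hba : ψ ⬝ᵥ a = 0) (hbc : ψ ⬝ᵥ c = 0)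
    (hca : χ ⬝ᵥ a = 0) (hcb : χ ⬝ᵥ b = 0) {d : Fin 3 → K} (h0 : φ ⬝ᵥ d = 0) (h1 : ψ ⬝ᵥ d = 0)
    (h2 : χ ⬝ᵥ d = 0) : d = 0 := by
  have hli := (frame_ext ha hb hc hab hac hba hbc hca hcb).1
  let B := basisOfLinearIndependentOfCardEqFinrank hli (by simp)
  have hs := B.sum_repr d
  simp [Fin.sum_univ_three, B] at hs
  rw [← hs] at h0 h1 h2 ⊢
  simp [ha, hb, hc, hab, hac, hba, hbc, hca, hcb] at h0 h1 h2
  simp [h0, h1, h2]

variable (hSL : InSL G) (hTF : IsTF G) (h2 : (2 : K) ≠ 0) {t s : GL (Fin 3) K}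
include hSL hTF h2

/-- The centraliser of a four-group is abelian. -/
theorem commute_of_four (ht : t ∈ G) (hs : s ∈ G) (ot : orderOf t = 2) (os : orderOf s = 2)
    (hc : Commute t s) (hne : t ≠ s) {x y : GL (Fin 3) K} (hxt : Commute x t) (hxs : Commute x s)
    (hyt : Commute y t) (hys : Commute y s) : Commute x y := by
  obtain ⟨a, φ, b, ψ, c, χ, hd, hds, hdu, f1, f2, f3, f4, f5, f6⟩ :=
    four_frame hSL hTF h2 ht hs ot os hc hne
  refine Units.ext ((frame_ext hd.dot hds.dot hdu.dot f1 f2 f3 f4 f5 f6).2 _ _ ?_ ?_ ?_) <;>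
    simp only [Units.val_mul, ← mulVec_mulVec]
  · exact eig_swap ⟨_, hd.comm_centre hxt⟩ ⟨_, hd.comm_centre hyt⟩
  · exact eig_swap ⟨_, hds.comm_centre hxs⟩ ⟨_, hds.comm_centre hys⟩
  · exact eig_swap ⟨_, hdu.comm_centre (hxt.mul_right hxs)⟩ ⟨_, hdu.comm_centre (hyt.mul_right hys)⟩

/-- An involution centralising a four-group lies in it. -/
theorem invol_mem_four (ht : t ∈ G) (hs : s ∈ G) (ot : orderOf t = 2) (os : orderOf s = 2)
    (hc : Commute t s) (hne : t ≠ s) {u : GL (Fin 3) K} (hu : u ∈ G) (ou : orderOf u = 2)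
    (hut : Commute u t) (hus : Commute u s) : u = t ∨ u = s ∨ u = t * s := by
  by_contra hcon
  push Not at hcon
  obtain ⟨a, φ, b, ψ, c, χ, hd, hds, hdu, f1, f2, f3, f4, f5, f6⟩ :=
    four_frame hSL hTF h2 ht hs ot os hc hne
  obtain ⟨d, ω, hdd⟩ := invol_homData hSL hTF h2 hu ou
  exact hdd.ne_zero (frame_zero hd.dot hds.dot hdu.dot f1 f2 f3 f4 f5 f6
    (centre_on_axis hTF h2 ht hu hd hdd hut.symm (Ne.symm hcon.1))
    (centre_on_axis hTF h2 hs hu hds hdd hus.symm (Ne.symm hcon.2.1))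
    (centre_on_axis hTF h2 (G.mul_mem ht hs) hu hdu hdd (hut.mul_right hus).symm (Ne.symm hcon.2.2)))

end Frame

/-- An element of order `p` fixes pointwise a vector of every non-zero invariant subspace. -/
theorem exists_fixed_in {p : ℕ} [Fact p.Prime] [CharP K p] {x : GL (Fin 3) K} (hx : x ^ p = 1)
    {W : Submodule K (Fin 3 → K)} (hW : ∀ w ∈ W, (x : Matrix (Fin 3) (Fin 3) K) *ᵥ w ∈ W)
    {w : Fin 3 → K} (hw : w ∈ W) (hw0 : w ≠ 0) :
    ∃ u ∈ W, u ≠ 0 ∧ (x : Matrix (Fin 3) (Fin 3) K) *ᵥ u = u := by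
  classical
  set N : Matrix (Fin 3) (Fin 3) K := (x : Matrix (Fin 3) (Fin 3) K) - 1 with hN
  have hNp : N ^ p = 0 := by
    rw [hN, sub_pow_char_of_commute p (Commute.one_right _), one_pow, ← Units.val_pow_eq_pow_val, hx,
      Units.val_one, sub_self]
  have hmem : ∀ k, (N ^ k) *ᵥ w ∈ W := fun k => by
    induction k with
    | zero => simpa using hw
    | succ k ih =>
      rw [pow_succ', ← mulVec_mulVec, hN, sub_mulVec, one_mulVec]
      exact W.sub_mem (hW _ ih) ih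
  have hex : ∃ k, (N ^ k) *ᵥ w = 0 := ⟨p, by rw [hNp, zero_mulVec]⟩
  have hk := Nat.find_spec hex
  have hk0 : Nat.find hex ≠ 0 := fun e => hw0 (by simpa [e] using hk)
  obtain ⟨j, hj⟩ := Nat.exists_eq_succ_of_ne_zero hk0
  refine ⟨(N ^ j) *ᵥ w, hmem j, Nat.find_min hex (by omega), ?_⟩
  rw [hj, pow_succ', ← mulVec_mulVec, hN, sub_mulVec, one_mulVec, sub_eq_zero] at hk
  exact hk

/-- A homology has no element of order `p` in its centraliser. -/
theorem not_dvd_cenG {p : ℕ} [Fact p.Prime] [CharP K p] [Finite G] (hSL : InSL G) (hTF : IsTF G)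
    {g : GL (Fin 3) K} {a φ : Fin 3 → K} {l : K} (h : HomData g a φ l) :
    ¬ p ∣ Nat.card (cenG G g) := by
  intro hdvd
  haveI : Finite (cenG G g) := Finite.of_injective _ (Subgroup.inclusion_injective inf_le_left)
  obtain ⟨x, hx⟩ := exists_prime_orderOf_dvd_card' p hdvd
  obtain ⟨hxG, hxg⟩ := mem_cenG.mp x.2
  have hxp : (x : GL (Fin 3) K) ^ p = 1 := by
    rw [← Subgroup.coe_pow, show x ^ p = 1 by rw [← hx]; exact pow_orderOf_eq_one x, Subgroup.coe_one]
  have hxa := h.comm_centre hxg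
  obtain ⟨u, hu, hu0, hfu⟩ := exists_fixed_in (x := (x : GL (Fin 3) K)) hxp
    (W := Submodule.span K {a}) (w := a) (fun w hw => by
      obtain ⟨c, rfl⟩ := Submodule.mem_span_singleton.mp hw
      rw [mulVec_smul, hxa, smul_smul]
      exact Submodule.smul_mem _ _ (Submodule.mem_span_singleton_self a))
    (Submodule.mem_span_singleton_self a) h.ne_zero
  have hax : ∀ w, φ ⬝ᵥ w = 0 → φ ⬝ᵥ (((x : GL (Fin 3) K) : Matrix (Fin 3) (Fin 3) K) *ᵥ w) = 0 := by
    intro w hw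
    have h1 : (g : Matrix (Fin 3) (Fin 3) K) *ᵥ (((x : GL (Fin 3) K) : Matrix (Fin 3) (Fin 3) K) *ᵥ w) =
        l • (((x : GL (Fin 3) K) : Matrix (Fin 3) (Fin 3) K) *ᵥ w) := by
      rw [← gl_mul_mulVec, ← hxg.eq, gl_mul_mulVec, h.axis hw, mulVec_smul]
    rw [h.mulVec_eq, add_eq_left, smul_eq_zero] at h1
    exact (mul_eq_zero.mp (h1.resolve_right h.ne_zero)).resolve_left h.diff_ne
  set W := LinearMap.ker (dotProductEquiv K (Fin 3) φ) with hW
  have hmW : ∀ w, w ∈ W ↔ φ ⬝ᵥ w = 0 := fun w => by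
    rw [hW, LinearMap.mem_ker, dotProductEquiv_apply_apply]
  obtain ⟨w, hw, hw0⟩ := Submodule.exists_mem_ne_zero_of_ne_bot (p := W) fun e => by
    have h1 := LinearMap.finrank_range_add_finrank_ker (dotProductEquiv K (Fin 3) φ)
    have h2 := Submodule.finrank_le (LinearMap.range (dotProductEquiv K (Fin 3) φ))
    rw [finrank_fin_fun, ← hW, e, finrank_bot, finrank_self] at *
    omega
  obtain ⟨v, hv, hv0, hfv⟩ := exists_fixed_in (x := (x : GL (Fin 3) K)) hxp (W := W)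
    (fun w hw => (hmW _).mpr (hax w ((hmW _).mp hw))) hw hw0
  obtain ⟨d, rfl⟩ := Submodule.mem_span_singleton.mp hu
  set M := ((x : GL (Fin 3) K) : Matrix (Fin 3) (Fin 3) K) - (1 : K) • 1 with hM
  have hmem : ∀ y, ((x : GL (Fin 3) K) : Matrix (Fin 3) (Fin 3) K) *ᵥ y = y →
      y ∈ LinearMap.ker (Matrix.toLin' M) := fun y hy => by
    rw [LinearMap.mem_ker, Matrix.toLin'_apply, hM, sub_mulVec, one_smul, one_mulVec, hy, sub_self]
  have h2le : 2 ≤ finrank K (LinearMap.ker (Matrix.toLin' M)) := by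
    have hli : LinearIndependent K ![d • a, v] := by
      rw [LinearIndependent.pair_iff]
      intro c e hce
      have := congrArg (φ ⬝ᵥ ·) hce
      simp [h.dot, (hmW v).mp hv] at this
      have hd0 : d ≠ 0 := fun e0 => hu0 (by rw [e0, zero_smul])
      have hc : c = 0 := this.resolve_right hd0
      rw [hc, zero_smul, zero_add] at hce
      exact ⟨hc, (smul_eq_zero.mp hce).resolve_right hv0⟩
    have hle : Submodule.span K (Set.range ![d • a, v]) ≤ LinearMap.ker (Matrix.toLin' M) := by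
      rw [Submodule.span_le]
      rintro _ ⟨i, rfl⟩
      fin_cases i
      · exact hmem _ hfu
      · exact hmem _ hfv
    have := Submodule.finrank_mono hle
    rwa [finrank_span_eq_card hli, Fintype.card_fin] at this
  have hns : ¬ IsSc (x : GL (Fin 3) K) := by
    rintro ⟨c, hc⟩
    have h1 : c = 1 := by
      have := hfv
      rw [hc, smul_mulVec, one_mulVec] at this
      exact smul_left_injective K hv0 (this.trans (one_smul K v).symm)
    have hx1 : (x : GL (Fin 3) K) = 1 := Units.ext (by rw [hc, h1, one_smul, Units.val_one])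
    rw [← Subgroup.orderOf_coe, hx1, orderOf_one] at hx
    exact (Fact.out : p.Prime).ne_one hx.symm
  obtain ⟨b, ψ, m, hxd⟩ := isHom_of_eigenspace hSL hTF hxG hns 1 h2le
  have hpow : ∀ k : ℕ, (((x : GL (Fin 3) K) ^ k : GL (Fin 3) K) : Matrix (Fin 3) (Fin 3) K) =
      homMat b ψ (m ^ k) := fun k => by
    induction k with
    | zero => rw [pow_zero, pow_zero, homMat_one, Units.val_one]
    | succ k ih => rw [pow_succ, Units.val_mul, ih, hxd.2.2.2, homMat_mul hxd.dot, pow_succ]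
  have hm1 : m ^ p = 1 := homMat_inj hxd.dot (by rw [← hpow, hxp, homMat_one, Units.val_one])
  have : m = 1 := by
    have h0 : (m - 1) ^ p = 0 := by rw [sub_pow_char, hm1, one_pow, sub_self]
    exact sub_eq_zero.mp (pow_eq_zero_iff (Fact.out : p.Prime).ne_zero |>.mp h0)
  exact hxd.2.2.1 (by rw [this, one_pow])

section Quotient

variable (hSL : InSL G)
include hSL

/-- Involutions of the central quotient lift uniquely to involutions. -/
theorem exists_invol_lift {q : G ⧸ scIn G} (hq : orderOf q = 2) :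
    ∃ x : G, orderOf (x : GL (Fin 3) K) = 2 ∧ QuotientGroup.mk' (scIn G) x = q := by
  obtain ⟨x, rfl⟩ := QuotientGroup.mk'_surjective (scIn G) q
  have hx2 : x ^ 2 ∈ scIn G := by
    have h1 : QuotientGroup.mk' (scIn G) (x ^ 2) = 1 := by
      rw [map_pow, ← hq]; exact pow_orderOf_eq_one _
    exact (QuotientGroup.eq_one_iff _).mp h1
  have hx6 : (x : GL (Fin 3) K) ^ 6 = 1 := by
    have := sc_pow_three hSL (G.pow_mem x.2 2) (mem_scIn.mp hx2)
    rwa [← pow_mul] at this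
  refine ⟨x ^ 3, ?_, ?_⟩
  · rw [Subgroup.coe_pow]
    refine orderOf_eq_prime (by rw [← pow_mul]; exact hx6) fun h => ?_
    have h3 : QuotientGroup.mk' (scIn G) x ^ 3 = 1 := by
      rw [← map_pow, show x ^ 3 = 1 from Subtype.ext (by rw [Subgroup.coe_pow, h]; rfl), map_one]
    have h1 := orderOf_dvd_of_pow_eq_one h3
    rw [hq] at h1
    norm_num at h1
  · rw [map_pow, pow_succ, ← hq, pow_orderOf_eq_one, one_mul]

theorem mk_invol_ne_one {t : G} (ot : orderOf (t : GL (Fin 3) K) = 2) :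
    orderOf (QuotientGroup.mk' (scIn G) t) = 2 := by
  have t2 : t ^ 2 = 1 := Subtype.ext (by rw [Subgroup.coe_pow, ← ot]; exact pow_orderOf_eq_one _)
  refine orderOf_eq_prime (by rw [← map_pow, t2, map_one]) fun h => ?_
  have h1 := sc_invol_eq_one hSL t.2 (mem_scIn.mp ((QuotientGroup.eq_one_iff t).mp h))
    (by rw [← pow_two, ← ot]; exact pow_orderOf_eq_one _)
  rw [h1, orderOf_one] at ot
  exact absurd ot (by decide)

/-- Commuting with an involution can be checked in the central quotient. -/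
theorem commute_of_mk {t x : G} (ot : orderOf (t : GL (Fin 3) K) = 2)
    (h : Commute (QuotientGroup.mk' (scIn G) x) (QuotientGroup.mk' (scIn G) t)) :
    Commute (x : GL (Fin 3) K) t := by
  have ou : orderOf ((x * t * x⁻¹ : G) : GL (Fin 3) K) = 2 := by
    rw [Subgroup.coe_mul, Subgroup.coe_mul, Subgroup.coe_inv,
      ← MulAut.conj_apply (x : GL (Fin 3) K) (t : GL (Fin 3) K),
      MulEquiv.orderOf_eq]
    exact ot
  have hs : t⁻¹ * (x * t * x⁻¹) ∈ scIn G := by
    rw [← QuotientGroup.eq_one_iff]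
    show QuotientGroup.mk' (scIn G) _ = 1
    rw [map_mul, map_mul, map_mul, map_inv, map_inv, h.eq]
    group
  have h1 := invol_eq_of_sc hSL t.2 (x * t * x⁻¹ : G).2 ot ou (mem_scIn.mp hs)
  show (x : GL (Fin 3) K) * t = t * x
  nth_rw 2 [h1]
  simp

end Quotient

end Cfsg.Agent.Lib.Mitchell3
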