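import Cfsg.Agent.Lib.Mitchell3.Setup
import Cfsg.Agent.S0516
import Cfsg.Agent.S1141
import Cfsg.Agent.S1193
import Cfsg.Agent.S1197
import Cfsg.Agent.S1213

/-!
Mitchell package: if the Sylow 2-subgroups of the central quotient are not dihedral, the centraliser of
each involution induces the symmetric group of degree four on its axis.
-/

set_option autoImplicit false
set_option linter.unusedSectionVars false
set_option linter.style.haveILetI false

namespace Cfsg.Agent.Lib.Mitchell3

open Matrix Module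

variable {K : Type*} [Field K]

theorem quaternion_not_cyclic {m : ℕ} (hm : 1 ≤ m) : ¬ IsCyclic (QuaternionGroup (2 ^ m)) := by
  intro h
  letI : CommGroup (QuaternionGroup (2 ^ m)) := IsCyclic.commGroup
  have h1 := mul_comm (QuaternionGroup.a 1 : QuaternionGroup (2 ^ m)) (QuaternionGroup.xa 0)
  rw [QuaternionGroup.a_mul_xa, QuaternionGroup.xa_mul_a] at h1
  have h2 : ((2 : ℕ) : ZMod (2 * 2 ^ m)) = 0 := by
    have h3 := QuaternionGroup.xa.inj h1
    push_cast
    linear_combination -h3
  rw [ZMod.natCast_eq_zero_iff] at h2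
  have h5 : 4 ≤ 2 * 2 ^ m := by
    have : 2 ^ 1 ≤ 2 ^ m := Nat.pow_le_pow_right (by norm_num) hm
    omega
  have := Nat.le_of_dvd (by norm_num) h2
  omega

/-- In a semidihedral or wreathed group the quotient by the centre is not abelian, and there is an
involution besides the central one. -/
theorem sd_wreathed_facts {S : Type*} [Group S] [Finite S]
    (h : Cfsg.IsQuasiDihedral S ∨ Cfsg.IsWreathed S) :
    (∃ a b : S, a * b * a⁻¹ * b⁻¹ ∉ Subgroup.center S) ∧
      ∃ u v : S, orderOf u = 2 ∧ orderOf v = 2 ∧ u ≠ v := by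
  have hnc : ∀ (T : Subgroup S), ¬ commutator S ≤ T → ∃ a b : S, a * b * a⁻¹ * b⁻¹ ∉ T := by
    intro T hT
    by_contra hcon
    push Not at hcon
    exact hT (Subgroup.commutator_le.mpr fun a _ b _ => hcon a b)
  have hinv : ∀ z : S, orderOf z = 2 → z ∉ Subgroup.center S → IsPGroup 2 S →
      ∃ u v : S, orderOf u = 2 ∧ orderOf v = 2 ∧ u ≠ v := by
    intro z hz hzc hS
    haveI : Nontrivial S := ⟨z, 1, fun e => hzc (e ▸ one_mem _)⟩
    haveI := hS.center_nontrivial
    obtain ⟨u, hu⟩ : ∃ u : Subgroup.center S, orderOf u = 2 := by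
      haveI : Fact (Nat.Prime 2) := ⟨Nat.prime_two⟩
      refine exists_prime_orderOf_dvd_card' 2 ?_
      obtain ⟨n, hn0, hn⟩ := (hS.to_subgroup (Subgroup.center S)).exists_card_eq.imp'
        (fun n => n) (fun n hn => (⟨by
          rintro rfl
          rw [pow_zero] at hn
          exact absurd hn Finite.one_lt_card.ne', hn⟩ : n ≠ 0 ∧ _))
      exact hn ▸ dvd_pow_self 2 hn0
    exact ⟨u, z, by rw [Subgroup.orderOf_coe]; exact hu, hz, fun e => hzc (e ▸ u.2)⟩
  rcases h with h | h
  · obtain ⟨n, hn, hc, x, y, hx, hy, hyx⟩ := h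
    have hS : IsPGroup 2 S := IsPGroup.of_card hc
    obtain ⟨-, -, hcomm, hcen, -⟩ := S1193.result ⟨n, hn, hc, x, y, hx, hy, hyx⟩ n hc
    refine ⟨hnc _ fun hle => ?_, hinv y hy (fun hyc => ?_) hS⟩
    · have := Subgroup.card_le_of_le hle
      rw [hcomm, hcen] at this
      have h4 : 2 ^ 2 ≤ 2 ^ (n - 1) := Nat.pow_le_pow_right (by norm_num) (by omega)
      omega
    · have h1 : y * x * y⁻¹ = x := by
        rw [← Subgroup.mem_center_iff.mp hyc x]; group
      rw [h1] at hyx
      have h4 : 2 ^ 2 ≤ 2 ^ (n - 1) := Nat.pow_le_pow_right (by norm_num) (by omega)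
      have h2n : 2 ^ (n - 1) * 2 = 2 ^ n := by rw [← pow_succ]; congr 1; omega
      have h0 : x ^ (2 ^ (n - 1) - 2) = 1 := by
        have e : x ^ (2 ^ (n - 1) - 2) * x = 1 * x := by
          rw [one_mul, ← pow_succ, show 2 ^ (n - 1) - 2 + 1 = 2 ^ (n - 1) - 1 by omega, ← hyx]
        exact mul_right_cancel e
      have := Nat.le_of_dvd (by omega) (hx ▸ orderOf_dvd_of_pow_eq_one h0)
      omega
  · obtain ⟨n, hn, hc, x, y, z, hx, hxy, hd, hz, hzx⟩ := h
    have hS : IsPGroup 2 S := IsPGroup.of_card hc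
    obtain ⟨-, -, -, -, ⟨e⟩⟩ := S1197.result ⟨n, hn, hc, x, y, z, hx, hxy, hd, hz, hzx⟩ n hc
    refine ⟨?_, hinv z hz (fun hzc => ?_) hS⟩
    · obtain ⟨a, ha⟩ := e.surjective (DihedralGroup.r 1)
      obtain ⟨b, hb⟩ := e.surjective (DihedralGroup.sr 0)
      obtain ⟨a, rfl⟩ := QuotientGroup.mk_surjective a
      obtain ⟨b, rfl⟩ := QuotientGroup.mk_surjective b
      refine ⟨a, b, fun hab => ?_⟩
      have h1 : e ((a * b * a⁻¹ * b⁻¹ : S) : S ⧸ Subgroup.center S) = 1 := by
        rw [(QuotientGroup.eq_one_iff _).mpr hab, map_one]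
      simp only [QuotientGroup.mk_mul, QuotientGroup.mk_inv, map_mul, map_inv, ha, hb,
        DihedralGroup.inv_r, DihedralGroup.inv_sr, DihedralGroup.r_mul_sr, DihedralGroup.sr_mul_r,
        DihedralGroup.sr_mul_sr, DihedralGroup.one_def, DihedralGroup.r.injEq] at h1
      have h2 : ((2 : ℕ) : ZMod (2 ^ n)) = 0 := by push_cast; linear_combination h1
      rw [ZMod.natCast_eq_zero_iff] at h2
      have h4 : 2 ^ 2 ≤ 2 ^ n := Nat.pow_le_pow_right (by norm_num) hn
      have := Nat.le_of_dvd (by norm_num) h2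
      omega
    · have h1 : y = x := by rw [← hzx, ← Subgroup.mem_center_iff.mp hzc x]; group
      rw [h1, inf_idem] at hd
      rw [Subgroup.zpowers_eq_bot] at hd
      rw [hd, orderOf_one] at hx
      have h4 : 2 ^ 2 ≤ 2 ^ n := Nat.pow_le_pow_right (by norm_num) hn
      omega

variable {G : Subgroup (GL (Fin 3) K)}

theorem Ctx.two_rank (hc : Ctx G) : Cfsg.PRankLE 2 2 (G ⧸ scIn G) := by
  classical
  haveI := hc.fin
  intro B hB hexp
  haveI := hB
  by_contra hcard
  push Not at hcard
  have lift : ∀ b : B, b ≠ 1 → ∃ x : G, orderOf (x : GL (Fin 3) K) = 2 ∧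
      QuotientGroup.mk' (scIn G) x = (b : G ⧸ scIn G) := fun b hb =>
    exists_invol_lift hc.sl (orderOf_eq_prime (hexp b b.2) fun e => hb (Subtype.ext e))
  choose L hL1 hL2 using lift
  have hcomm : ∀ (b : B) (hb : b ≠ 1) (c : B) (hc' : c ≠ 1),
      Commute ((L b hb : G) : GL (Fin 3) K) (L c hc' : G) := fun b hb c hc' =>
    commute_of_mk hc.sl (hL1 c hc') (by
      rw [hL2, hL2]
      exact congrArg Subtype.val (mul_comm' b c))
  have hinj : ∀ (b : B) (hb : b ≠ 1) (c : B) (hc' : c ≠ 1),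
      ((L b hb : G) : GL (Fin 3) K) = (L c hc' : G) → b = c := fun b hb c hc' e =>
    Subtype.ext (by rw [← hL2 b hb, ← hL2 c hc', Subtype.ext e])
  haveI := Fintype.ofFinite B
  rw [Nat.card_eq_fintype_card] at hcard
  obtain ⟨t, ht⟩ : ∃ t : B, t ≠ 1 := Fintype.exists_ne_of_one_lt_card (by omega) 1
  obtain ⟨s, hs, hst⟩ : ∃ s : B, s ≠ 1 ∧ s ≠ t := by
    by_contra hcon
    push Not at hcon
    have : (Finset.univ : Finset B) ⊆ {1, t} := fun b _ => by
      rcases eq_or_ne b 1 with rfl | hb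
      · simp
      · simp [hcon b hb]
    have := (Finset.card_le_card this).trans Finset.card_le_two
    rw [Finset.card_univ] at this
    omega
  have hts : t * s ≠ 1 := fun e => hst (by
    rw [eq_inv_of_mul_eq_one_right e]
    exact inv_eq_of_mul_eq_one_right (Subtype.ext (by
      rw [Subgroup.coe_mul, ← pow_two]; exact hexp t t.2)))
  obtain ⟨b, -, hb⟩ := Finset.exists_mem_notMem_of_card_lt_card
    (s := ({1, t, s, t * s} : Finset B)) (t := Finset.univ)
    (Finset.card_le_four.trans_lt (by rw [Finset.card_univ]; omega))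
  simp only [Finset.mem_insert, Finset.mem_singleton, not_or] at hb
  rcases invol_mem_four hc.sl hc.tf hc.two (L t ht).2 (L s hs).2 (hL1 t ht) (hL1 s hs)
    (hcomm t ht s hs) (fun e => hst (hinj t ht s hs e).symm) (L b hb.1).2 (hL1 b hb.1)
    (hcomm b hb.1 t ht) (hcomm b hb.1 s hs) with e | e | e
  · exact hb.2.1 (hinj _ _ _ _ e)
  · exact hb.2.2.1 (hinj _ _ _ _ e)
  · apply hb.2.2.2
    apply Subtype.ext
    rw [Subgroup.coe_mul, ← hL2 b hb.1, ← hL2 t ht, ← hL2 s hs, ← map_mul]
    exact congrArg _ (Subtype.ext e)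

/-- The Sylow 2-subgroups are dihedral, semidihedral or wreathed. -/
theorem Ctx.sylow_type (hc : Ctx G) (S : Sylow 2 (G ⧸ scIn G)) :
    (∃ n : ℕ, 2 ≤ n ∧ Nonempty ((S : Subgroup (G ⧸ scIn G)) ≃* DihedralGroup n)) ∨
      Cfsg.IsQuasiDihedral (S : Subgroup (G ⧸ scIn G)) ∨ Cfsg.IsWreathed (S : Subgroup (G ⧸ scIn G)) := by
  haveI := hc.fin
  haveI := hc.simple
  haveI : Fintype (GaloisField 2 4) := Fintype.ofFinite _
  have hF : Fintype.card (GaloisField 2 4) = 16 := by
    rw [← Nat.card_eq_fintype_card, GaloisField.card 2 4 (by norm_num)]; rfl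
  obtain ⟨P⟩ : Nonempty (Sylow 2 (Cfsg.PSU 3 (GaloisField 2 4) 4)) := inferInstance
  rcases S0516.result hc.nonab hc.two_rank S hF P with h | h | h | ⟨⟨e⟩⟩
  · exact Or.inl h
  · exact Or.inr (Or.inl h)
  · exact Or.inr (Or.inr h)
  exfalso
  obtain ⟨-, -, -, hP2, ⟨x, y, hxy⟩, ⟨u, v, huv, hu1, hu2, hv1, hv2⟩, Kc, -, hK⟩ :=
    S1141.result (n := 2) le_rfl (by rw [hF]; rfl) P
  -- every involution of `P` is central
  have hcen : ∀ w : (P : Subgroup (Cfsg.PSU 3 (GaloisField 2 4) 4)), w ≠ 1 → w * w = 1 →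
      w ∈ Subgroup.center _ := by
    intro w hw1 hw2
    haveI : Nontrivial (P : Subgroup (Cfsg.PSU 3 (GaloisField 2 4) 4)) := ⟨w, 1, hw1⟩
    haveI := hP2.center_nontrivial
    obtain ⟨n, hn⟩ := (hP2.to_subgroup (Subgroup.center _)).exists_card_eq
    have h2 : 2 ∣ Nat.card (Subgroup.center (P : Subgroup (Cfsg.PSU 3 (GaloisField 2 4) 4))) := by
      refine (dvd_pow_self 2 fun e => ?_).trans hn.symm.dvd
      rw [e, pow_zero] at hn
      exact absurd hn Finite.one_lt_card.ne'
    obtain ⟨z, hz⟩ := exists_prime_orderOf_dvd_card' 2 h2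
    have hz' : (z : (P : Subgroup (Cfsg.PSU 3 (GaloisField 2 4) 4))) ≠ 1 := fun e => by
      rw [← Subgroup.orderOf_coe, e, orderOf_one] at hz; exact absurd hz (by decide)
    obtain ⟨k, hk, -⟩ := hK _ w hz' (by
      rw [← Subgroup.coe_mul, show z * z = 1 by rw [← pow_two]; exact orderOf_dvd_iff_pow_eq_one.mp hz.dvd,
        Subgroup.coe_one]) hw1 hw2
    rw [← hk]
    refine Subgroup.mem_center_iff.mpr fun g => ?_
    obtain ⟨g, rfl⟩ := (k : MulAut _).surjective g
    rw [← map_mul, ← map_mul, Subgroup.mem_center_iff.mp z.2 g]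
  have hord : ∀ w : (P : Subgroup (Cfsg.PSU 3 (GaloisField 2 4) 4)), w ≠ 1 → w * w = 1 →
      orderOf ((e.symm w : (S : Subgroup (G ⧸ scIn G))) : G ⧸ scIn G) = 2 := by
    intro w h1 h2
    rw [Subgroup.orderOf_coe, MulEquiv.orderOf_eq]
    exact orderOf_eq_prime (by rw [pow_two]; exact h2) h1
  obtain ⟨tu, ou, eu⟩ := exists_invol_lift hc.sl (hord u hu1 hu2)
  obtain ⟨tv, ov, ev⟩ := exists_invol_lift hc.sl (hord v hv1 hv2)
  have hne : (tu : GL (Fin 3) K) ≠ tv := fun h => huv (e.symm.injective (Subtype.ext (by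
    rw [← eu, ← ev, Subtype.ext h])))
  have key : ∀ w, (∀ r ∈ Subgroup.center (P : Subgroup (Cfsg.PSU 3 (GaloisField 2 4) 4)), Commute w r) :=
    fun w r hr => Subgroup.mem_center_iff.mp hr w
  have hcomm : ∀ (w r : (P : Subgroup (Cfsg.PSU 3 (GaloisField 2 4) 4))), Commute w r →
      ∀ (a b : G), orderOf (b : GL (Fin 3) K) = 2 →
      QuotientGroup.mk' (scIn G) a = ((e.symm w : (S : Subgroup (G ⧸ scIn G))) : G ⧸ scIn G) →
      QuotientGroup.mk' (scIn G) b = ((e.symm r : (S : Subgroup (G ⧸ scIn G))) : G ⧸ scIn G) →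
      Commute (a : GL (Fin 3) K) b := by
    intro w r hwr a b ob ea eb
    refine commute_of_mk hc.sl ob ?_
    rw [ea, eb]
    exact (hwr.map e.symm.toMonoidHom).map (Subgroup.subtype _)
  obtain ⟨ax, hax⟩ := QuotientGroup.mk'_surjective (scIn G)
    ((e.symm x : (S : Subgroup (G ⧸ scIn G))) : G ⧸ scIn G)
  obtain ⟨ay, hay⟩ := QuotientGroup.mk'_surjective (scIn G)
    ((e.symm y : (S : Subgroup (G ⧸ scIn G))) : G ⧸ scIn G)
  have cuv : Commute (tu : GL (Fin 3) K) tv := hcomm u v (key u v (hcen v hv1 hv2)) tu tv ov eu ev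
  have hcxy : Commute (ax : GL (Fin 3) K) ay :=
    commute_of_four hc.sl hc.tf hc.two tu.2 tv.2 ou ov cuv hne
      (hcomm x u (key x u (hcen u hu1 hu2)) ax tu ou hax eu)
      (hcomm x v (key x v (hcen v hv1 hv2)) ax tv ov hax ev)
      (hcomm y u (key y u (hcen u hu1 hu2)) ay tu ou hay eu)
      (hcomm y v (key y v (hcen v hv1 hv2)) ay tv ov hay ev)
  refine hxy (e.symm.injective (Subtype.ext ?_))
  rw [map_mul, map_mul, Subgroup.coe_mul, Subgroup.coe_mul, ← hax, ← hay, ← map_mul, ← map_mul]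
  exact congrArg _ (Subtype.ext hcxy.eq)

end Cfsg.Agent.Lib.Mitchell3

namespace Cfsg.Agent.Lib.Mitchell3

open Matrix Module

variable {K : Type*} [Field K] {G : Subgroup (GL (Fin 3) K)}

theorem quaternion_invol_unique {n : ℕ} [NeZero n] {x y : QuaternionGroup n} (hx : x * x = 1)
    (hy : y * y = 1) (hx1 : x ≠ 1) (hy1 : y ≠ 1) : x = y := by
  have key : ∀ w : QuaternionGroup n, w * w = 1 → w ≠ 1 → w = QuaternionGroup.a (n : ZMod (2 * n)) := by
    rintro (i | i) hw hw1
    · rw [QuaternionGroup.a_mul_a, ← QuaternionGroup.a_zero] at hw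
      have h2 : i + i = 0 := QuaternionGroup.a.inj hw
      have hi0 : i.val ≠ 0 := fun e => hw1 (by
        rw [← QuaternionGroup.a_zero, (ZMod.val_eq_zero i).mp e])
      have hd : (2 * n) ∣ i.val + i.val := by
        rw [← ZMod.natCast_eq_zero_iff]
        push_cast
        rw [ZMod.natCast_zmod_val]
        exact h2
      have hlt := ZMod.val_lt i
      obtain ⟨c, hc⟩ := hd
      have : c = 1 := by
        rcases Nat.lt_or_ge c 2 with h | h
        · rcases Nat.eq_zero_or_pos c with rfl | h'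
          · omega
          · omega
        · have : 2 * n * 2 ≤ 2 * n * c := Nat.mul_le_mul_left _ h
          omega
      subst this
      rw [← ZMod.natCast_zmod_val i, show i.val = n by omega]
    · exfalso
      rw [QuaternionGroup.xa_mul_xa, ← QuaternionGroup.a_zero] at hw
      have h2 := QuaternionGroup.a.inj hw
      rw [add_sub_cancel_right] at h2
      rw [ZMod.natCast_eq_zero_iff] at h2
      have := Nat.le_of_dvd (NeZero.pos n) h2
      have := NeZero.pos n
      omega
  rw [key x hx hx1, key y hy hy1]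

theorem perm_four_conj : ∀ v w : Equiv.Perm (Fin 4), v * v = 1 → v ≠ 1 → Equiv.Perm.sign v = 1 →
    w * w = 1 → w ≠ 1 → Equiv.Perm.sign w = 1 → ∃ g : Equiv.Perm (Fin 4), g * v * g⁻¹ = w := by
  decide +kernel

theorem odd_pow_self {X : Type*} [Group X] {x : X} (h : x * x = 1) {n : ℕ} (hn : Odd n) :
    x ^ n = x := by
  obtain ⟨j, rfl⟩ := hn
  rw [pow_succ, pow_mul, pow_two, h, one_pow, one_mul]

theorem odd_map_of_cyclic_index {C X : Type*} [Group C] [Group X] [Finite C] (f : C →* X)
    (Kq : Subgroup C) (hK2 : ∀ H : Subgroup Kq, H.index ≠ 2) (Cc : Subgroup f.range)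
    (hCc : IsCyclic Cc) (hCi : Cc.index ≤ 2) : Odd (Nat.card (Kq.map f)) := by
  haveI := hCc
  haveI : Finite f.range := Finite.of_surjective _ f.rangeRestrict_surjective
  haveI hN : Cc.Normal := by
    rcases Nat.lt_or_ge Cc.index 2 with h | h
    · have := Cc.index_ne_zero_of_finite
      rw [Subgroup.index_eq_one.mp (by omega : Cc.index = 1)]; infer_instance
    · exact Subgroup.normal_of_index_eq_two (by omega)
  set g := f.rangeRestrict.comp Kq.subtype with hg
  have h1 : (Cc.comap g).index ≤ 2 := by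
    rw [Subgroup.index_comap]
    exact le_trans (Nat.le_of_dvd (Nat.pos_of_ne_zero Cc.index_ne_zero_of_finite)
      (Subgroup.relIndex_dvd_index_of_normal Cc g.range)) hCi
  have h3 : (Cc.comap g).index = 1 := by
    have := (Cc.comap g).index_ne_zero_of_finite
    have := hK2 (Cc.comap g)
    omega
  have hle : g.range ≤ Cc := by
    rintro _ ⟨k, rfl⟩
    exact (Subgroup.index_eq_one.mp h3 ▸ Subgroup.mem_top k : k ∈ Cc.comap g)
  haveI : IsCyclic g.range :=
    isCyclic_of_injective (Subgroup.inclusion hle) (Subgroup.inclusion_injective hle)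
  have hmap : g.range.map f.range.subtype = Kq.map f := by
    rw [MonoidHom.map_range, hg, ← MonoidHom.comp_assoc, MonoidHom.subtype_comp_rangeRestrict,
      MonoidHom.range_comp, Subgroup.range_subtype]
  rw [← hmap, ← Nat.card_congr (g.range.equivMapOfInjective _ f.range.subtype_injective).toEquiv]
  by_contra heven
  rw [Nat.not_odd_iff_even, even_iff_two_dvd] at heven
  letI : CommGroup g.range := IsCyclic.commGroup
  refine hK2 ((powMonoidHom 2 : g.range →* g.range).range.comap g.rangeRestrict) ?_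
  rw [Subgroup.index_comap_of_surjective _ g.rangeRestrict_surjective,
    IsCyclic.index_powMonoidHom_range]
  exact Nat.gcd_eq_right heven

set_option maxHeartbeats 2000000 in
/-- The data attached to an involution when the Sylow 2-subgroups are semidihedral or wreathed. -/
theorem Ctx.invol_data [IsAlgClosed K] (hc : Ctx G) {p : ℕ} [Fact p.Prime] [CharP K p]
    (S : Sylow 2 (G ⧸ scIn G))
    (hS : Cfsg.IsQuasiDihedral (S : Subgroup (G ⧸ scIn G)) ∨ Cfsg.IsWreathed (S : Subgroup (G ⧸ scIn G)))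
    {t : GL (Fin 3) K} (ht : t ∈ G) {a φ : Fin 3 → K} (hd : HomData t a φ (-1)) :
    ∃ σ : cenG G t →* Equiv.Perm (Fin 4), Function.Surjective σ ∧
      (∀ x : cenG G t, σ x = 1 ↔ (x : GL (Fin 3) K) ∈ homGrp G hd.dot) ∧
      Nat.card (S : Subgroup (G ⧸ scIn G)) = 8 * 2 ^ (Nat.card (homGrp G hd.dot)).factorization 2 ∧
      (∃ s ∈ cenG G t, orderOf s = 2 ∧ s ≠ t) ∧
      ((Nat.card (homGrp G hd.dot)).factorization 2 = 1 →
        ∀ s : cenG G t, orderOf s = 2 → (s : GL (Fin 3) K) ≠ t → Equiv.Perm.sign (σ s) = -1) := by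
  classical
  haveI := hc.fin
  haveI := hc.simple
  haveI : Fact (Nat.Prime 2) := ⟨Nat.prime_two⟩
  have hp2 : p ≠ 2 := fun e => hc.two (by subst e; exact_mod_cast CharP.cast_eq_zero K 2)
  have ot := invol_of_homData hc.two hd
  have hidx : ∀ H : Subgroup (G ⧸ scIn G), H.index ≠ 2 := by
    intro H hH
    haveI := Subgroup.normal_of_index_eq_two hH
    rcases IsSimpleGroup.eq_bot_or_eq_top_of_normal H inferInstance with rfl | rfl
    · rw [Subgroup.index_bot] at hH
      haveI : Fact (Nat.card (G ⧸ scIn G)).Prime := ⟨hH ▸ Nat.prime_two⟩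
      haveI : IsCyclic (G ⧸ scIn G) := isCyclic_of_prime_card rfl
      exact hc.nonab ⟨⟨fun x y => (IsCyclic.commGroup (α := G ⧸ scIn G)).mul_comm x y⟩⟩
    · rw [Subgroup.index_top] at hH; exact absurd hH (by norm_num)
  set q := QuotientGroup.mk' (scIn G) ⟨t, ht⟩ with hq
  have oq : orderOf q = 2 := mk_invol_ne_one hc.sl (t := ⟨t, ht⟩) ot
  obtain ⟨R, hRcard, ⟨Kq, hKn, ⟨e2, hKi⟩, hK2, hKP⟩, -⟩ := S1213.result S hS hidx q oq
  haveI := hKn
  -- the two maps out of the centraliser
  haveI : Finite (cenG G t) := Finite.of_injective _ (Subgroup.inclusion_injective inf_le_left)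
  haveI : Finite (homGrp G hd.dot) :=
    Finite.of_injective _ (Subgroup.inclusion_injective (homGrp_le hd.dot))
  let Cq := Subgroup.centralizer ({q} : Set (G ⧸ scIn G))
  let π : cenG G t →* Cq :=
    ((QuotientGroup.mk' (scIn G)).comp (Subgroup.inclusion inf_le_left)).codRestrict Cq fun x =>
      Subgroup.mem_centralizer_singleton_iff.mpr (by
        rw [MonoidHom.comp_apply, hq, ← map_mul, ← map_mul]
        exact congrArg _ (Subtype.ext (mem_cenG.mp x.2).2.eq))
  have hπv : ∀ x, (π x : G ⧸ scIn G) = QuotientGroup.mk' (scIn G) ⟨x, (mem_cenG.mp x.2).1⟩ := fun _ => rfl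
  have hπs : Function.Surjective π := by
    rintro ⟨y, hy⟩
    obtain ⟨x, rfl⟩ := QuotientGroup.mk'_surjective (scIn G) y
    refine ⟨⟨x, mem_cenG.mpr ⟨x.2, commute_of_mk hc.sl (t := ⟨t, ht⟩) ot ?_⟩⟩, Subtype.ext (hπv _)⟩
    exact Subgroup.mem_centralizer_singleton_iff.mp hy
  have hkerπ : ∀ x : cenG G t, π x = 1 ↔ IsSc (x : GL (Fin 3) K) := fun x => by
    rw [Subtype.ext_iff, hπv, Subgroup.coe_one, QuotientGroup.mk'_apply, QuotientGroup.eq_one_iff,
      mem_scIn]
  obtain ⟨ρ, hρ⟩ := exists_axis_hom hc.sl hd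
  have hkle : π.ker ≤ ρ.ker := fun x hx => (hρ x).mpr
    (sc_mem_homGrp hc.sl hd.dot (mem_cenG.mp x.2).1 ((hkerπ x).mp hx))
  let ρq : Cq →* Matrix.ProjectiveSpecialLinearGroup (Fin 2) K := π.liftOfSurjective hπs ⟨ρ, hkle⟩
  have hρq : ∀ x, ρq (π x) = ρ x := fun x => π.liftOfRightInverse_comp_apply _ _ ⟨ρ, hkle⟩ x
  have hkerq : ∀ r : Cq, ρq r = 1 → ∃ x : cenG G t, π x = r ∧ (x : GL (Fin 3) K) ∈ homGrp G hd.dot := by
    intro r hr
    obtain ⟨x, rfl⟩ := hπs r
    exact ⟨x, rfl, (hρ x).mp (by rw [← hρq, hr])⟩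
  have hkcen : ∀ r : Cq, ρq r = 1 → ∀ u : Cq, Commute u r := by
    intro r hr u
    obtain ⟨x, rfl, hx⟩ := hkerq r hr
    obtain ⟨y, rfl⟩ := hπs u
    exact Commute.map (show Commute y x from Subtype.ext (commute_homGrp hc.tf ht (mem_cenG.mp y.2).1 hd
      (mem_cenG.mp y.2).2 hx).eq) π
  haveI hkcyc : IsCyclic ρq.ker := by
    haveI : IsCyclic (homGrp G hd.dot) := homGrp_cyclic hd.dot
    haveI : IsCyclic ρ.ker := isCyclic_of_injective
      (((cenG G t).subtype.comp ρ.ker.subtype).codRestrict (homGrp G hd.dot) fun x => (hρ x).mp x.2)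
      fun x y e => Subtype.ext (Subtype.ext (congrArg Subtype.val e :))
    refine isCyclic_of_surjective ((π.comp ρ.ker.subtype).codRestrict ρq.ker fun x => by
      rw [MonoidHom.mem_ker, MonoidHom.comp_apply, hρq]; exact x.2) ?_
    rintro ⟨r, hr⟩
    obtain ⟨x, rfl, hx⟩ := hkerq r hr
    exact ⟨⟨x, (hρ x).mpr hx⟩, rfl⟩
  -- the Sylow subgroup of the centraliser is isomorphic to `S`
  obtain ⟨eRS⟩ : Nonempty ((R : Subgroup Cq) ≃* (S : Subgroup (G ⧸ scIn G))) := by
    let T : Sylow 2 (G ⧸ scIn G) := Sylow.ofCard ((R : Subgroup Cq).map Cq.subtype) (by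
      rw [Nat.card_congr ((R : Subgroup Cq).equivMapOfInjective _ Cq.subtype_injective).toEquiv.symm]
      exact hRcard.trans S.card_eq_multiplicity)
    exact ⟨((R : Subgroup Cq).equivMapOfInjective _ Cq.subtype_injective).trans
      (Sylow.equiv T S)⟩
  obtain ⟨hnab, u, v, ou, ov, huv⟩ := sd_wreathed_facts hS
  haveI : Finite ρq.range := Finite.of_surjective _ ρq.rangeRestrict_surjective
  haveI : ∀ L : Subgroup Cq, Finite (L.map ρq) := fun L =>
    Finite.of_surjective _ (ρq.subgroupMap_surjective L)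
  have hX : ¬ p ∣ Nat.card ρq.range := fun h => by
    apply not_dvd_cenG (p := p) hc.sl hc.tf hd
    refine dvd_trans h ?_
    have h' := Subgroup.card_dvd_of_surjective (ρq.comp π).rangeRestrict
      (ρq.comp π).rangeRestrict_surjective
    rwa [MonoidHom.range_comp, MonoidHom.range_eq_top.mpr hπs, ← MonoidHom.range_eq_map] at h'
  -- the image of `Kq` has even order
  have hKeven : ¬ Odd (Nat.card (Kq.map ρq)) := by
    intro hodd
    obtain ⟨P⟩ : Nonempty (Sylow 2 Kq) := inferInstance
    obtain ⟨m, hm, ⟨eP⟩⟩ := hKP P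
    have hP : ∀ k ∈ (P : Subgroup Kq), ρq (k : Cq) = 1 := by
      intro k hk
      obtain ⟨j, hj⟩ := P.isPGroup' ⟨k, hk⟩
      rw [Subtype.ext_iff, Subgroup.coe_pow, Subgroup.coe_one] at hj
      have h1 : ρq (k : Cq) ^ (2 ^ j) = 1 := by
        rw [← map_pow, ← Subgroup.coe_pow, hj, Subgroup.coe_one, map_one]
      have h2 : ρq (k : Cq) ^ Nat.card (Kq.map ρq) = 1 := by
        have := pow_card_eq_one' (x := (⟨ρq k, ⟨k, k.2, rfl⟩⟩ : Kq.map ρq))
        exact congrArg Subtype.val this
      have := Nat.dvd_gcd (orderOf_dvd_of_pow_eq_one h1) (orderOf_dvd_of_pow_eq_one h2)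
      rwa [(Nat.Coprime.pow_left j (Nat.coprime_two_left.mpr hodd)).gcd_eq_one, Nat.dvd_one,
        orderOf_eq_one_iff] at this
    haveI : IsCyclic (P : Subgroup Kq) := isCyclic_of_injective
      ((Kq.subtype.comp (P : Subgroup Kq).subtype).codRestrict ρq.ker fun k => hP k k.2)
      fun x y e => Subtype.ext (Subtype.ext (congrArg Subtype.val e :))
    exact quaternion_not_cyclic hm (isCyclic_of_surjective eP.toMonoidHom eP.surjective)
  rcases psl_two_cases hc.loc hp2 ρq.range hX with ⟨Cc, hCc, hCi⟩ | hcase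
  · exfalso
    exact hKeven (odd_map_of_cyclic_index ρq Kq hK2 Cc hCc hCi)
  rcases hcase with h12 | h60 | ⟨⟨e4⟩⟩
  pick_goal 3
  · let σq : Cq →* Equiv.Perm (Fin 4) := e4.toMonoidHom.comp ρq.rangeRestrict
    have hσk : ∀ r, σq r = 1 ↔ ρq r = 1 := fun r => by
      rw [MonoidHom.comp_apply, MulEquiv.coe_toMonoidHom, map_eq_one_iff _ e4.injective, Subtype.ext_iff]
      rfl
    have hσs : Function.Surjective σq := e4.surjective.comp ρq.rangeRestrict_surjective
    have hσh : ∀ x, σq (π x) = 1 ↔ (x : GL (Fin 3) K) ∈ homGrp G hd.dot := fun x => by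
      rw [hσk, hρq, hρ]
    have hsurj : Function.Surjective (σq.comp π) := fun v => by
      obtain ⟨r, hr⟩ := hσs v
      obtain ⟨x, rfl⟩ := hπs r
      exact ⟨x, hr⟩
    refine ⟨σq.comp π, hsurj, hσh, ?_, ?_, ?_⟩
    · rw [← Nat.card_congr eRS.toEquiv, R.card_eq_multiplicity]
      have hker : (σq.comp π).ker = (homGrp G hd.dot).subgroupOf (cenG G t) := by
        ext x; exact hσh x
      have hle : homGrp G hd.dot ≤ cenG G t := fun y hy => mem_cenG.mpr ⟨hy.1,
        (commute_homGrp hc.tf ht ht hd (Commute.refl t) hy).symm⟩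
      have h1 : Nat.card (cenG G t) = Nat.card (homGrp G hd.dot) * 24 := by
        rw [← Subgroup.card_mul_index (σq.comp π).ker, hker,
          Nat.card_congr (Subgroup.subgroupOfEquivOfLe hle).toEquiv, ← hker, Subgroup.index_ker,
          MonoidHom.range_eq_top.mpr hsurj, Subgroup.card_top, Nat.card_eq_fintype_card (α := Equiv.Perm (Fin 4))]
        rfl
      have h2 : Nat.card (cenG G t) = Nat.card π.ker * Nat.card Cq := by
        rw [← Subgroup.card_mul_index π.ker, Subgroup.index_ker, MonoidHom.range_eq_top.mpr hπs,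
          Subgroup.card_top]
      have h3 : (Nat.card π.ker).factorization 2 = 0 := by
        apply Nat.factorization_eq_zero_of_not_dvd
        intro h
        obtain ⟨z, hz⟩ := exists_prime_orderOf_dvd_card' 2 h
        have hz' : ((z : cenG G t) : GL (Fin 3) K) ^ 3 = 1 :=
          sc_pow_three hc.sl (mem_cenG.mp z.1.2).1 ((hkerπ _).mp z.2)
        have := orderOf_dvd_of_pow_eq_one hz'
        rw [Subgroup.orderOf_coe, Subgroup.orderOf_coe, hz] at this
        norm_num at this
      have h4 := congrArg (fun n => n.factorization 2) (h1.symm.trans h2)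
      simp only [Nat.factorization_mul Nat.card_pos.ne' (by norm_num : (24 : ℕ) ≠ 0),
        Nat.factorization_mul (Nat.card_pos (α := π.ker)).ne' (Nat.card_pos (α := Cq)).ne',
        Finsupp.add_apply, h3, zero_add] at h4
      have h24 : (24 : ℕ).factorization 2 = 3 := by
        rw [Nat.factorization_def _ Nat.prime_two]; decide +kernel
      show 2 ^ (Nat.card Cq).factorization 2 = _
      rw [← h4, h24, pow_add]; ring
    · obtain ⟨w, how, hwq⟩ : ∃ w : Cq, orderOf w = 2 ∧ (w : G ⧸ scIn G) ≠ q := by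
        by_contra hcon
        push Not at hcon
        refine huv (eRS.symm.injective (Subtype.ext (Subtype.ext ?_)))
        rw [hcon _ (by rw [Subgroup.orderOf_coe, MulEquiv.orderOf_eq, ou]),
          hcon _ (by rw [Subgroup.orderOf_coe, MulEquiv.orderOf_eq, ov])]
      obtain ⟨s, os, hs⟩ := exists_invol_lift hc.sl (q := (w : G ⧸ scIn G))
        (by rw [Subgroup.orderOf_coe]; exact how)
      refine ⟨s, mem_cenG.mpr ⟨s.2, commute_of_mk hc.sl (t := ⟨t, ht⟩) ot ?_⟩, os, fun e => hwq ?_⟩
      · rw [hs]; exact Subgroup.mem_centralizer_singleton_iff.mp w.2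
      · rw [← hs, hq]; exact congrArg _ (Subtype.ext e)
    · intro hone s os hst
      rcases Int.units_eq_one_or (Equiv.Perm.sign ((σq.comp π) s)) with hsign | hsign
      swap
      · exact hsign
      exfalso
      have os' : orderOf (s : GL (Fin 3) K) = 2 := by rw [Subgroup.orderOf_coe]; exact os
      have hs2 : s * s = 1 := by rw [← pow_two, ← os]; exact pow_orderOf_eq_one s
      have ot2 : t * t = 1 := by rw [← pow_two, ← ot]; exact pow_orderOf_eq_one t
      haveI : IsCyclic (homGrp G hd.dot) := homGrp_cyclic hd.dot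
      haveI : Finite (homGrp G hd.dot) :=
        Finite.of_injective _ (Subgroup.inclusion_injective (homGrp_le hd.dot))
      have hinvH : ∀ y ∈ homGrp G hd.dot, orderOf y = 2 → y = t := by
        intro y hy oy
        haveI := Fintype.ofFinite (homGrp G hd.dot)
        have key : 2 ∣ Fintype.card (homGrp G hd.dot) → _ :=
          IsCyclic.card_orderOf_eq_totient (α := homGrp G hd.dot) (d := 2)
        have htm : t ∈ homGrp G hd.dot := ⟨ht, -1, hd.2.1, hd.2.2.2⟩
        have h2d : 2 ∣ Fintype.card (homGrp G hd.dot) := by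
          rw [← ot, ← Nat.card_eq_fintype_card]
          exact Subgroup.orderOf_dvd_natCard _ htm
        have hle := (key h2d).le
        rw [show Nat.totient 2 = 1 from rfl, Finset.card_le_one] at hle
        exact congrArg Subtype.val (hle ⟨y, hy⟩
          (Finset.mem_filter.mpr ⟨Finset.mem_univ _, by rw [← Subgroup.orderOf_coe]; exact oy⟩) ⟨t, htm⟩
          (Finset.mem_filter.mpr ⟨Finset.mem_univ _, by rw [← Subgroup.orderOf_coe]; exact ot⟩))
      set v := σq (π s) with hv
      have hv1 : v ≠ 1 := fun e => hst (hinvH _ ((hσh s).mp e) os')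
      have hv2 : v * v = 1 := by rw [hv, ← map_mul, ← map_mul, hs2, map_one, map_one]
      -- `v` is in the image of `Kq`
      obtain ⟨k0, hk0, hk02, hk01⟩ : ∃ k0 ∈ Kq, σq k0 * σq k0 = 1 ∧ σq k0 ≠ 1 := by
        rw [Nat.not_odd_iff_even, even_iff_two_dvd] at hKeven
        obtain ⟨⟨w, k, hk, hkw⟩, hw⟩ := exists_prime_orderOf_dvd_card' 2 hKeven
        rw [← Subgroup.orderOf_coe] at hw
        subst hkw
        have h1 : orderOf (ρq k) = 2 := hw
        have h2 : ρq (k * k) = 1 := by
          rw [map_mul, ← pow_two]; exact orderOf_dvd_iff_pow_eq_one.mp h1.dvd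
        refine ⟨k, hk, by rw [← map_mul, hσk, h2], fun e => ?_⟩
        rw [(hσk k).mp e, orderOf_one] at h1
        exact absurd h1 (by decide)
      have hsgn : ∀ k ∈ Kq, Equiv.Perm.sign (σq k) = 1 := by
        intro k hk
        let g : Kq →* ℤˣ := Equiv.Perm.sign.comp (σq.comp Kq.subtype)
        have hrng : Nat.card g.range ≤ 2 := by
          refine (Subgroup.card_le_card_group _).trans ?_
          rw [Nat.card_eq_fintype_card]; rfl
        have hker := hK2 g.ker
        rw [Subgroup.index_ker] at hker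
        have hpos : 0 < Nat.card g.range := Nat.card_pos
        have h1 : Nat.card g.range = 1 := by omega
        have := (Subgroup.card_eq_one.mp h1) ▸ (show g ⟨k, hk⟩ ∈ g.range from ⟨_, rfl⟩)
        exact Subgroup.mem_bot.mp this
      obtain ⟨g, hg⟩ := perm_four_conj _ v hk02 hk01 (hsgn k0 hk0) hv2 hv1 hsign
      obtain ⟨g, rfl⟩ := hσs g
      set k1 := g * k0 * g⁻¹ with hk1def
      have hk1 : k1 ∈ Kq := hKn.conj_mem k0 hk0 g
      have hk1v : σq k1 = v := by rw [hk1def, map_mul, map_mul, map_inv, hg]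
      -- kill the odd parts
      set z := k1⁻¹ * π s with hz
      have hzk : ρq z = 1 := (hσk z).mp (by rw [hz, map_mul, map_inv, hk1v, ← hv, inv_mul_cancel])
      have hzc := hkcen z hzk
      set o := orderOf z / 2 ^ (orderOf z).factorization 2 with ho
      have hoo : Odd o := Nat.odd_iff.mpr (by
        have := Nat.not_dvd_ordCompl Nat.prime_two (orderOf_pos z).ne'
        rw [Nat.dvd_iff_mod_eq_zero] at this
        omega)
      have hz4 : ((z ^ o) ^ 2) = 1 := by
        have hdz : (orderOf z).factorization 2 ≤ 1 := by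
          obtain ⟨x, hx, hxH⟩ := hkerq z hzk
          have h1 : orderOf z ∣ orderOf (⟨(x : GL (Fin 3) K), hxH⟩ : homGrp G hd.dot) := by
            rw [← hx, ← Subgroup.orderOf_coe ⟨(x : GL (Fin 3) K), hxH⟩]
            exact (orderOf_map_dvd π x).trans (by rw [← Subgroup.orderOf_coe x])
          have h2 := h1.trans (orderOf_dvd_natCard _)
          exact hone ▸ (Nat.factorization_le_iff_dvd (orderOf_pos z).ne' Nat.card_pos.ne').mpr h2 2
        rw [← pow_mul]
        refine orderOf_dvd_iff_pow_eq_one.mp ?_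
        calc orderOf z = 2 ^ (orderOf z).factorization 2 * o := (Nat.ordProj_mul_ordCompl_eq_self _ 2).symm
          _ ∣ 2 ^ 1 * o := Nat.mul_dvd_mul_right (pow_dvd_pow 2 hdz) o
          _ = o * 2 := by ring
      have hπs2 : π s * π s = 1 := by rw [← map_mul, hs2, map_one]
      have hks : π s = k1 ^ o * z ^ o := by
        rw [← (hzc k1).mul_pow, hz, mul_inv_cancel_left, odd_pow_self hπs2 hoo]
      have hzo : (z ^ o) * (z ^ o) = 1 := by rw [← pow_two]; exact hz4
      have hk1o : k1 ^ o * k1 ^ o = 1 := by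
        have e : k1 ^ o = π s * z ^ o := by rw [hks, mul_assoc, hzo, mul_one]
        rw [e, ((hzc (π s)).pow_right o).symm.mul_mul_mul_comm, hπs2, hzo, one_mul]
      have hk1one : k1 ^ o ≠ 1 := fun e => hv1 (by
        rw [← odd_pow_self hv2 hoo, ← hk1v, ← map_pow, e, map_one])
      -- a Sylow subgroup of `Kq` through `k1 ^ o` also contains a central involution
      have hord : orderOf (⟨k1 ^ o, Kq.pow_mem hk1 o⟩ : Kq) = 2 := by
        rw [← Subgroup.orderOf_coe]; exact orderOf_eq_prime (by rw [pow_two]; exact hk1o) hk1one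
      obtain ⟨P, hP⟩ := IsPGroup.exists_le_sylow (G := Kq) (p := 2)
        (P := Subgroup.zpowers (⟨k1 ^ o, Kq.pow_mem hk1 o⟩ : Kq))
        (IsPGroup.of_card (n := 1) (by rw [Nat.card_zpowers, hord, pow_one]))
      obtain ⟨m, hm, ⟨eP⟩⟩ := hKP P
      haveI : NeZero (2 ^ m) := ⟨by positivity⟩
      set y : (P : Subgroup Kq) := eP.symm (QuaternionGroup.xa 0) with hy
      have hy2 : y * y ≠ 1 := fun e => by
        have h := congrArg eP e
        rw [map_mul, hy, MulEquiv.apply_symm_apply, QuaternionGroup.xa_mul_xa, map_one,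
          ← QuaternionGroup.a_zero, add_sub_cancel_right] at h
        have h2 := QuaternionGroup.a.inj h
        rw [ZMod.natCast_eq_zero_iff] at h2
        have := Nat.le_of_dvd (by positivity) h2
        have : 0 < 2 ^ m := by positivity
        omega
      have hy4 : (y * y) * (y * y) = 1 := by
        apply eP.injective
        rw [map_mul, map_mul, hy, MulEquiv.apply_symm_apply, QuaternionGroup.xa_mul_xa, map_one,
          add_sub_cancel_right, QuaternionGroup.a_mul_a, ← QuaternionGroup.a_zero]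
        congr 1
        rw [← Nat.cast_add, ZMod.natCast_eq_zero_iff]
        exact ⟨1, by ring⟩
      set kk : (P : Subgroup Kq) := ⟨⟨k1 ^ o, Kq.pow_mem hk1 o⟩, hP (Subgroup.mem_zpowers _)⟩
      have he : y * y = kk := eP.injective (quaternion_invol_unique
        (by rw [← map_mul, hy4, map_one])
        (by rw [← map_mul, show kk * kk = 1 from Subtype.ext (Subtype.ext hk1o), map_one])
        (fun h => hy2 (eP.injective (h.trans (map_one eP).symm)))
        (fun h => hk1one (congrArg (fun w : (P : Subgroup Kq) => ((w : Kq) : Cq))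
          (eP.injective (h.trans (map_one eP).symm)))))
      -- an element of sign one is never a square root of a non-trivial one
      have hsq : σq ((y : Kq) : Cq) * σq ((y : Kq) : Cq) = v := by
        rw [← map_mul]
        have := congrArg (fun w : (P : Subgroup Kq) => σq ((w : Kq) : Cq)) he
        simp only [Subgroup.coe_mul] at this
        rw [this, map_pow, hk1v, odd_pow_self hv2 hoo]
      have hsy := hsgn _ (y : Kq).2
      have hno : ∀ w : Equiv.Perm (Fin 4), Equiv.Perm.sign w = 1 → (w * w) * (w * w) = 1 → w * w = 1 := by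
        decide +kernel
      exact hv1 (hsq ▸ hno _ hsy (by rw [hsq]; exact hv2))
  all_goals
    exfalso
    -- the image of the Sylow subgroup has order at most four
    obtain ⟨a', b', hab⟩ := hnab
    apply hab
    let a := eRS.symm a'
    let b := eRS.symm b'
    set Rm := (R : Subgroup Cq).map ρq
    have hdiv : Nat.card Rm ∣ Nat.card ρq.range :=
      Subgroup.card_dvd_of_le (fun x hx => by obtain ⟨k, -, rfl⟩ := hx; exact ⟨k, rfl⟩)
    obtain ⟨j, hj⟩ := (IsPGroup.map R.isPGroup' ρq).exists_card_eq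
    have hj2 : j ≤ 2 := by
      by_contra hcon
      push Not at hcon
      have := (Nat.pow_dvd_pow 2 hcon).trans (hj ▸ hdiv)
      first
        | (rw [h12] at this; norm_num at this)
        | (rw [h60] at this; norm_num at this)
    have hcomm : ∀ x y : Rm, x * y = y * x := by
      interval_cases j
      · haveI : Subsingleton Rm := (Nat.card_eq_one_iff_unique.mp (hj.trans (pow_zero 2))).1
        exact fun x y => Subsingleton.elim _ _
      · haveI : IsCyclic Rm := isCyclic_of_prime_card (hj.trans (pow_one 2))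
        exact fun x y => (IsCyclic.commGroup (α := Rm)).mul_comm x y
      · exact fun x y => (IsPGroup.commGroupOfCardEqPrimeSq hj).mul_comm x y
    have hk : ρq ((a * b * a⁻¹ * b⁻¹ : (R : Subgroup Cq)) : Cq) = 1 := by
      have := congrArg Subtype.val (hcomm ⟨ρq a, _, a.2, rfl⟩ ⟨ρq b, _, b.2, rfl⟩)
      simp only [Subgroup.coe_mul, Subgroup.coe_inv, map_mul, map_inv] at this ⊢
      rw [this]; group
    rw [Subgroup.mem_center_iff]
    intro w
    apply eRS.symm.injective
    simp only [map_mul, map_inv]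
    exact Subtype.ext (hkcen _ hk _).eq

end Cfsg.Agent.Lib.Mitchell3
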